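import Cfsg.Agent.Lib.PSL2.KleinPsl

/-!
Involutions of `PSL₂(q)`, `q` odd: conjugacy and centralisers.
-/

set_option autoImplicit false
set_option linter.unusedSectionVars false

open Matrix

namespace CfsgLib.PSL2

variable {F : Type*} [Field F] [Fintype F]

local notation "PSL" => ProjectiveSpecialLinearGroup (Fin 2) F
local notation "SL2" => SpecialLinearGroup (Fin 2) F
local notation "M2" => Matrix (Fin 2) (Fin 2) F

theorem lift_orderOf_two (h2 : (2 : F) ≠ 0) {M : SL2}
    (hx : orderOf (QuotientGroup.mk M : PSL) = 2) :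
    (M : M2) * M = -1 ∧ (M : M2).trace = 0 ∧ ∀ s : F, (M : M2) ≠ s • 1 := by
  have hc : M ∉ Subgroup.center SL2 := fun h => by
    rw [(QuotientGroup.eq_one_iff M).2 h, orderOf_one] at hx
    omega
  have hsq : M ^ 2 ∈ Subgroup.center SL2 := by
    rw [← QuotientGroup.eq_one_iff, QuotientGroup.mk_pow]
    exact orderOf_dvd_iff_pow_eq_one.1 hx.dvd
  have hns : ∀ s : F, (M : M2) ≠ s • 1 := fun s h =>
    hc (CfsgLib.SpecLin.SLTwo.mem_center_of_scalar h)
  have hMM : (M : M2) * M = -1 := by
    rcases CfsgLib.SpecLin.SLTwo.mem_center_iff'.1 hsq with h | h <;>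
      rw [sq] at h <;> change (M : M2) * M = _ at h
    · exact absurd (mem_center_of_sq_eq_one h2 (Subtype.ext (by rw [sq]; exact h))) hc
    · exact h
  refine ⟨hMM, ?_, hns⟩
  have := CfsgLib.SpecLin.SLTwo.sq_eq (M : M2) M.2
  rw [hMM, eq_comm, sub_eq_iff_eq_add, neg_add_cancel] at this
  refine (smul_eq_zero.1 this).resolve_right fun h => hns 0 ?_
  rw [h, zero_smul]

theorem isConj_of_orderOf_two (h2 : (2 : F) ≠ 0) {x y : PSL} (hx : orderOf x = 2)
    (hy : orderOf y = 2) : IsConj x y := by
  obtain ⟨M, rfl⟩ := QuotientGroup.mk_surjective x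
  obtain ⟨N, rfl⟩ := QuotientGroup.mk_surjective y
  obtain ⟨-, hM, hMs⟩ := lift_orderOf_two h2 hx
  obtain ⟨-, hN, hNs⟩ := lift_orderOf_two h2 hy
  refine (QuotientGroup.mk' _).map_isConj (CfsgLib.SpecLin.SLTwo.isConj_of_trace_eq (Or.inr ?_) hMs hNs
    (hM.trans hN.symm))
  rw [hM]
  intro e
  exact mul_ne_zero h2 h2 (by linear_combination -e)

theorem card_centralizer_conj {G : Type*} [Group G] {a b : G} (h : IsConj a b) :
    Nat.card (Subgroup.centralizer {a} : Subgroup G) =
      Nat.card (Subgroup.centralizer {b} : Subgroup G) := by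
  obtain ⟨g, rfl⟩ := isConj_iff.1 h
  refine Nat.card_congr ((MulAut.conj g).toEquiv.subtypeEquiv fun x => ?_)
  simp only [Subgroup.mem_centralizer_singleton_iff]
  show x * a = a * x ↔ g * x * g⁻¹ * (g * a * g⁻¹) = g * a * g⁻¹ * (g * x * g⁻¹)
  rw [show g * x * g⁻¹ * (g * a * g⁻¹) = g * (x * a) * g⁻¹ by group,
    show g * a * g⁻¹ * (g * x * g⁻¹) = g * (a * x) * g⁻¹ by group, mul_left_inj, mul_right_inj]

theorem eq_of_orderOf_two {G : Type*} [Group G] [IsCyclic G] [Finite G] {a b : G} (ha : orderOf a = 2)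
    (hb : orderOf b = 2) : a = b := by
  classical
  have : Fintype G := Fintype.ofFinite G
  by_contra hne
  have h := IsCyclic.card_pow_eq_one_le (α := G) (n := 2) Nat.two_pos
  have hsub : ({1, a, b} : Finset G) ⊆ Finset.univ.filter fun x => x ^ 2 = 1 := by
    intro x hx
    simp only [Finset.mem_insert, Finset.mem_singleton] at hx
    rw [Finset.mem_filter]
    refine ⟨Finset.mem_univ _, ?_⟩
    rcases hx with rfl | rfl | rfl
    · exact one_pow 2
    · rw [← ha]; exact pow_orderOf_eq_one _
    · rw [← hb]; exact pow_orderOf_eq_one _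
  have h3 : ({1, a, b} : Finset G).card = 3 := by
    refine Finset.card_eq_three.2 ⟨1, a, b, ?_, ?_, hne, rfl⟩ <;>
      · intro e; first | (rw [← e, orderOf_one] at ha; omega) | (rw [← e, orderOf_one] at hb; omega)
  have := (Finset.card_le_card hsub).trans h
  omega

/-- The centraliser of an involution is dihedral of order `q ± 1`. -/
theorem exists_centralizer_eq [DecidableEq F] (hodd : Odd (Fintype.card F)) {L : Type*} [Field L]
    [DecidableEq L] [IsAlgClosed L] {ι : F →+* L} {Φ : L →+* L} (hΦ : ∀ z, Φ z = z ^ Fintype.card F)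
    {x y : OnePoint L} {e : ℕ} (h : IsPair ι Φ x y e) (h4 : 4 ∣ e) :
    ∃ i : PSL, orderOf i = 2 ∧ Subgroup.centralizer {i} = pslPair ι x y ∧
      Nat.card (pslPair ι x y) = e := by
  have hd := gcd_eq_two hodd
  have hc : Nat.card (pslFix ι x y) = e / 2 := by rw [card_pslFix hΦ h, hd]
  have : Fact (Nat.Prime 2) := ⟨Nat.prime_two⟩
  obtain ⟨⟨i, hi⟩, hord⟩ := exists_prime_orderOf_dvd_card' (G := pslFix ι x y) 2 (by
    rw [hc]; omega)
  rw [Subgroup.orderOf_mk] at hord
  have hi1 : i ≠ 1 := fun e => by rw [e, orderOf_one] at hord; omega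
  have hne := (map_ne_one_iff _ (pslLineHom_injective ι)).2 hi1
  have hcyc := isCyclic_pslFix hΦ (ι := ι) h.1
  refine ⟨i, hord, ?_, ?_⟩
  · ext g
    rw [Subgroup.mem_centralizer_singleton_iff]
    constructor
    · intro hg
      have key : ∀ z, pslLineHom ι i z = z → pslLineHom ι g z = x ∨ pslLineHom ι g z = y := by
        intro z hz
        have hfix : pslLineHom ι i (pslLineHom ι g z) = pslLineHom ι g z := by
          rw [← Equiv.Perm.mul_apply, ← map_mul, ← hg, map_mul, Equiv.Perm.mul_apply, hz]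
        rcases fix_le_two_perm (pslLineHom_mem_range ι i) hne hi.1 hi.2 hfix with e | e | e
        · exact absurd e h.1
        · exact Or.inl e.symm
        · exact Or.inr e.symm
      show ProjectiveSpecialLinearGroup.toPGL g ∈ pairStab ι x y
      rcases key x hi.1 with ha | ha <;> rcases key y hi.2 with hb | hb
      · exact absurd ((pslLineHom ι g).injective (ha.trans hb.symm)) h.1
      · exact Or.inl ⟨ha, hb⟩
      · exact Or.inr ⟨ha, hb⟩
      · exact absurd ((pslLineHom ι g).injective (ha.trans hb.symm)) h.1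
    · intro hg
      have hfix : g * i * g⁻¹ ∈ pslFix ι x y := by
        have hinv := inv_mem hg
        have hmap : ∀ z, (z = x ∨ z = y) → pslLineHom ι (g * i * g⁻¹) z = z := by
          intro z hz
          have hz' : pslLineHom ι g⁻¹ z = x ∨ pslLineHom ι g⁻¹ z = y := by
            rcases hinv with ⟨h1, h2⟩ | ⟨h1, h2⟩ <;> rcases hz with rfl | rfl
            exacts [Or.inl h1, Or.inr h2, Or.inr h1, Or.inl h2]
          rw [map_mul, map_mul, Equiv.Perm.mul_apply, Equiv.Perm.mul_apply]
          rcases hz' with e | e <;> rw [e]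
          · rw [show pslLineHom ι i x = x from hi.1, ← e, map_inv, Equiv.Perm.coe_inv,
              Equiv.apply_symm_apply]
          · rw [show pslLineHom ι i y = y from hi.2, ← e, map_inv, Equiv.Perm.coe_inv,
              Equiv.apply_symm_apply]
        exact ⟨hmap x (Or.inl rfl), hmap y (Or.inr rfl)⟩
      have ho : orderOf (g * i * g⁻¹) = 2 :=
        (orderOf_injective (MulAut.conj g).toMonoidHom (MulEquiv.injective _) i).trans hord
      have := eq_of_orderOf_two (a := (⟨_, hfix⟩ : pslFix ι x y)) (b := ⟨i, hi⟩)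
        (by rw [Subgroup.orderOf_mk]; exact ho) (by rw [Subgroup.orderOf_mk]; exact hord)
      exact mul_inv_eq_iff_eq_mul.1 (congrArg Subtype.val this)
  · rw [(pslPair_dihedral hΦ h).1, hd]
    omega

/-- The order of the centraliser of an involution. -/
theorem card_centralizer_involution (hodd : Odd (Fintype.card F)) {i : PSL} (hi : orderOf i = 2) :
    Nat.card (Subgroup.centralizer {i} : Subgroup PSL) =
      if Fintype.card F % 4 = 1 then Fintype.card F - 1 else Fintype.card F + 1 := by
  classical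
  obtain ⟨p, hp⟩ := CharP.exists F
  have : Fact p.Prime := ⟨CharP.char_is_prime F p⟩
  let ι : F →+* AlgebraicClosure F := algebraMap F _
  have : CharP (AlgebraicClosure F) p := charP_of_injective_ringHom ι.injective p
  obtain ⟨Φ, hΦ⟩ := exists_frob (F := F) (L := AlgebraicClosure F) p
  have h2 := two_ne_zero_of_odd hodd
  have hq := Fintype.one_lt_card (α := F)
  rw [Nat.odd_iff] at hodd
  split_ifs with h4
  · obtain ⟨x, y, h⟩ := exists_isPair_split (ι := ι) (Φ := Φ)
    obtain ⟨j, hj, hC, hc⟩ := exists_centralizer_eq (Nat.odd_iff.2 hodd) hΦ h (by omega)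
    rw [card_centralizer_conj (isConj_of_orderOf_two h2 hi hj), hC, hc]
  · obtain ⟨x, y, h⟩ := exists_isPair_nonsplit hΦ (ι := ι)
    obtain ⟨j, hj, hC, hc⟩ := exists_centralizer_eq (Nat.odd_iff.2 hodd) hΦ h (by omega)
    rw [card_centralizer_conj (isConj_of_orderOf_two h2 hi hj), hC, hc]

theorem card_center_sl (h2 : (2 : F) ≠ 0) : Nat.card (Subgroup.center SL2) = 2 := by
  rw [Nat.card_eq_two_iff]
  have hm : ((-1 : SL2) : M2) = -1 := by simp
  refine ⟨1, ⟨-1, CfsgLib.SpecLin.SLTwo.mem_center_iff'.2 (Or.inr hm)⟩, fun e => ?_, ?_⟩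
  · have h := congrFun (congrFun (congrArg Subtype.val (congrArg Subtype.val e)) 0) 0
    simp at h
    exact h2 (by linear_combination h)
  · refine Set.eq_univ_of_forall fun z => ?_
    rcases CfsgLib.SpecLin.SLTwo.mem_center_iff'.1 z.2 with e | e
    · exact Or.inl (Subtype.ext (Subtype.ext e))
    · exact Or.inr (Subtype.ext (Subtype.ext (e.trans hm.symm)))

/-- A subgroup of order four of `SL₂(q)` maps onto an involution. -/
theorem exists_generator_four (h2 : (2 : F) ≠ 0) {A : Subgroup SL2} (hA : Nat.card A = 4) :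
    ∃ a : SL2, A = Subgroup.zpowers a ∧ orderOf (QuotientGroup.mk a : PSL) = 2 := by
  obtain ⟨a, ha, hc⟩ : ∃ a ∈ A, a ∉ Subgroup.center SL2 := by
    by_contra! h
    have := Subgroup.card_le_of_le (show A ≤ Subgroup.center SL2 from h)
    rw [hA, card_center_sl h2] at this
    omega
  have h4 : a ^ 4 = 1 := by
    rw [← hA]; exact congrArg Subtype.val (pow_card_eq_one' (x := (⟨a, ha⟩ : A)))
  have hm2 : a ^ 2 ∈ Subgroup.center SL2 := by
    refine mem_center_of_sq_eq_one h2 ?_
    rw [← pow_mul]; exact h4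
  have hord : orderOf (QuotientGroup.mk a : PSL) = 2 :=
    orderOf_eq_prime (hp := ⟨Nat.prime_two⟩)
      (by rw [← QuotientGroup.mk_pow]; exact (QuotientGroup.eq_one_iff _).2 hm2)
      (fun e => hc ((QuotientGroup.eq_one_iff _).1 e))
  refine ⟨a, ?_, hord⟩
  obtain ⟨hMM, -, -⟩ := lift_orderOf_two h2 hord
  have ho : orderOf a = 4 := by
    refine orderOf_eq_prime_pow (p := 2) (n := 1) (hp := ⟨Nat.prime_two⟩) ?_ h4
    intro e
    rw [pow_one, sq] at e
    have := congrArg Subtype.val e
    change (a : M2) * a = 1 at this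
    rw [hMM] at this
    have h00 := congrFun (congrFun this 0) 0
    simp at h00
    exact h2 (by linear_combination -h00)
  exact (Subgroup.eq_of_le_of_card_ge (Subgroup.zpowers_le.2 ha)
    (by rw [Nat.card_zpowers, ho, hA])).symm

/-- The normaliser of a subgroup of order four is the preimage of the centraliser. -/
theorem normalizer_zpowers_eq (h2 : (2 : F) ≠ 0) {a : SL2}
    (ha : orderOf (QuotientGroup.mk a : PSL) = 2) :
    Subgroup.normalizer (Subgroup.zpowers a : Set SL2) =
      (Subgroup.centralizer {(QuotientGroup.mk a : PSL)}).comap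
        (QuotientGroup.mk' (Subgroup.center SL2)) := by
  obtain ⟨hMM, -, -⟩ := lift_orderOf_two h2 ha
  have hm1 : ((-1 : SL2) : M2) = -1 := by simp
  have hinv : a * a = -1 := Subtype.ext (hMM.trans hm1.symm)
  have hneg : -a ∈ Subgroup.zpowers a := by
    rw [show -a = a * a * a by rw [hinv]; simp]
    exact mul_mem (mul_mem (Subgroup.mem_zpowers a) (Subgroup.mem_zpowers a)) (Subgroup.mem_zpowers a)
  have hpm : ∀ u : SL2, (QuotientGroup.mk u : PSL) = QuotientGroup.mk a → u = a ∨ u = -a := by
    intro u hu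
    have hz : a⁻¹ * u ∈ Subgroup.center SL2 := QuotientGroup.eq.1 hu.symm
    rcases CfsgLib.SpecLin.SLTwo.mem_center_iff'.1 hz with e | e
    · have e' : a⁻¹ * u = 1 := Subtype.ext e
      exact Or.inl (inv_mul_eq_one.1 e').symm
    · refine Or.inr ?_
      have e' : a⁻¹ * u = -1 := Subtype.ext (e.trans hm1.symm)
      rw [inv_mul_eq_iff_eq_mul] at e'
      rw [e']; simp
  ext g
  rw [Subgroup.mem_comap, Subgroup.mem_centralizer_singleton_iff, QuotientGroup.mk'_apply,
    mem_normalizer_iff_map_eq, MonoidHom.map_zpowers]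
  constructor
  · intro h
    have hg : g * a * g⁻¹ ∈ Subgroup.zpowers a := by
      rw [← h]; exact Subgroup.mem_zpowers _
    obtain ⟨k, hk⟩ := hg
    have hk' : (QuotientGroup.mk a : PSL) ^ k = QuotientGroup.mk (g * a * g⁻¹) := by
      rw [← QuotientGroup.mk_zpow]; exact congrArg _ hk
    rw [← mul_inv_eq_iff_eq_mul, ← QuotientGroup.mk_inv, ← QuotientGroup.mk_mul, ← QuotientGroup.mk_mul,
      ← hk']
    rw [← zpow_mod_orderOf, ha]
    rcases Int.emod_two_eq_zero_or_one k with e | e <;> push_cast <;> rw [e]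
    · exfalso
      rw [← zpow_mod_orderOf, ha] at hk'
      push_cast at hk'
      rw [e, zpow_zero, QuotientGroup.mk_mul, QuotientGroup.mk_mul, QuotientGroup.mk_inv, eq_comm,
        conj_eq_one_iff] at hk'
      rw [hk', orderOf_one] at ha
      omega
    · exact zpow_one _
  · intro h
    have hu := hpm (g * a * g⁻¹) (by
      rw [QuotientGroup.mk_mul, QuotientGroup.mk_mul, QuotientGroup.mk_inv, h, mul_inv_cancel_right])
    have hle : Subgroup.zpowers ((MulAut.conj g).toMonoidHom a) ≤ Subgroup.zpowers a := by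
      rw [Subgroup.zpowers_le]
      show g * a * g⁻¹ ∈ _
      rcases hu with e | e <;> rw [e]
      exacts [Subgroup.mem_zpowers a, hneg]
    refine Subgroup.eq_of_le_of_card_ge hle ?_
    rw [Nat.card_zpowers, Nat.card_zpowers, orderOf_injective _ (MulEquiv.injective (MulAut.conj g)) a]

theorem card_normalizer_four (hodd : Odd (Fintype.card F)) {A : Subgroup SL2} (hA : Nat.card A = 4) :
    Nat.card (Subgroup.normalizer (A : Set SL2)) =
      2 * if Fintype.card F % 4 = 1 then Fintype.card F - 1 else Fintype.card F + 1 := by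
  have h2 := two_ne_zero_of_odd hodd
  obtain ⟨a, rfl, ha⟩ := exists_generator_four h2 hA
  rw [normalizer_zpowers_eq h2 ha, ← card_centralizer_involution hodd ha]
  set C := Subgroup.centralizer {(QuotientGroup.mk a : PSL)}
  have h1 := (C.comap (QuotientGroup.mk' (Subgroup.center SL2))).card_mul_index
  rw [Subgroup.index_comap_of_surjective _ (QuotientGroup.mk'_surjective _),
    Subgroup.card_eq_card_quotient_mul_card_subgroup (Subgroup.center SL2), card_center_sl h2,
    ← C.card_mul_index] at h1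
  exact Nat.eq_of_mul_eq_mul_right (Nat.pos_of_ne_zero C.index_ne_zero_of_finite) (h1.trans (by ring))

theorem isConj_four (h2 : (2 : F) ≠ 0) {A B : Subgroup SL2} (hA : Nat.card A = 4) (hB : Nat.card B = 4) :
    ∃ g : SL2, B = A.map (MulAut.conj g).toMonoidHom := by
  obtain ⟨a, rfl, ha⟩ := exists_generator_four h2 hA
  obtain ⟨b, rfl, hb⟩ := exists_generator_four h2 hB
  obtain ⟨-, hta, hsa⟩ := lift_orderOf_two h2 ha
  obtain ⟨-, htb, hsb⟩ := lift_orderOf_two h2 hb
  have hc : IsConj a b := by
    refine CfsgLib.SpecLin.SLTwo.isConj_of_trace_eq (Or.inr ?_) hsa hsb (hta.trans htb.symm)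
    rw [hta]
    intro e
    exact mul_ne_zero h2 h2 (by linear_combination -e)
  obtain ⟨g, hg⟩ := isConj_iff.1 hc
  exact ⟨g, by rw [MonoidHom.map_zpowers]; congr 1; exact hg.symm⟩

end CfsgLib.PSL2
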