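import Cfsg.Agent.Lib.PSL2.Borel
import Cfsg.Agent.Classical.SLBasic

/-!
`PGL₂(q)`, its subgroup `PSL₂(q)`, their orders and point stabilisers.
-/

set_option autoImplicit false
set_option linter.unusedSectionVars false

open OnePoint Matrix MulAction

namespace CfsgLib.PSL2

open CfsgLib.PermSmall.Moebius

variable (F : Type*) [Field F]

/-- The image of `SL₂(F)` in `PGL₂(F)`. -/
abbrev pslImage : Subgroup (ProjGenLinGroup (Fin 2) F) :=
  (ProjGenLinGroup.mk.comp SpecialLinearGroup.toGL).range

variable {F}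

theorem range_toPGL : (ProjectiveSpecialLinearGroup.toPGL : ProjectiveSpecialLinearGroup (Fin 2) F →* _).range =
    pslImage F := by
  ext g
  constructor
  · rintro ⟨a, rfl⟩
    obtain ⟨A, rfl⟩ := QuotientGroup.mk_surjective a
    exact ⟨A, (ProjectiveSpecialLinearGroup.toPGL_mk A).symm⟩
  · rintro ⟨A, rfl⟩
    exact ⟨QuotientGroup.mk A, ProjectiveSpecialLinearGroup.toPGL_mk A⟩

/-- `PSL₂(F)` as a subgroup of `PGL₂(F)`. -/
noncomputable def pslEquiv : ProjectiveSpecialLinearGroup (Fin 2) F ≃* pslImage F :=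
  (MonoidHom.ofInjective ProjectiveSpecialLinearGroup.toPGL_injective).trans
    (MulEquiv.subgroupCongr range_toPGL)

theorem mk_mem_pslImage {A : GL (Fin 2) F} :
    ProjGenLinGroup.mk A ∈ pslImage F ↔ IsSquare (A : Matrix (Fin 2) (Fin 2) F).det := by
  constructor
  · rintro ⟨S, hS⟩
    obtain ⟨u, hu⟩ := ProjGenLinGroup.mk_eq_mk_iff.1 hS
    refine ⟨u, ?_⟩
    rw [← hu, Units.val_mul, Matrix.det_mul,
      show ((SpecialLinearGroup.toGL S : GL (Fin 2) F) : Matrix (Fin 2) (Fin 2) F).det = 1 from S.2, one_mul]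
    simp [GeneralLinearGroup.coe_scalar, Matrix.scalar_apply, sq]
  · rintro ⟨r, hr⟩
    have hr0 : r ≠ 0 := fun e => A.det_ne_zero (by rw [hr, e, mul_zero])
    let z : GL (Fin 2) F := GeneralLinearGroup.scalar (Fin 2) (Units.mk0 r⁻¹ (inv_ne_zero hr0))
    have hd : ((A * z : GL (Fin 2) F) : Matrix (Fin 2) (Fin 2) F).det = 1 := by
      rw [Units.val_mul, Matrix.det_mul, hr]
      simp [z, GeneralLinearGroup.coe_scalar, Matrix.scalar_apply]
      field_simp
    let S : SpecialLinearGroup (Fin 2) F := ⟨((A * z : GL (Fin 2) F) : Matrix (Fin 2) (Fin 2) F), hd⟩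
    refine ⟨S, ?_⟩
    show ProjGenLinGroup.mk (SpecialLinearGroup.toGL S) = _
    rw [show SpecialLinearGroup.toGL S = A * z from Units.ext rfl, map_mul,
      ProjGenLinGroup.mk_scalar, mul_one]

instance pslImage_normal : (pslImage F).Normal := by
  refine ⟨fun n hn g => ?_⟩
  induction g using ProjGenLinGroup.induction_on with | mk B =>
  induction n using ProjGenLinGroup.induction_on with | mk A =>
  rw [← map_inv, ← map_mul, ← map_mul, mk_mem_pslImage]
  rw [mk_mem_pslImage] at hn
  rwa [← GeneralLinearGroup.val_det_apply, map_mul, map_mul, map_inv, mul_right_comm, mul_inv_cancel,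
    one_mul, GeneralLinearGroup.val_det_apply]

theorem pslImage_eq_top_of_even [Fintype F] (h : Even (Fintype.card F)) : pslImage F = ⊤ := by
  refine eq_top_iff.2 fun g _ => ?_
  induction g using ProjGenLinGroup.induction_on with | mk A =>
  exact mk_mem_pslImage.2 (FiniteField.isSquare_of_char_two
    (FiniteField.even_card_iff_char_two.2 (Nat.even_iff.1 h)) _)

theorem exists_mk_det (d : F) (hd : d ≠ 0) :
    ∃ A : GL (Fin 2) F, (A : Matrix (Fin 2) (Fin 2) F).det = d :=
  ⟨GeneralLinearGroup.mkOfDetNeZero !![d, 0; 0, 1] (by simpa [Matrix.det_fin_two] using hd),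
    by simp [Matrix.det_fin_two]⟩

section Finite

variable [Fintype F]

theorem isSquare_mul_of_not {a b : F} (ha : ¬ IsSquare a) (hb : ¬ IsSquare b) : IsSquare (a * b) := by
  classical
  have ha0 : a ≠ 0 := fun e => ha (e ▸ IsSquare.zero)
  have hb0 : b ≠ 0 := fun e => hb (e ▸ IsSquare.zero)
  rw [← quadraticChar_one_iff_isSquare (mul_ne_zero ha0 hb0), map_mul,
    quadraticChar_neg_one_iff_not_isSquare.2 ha, quadraticChar_neg_one_iff_not_isSquare.2 hb]
  rfl

theorem mul_mem_pslImage_of_not_mem {g h : ProjGenLinGroup (Fin 2) F} (hg : g ∉ pslImage F)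
    (hh : h ∉ pslImage F) : g * h ∈ pslImage F := by
  induction g using ProjGenLinGroup.induction_on with | mk A =>
  induction h using ProjGenLinGroup.induction_on with | mk B =>
  rw [mk_mem_pslImage] at hg hh
  rw [← map_mul, mk_mem_pslImage, Units.val_mul, Matrix.det_mul]
  exact isSquare_mul_of_not hg hh

theorem exists_not_mem_pslImage (h : Odd (Fintype.card F)) :
    ∃ g : ProjGenLinGroup (Fin 2) F, g ∉ pslImage F := by
  have hr : ringChar F ≠ 2 := fun e => by
    have h2 := FiniteField.even_card_iff_char_two.1 e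
    rw [Nat.odd_iff] at h
    omega
  obtain ⟨d, hd⟩ := FiniteField.exists_nonsquare hr
  obtain ⟨A, hA⟩ := exists_mk_det d fun e => hd (e ▸ IsSquare.zero)
  exact ⟨ProjGenLinGroup.mk A, fun hm => hd (hA ▸ mk_mem_pslImage.1 hm)⟩

theorem index_pslImage_odd (h : Odd (Fintype.card F)) : (pslImage F).index = 2 := by
  obtain ⟨g, hg⟩ := exists_not_mem_pslImage h
  refine Subgroup.index_eq_two_iff.2 ⟨g, fun b => ?_⟩
  by_cases hb : b ∈ pslImage F
  · exact Or.inr ⟨hb, fun hbg => hg ((Subgroup.mul_mem_cancel_left _ hb).1 hbg)⟩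
  · exact Or.inl ⟨mul_mem_pslImage_of_not_mem hb hg, hb⟩

theorem gcd_eq_two (h : Odd (Fintype.card F)) : Nat.gcd 2 (Fintype.card F - 1) = 2 :=
  Nat.gcd_eq_left (by rw [Nat.odd_iff] at h; omega)

theorem gcd_eq_one (h : Even (Fintype.card F)) : Nat.gcd 2 (Fintype.card F - 1) = 1 := by
  have := Fintype.one_lt_card (α := F)
  rw [Nat.even_iff] at h
  rw [Nat.gcd_rec, show (Fintype.card F - 1) % 2 = 1 by omega]
  simp

theorem index_pslImage : (pslImage F).index = Nat.gcd 2 (Fintype.card F - 1) := by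
  rcases Nat.even_or_odd (Fintype.card F) with h | h
  · rw [pslImage_eq_top_of_even h, Subgroup.index_top, gcd_eq_one h]
  · rw [index_pslImage_odd h, gcd_eq_two h]

theorem card_pgl : Nat.card (ProjGenLinGroup (Fin 2) F) =
    (Fintype.card F + 1) * (Fintype.card F * (Fintype.card F - 1)) := by
  rw [Cfsg.Agent.Classical.card_pgl_eq_card_sl]
  have h := Cfsg.Agent.Classical.card_sl_mul (F := F) 2 (by norm_num)
  have hq := Fintype.one_lt_card (α := F)
  refine Nat.eq_of_mul_eq_mul_left (show 0 < Fintype.card F - 1 by omega) ?_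
  rw [h, Fin.prod_univ_two]
  simp only [Fin.val_zero, Fin.val_one, pow_zero, pow_one]
  obtain ⟨k, hk⟩ : ∃ k, Fintype.card F = k + 1 := ⟨Fintype.card F - 1, by omega⟩
  rw [hk, show (k + 1) ^ 2 - 1 = k * (k + 2) by rw [Nat.sub_eq_iff_eq_add (Nat.one_le_pow _ _ (by omega))]; ring,
    show (k + 1) ^ 2 - (k + 1) = k * (k + 1) by rw [Nat.sub_eq_iff_eq_add (Nat.le_self_pow (by norm_num) _)]; ring,
    Nat.add_sub_cancel]
  ring

theorem card_psl : Nat.gcd 2 (Fintype.card F - 1) * Nat.card (ProjectiveSpecialLinearGroup (Fin 2) F) =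
    (Fintype.card F + 1) * (Fintype.card F * (Fintype.card F - 1)) := by
  rw [← card_pgl, ← (pslImage F).card_mul_index, index_pslImage, Nat.card_congr pslEquiv.toEquiv, mul_comm]

theorem card_onePoint : Nat.card (OnePoint F) = Fintype.card F + 1 := by
  rw [show Nat.card (OnePoint F) = Nat.card (Option F) from rfl, Finite.card_option, Nat.card_eq_fintype_card]

variable [DecidableEq F]

/-- `PSL₂(F)` is transitive on the projective line. -/
theorem exists_psl_map (x y : OnePoint F) :
    ∃ g : ProjectiveSpecialLinearGroup (Fin 2) F, pslPerm F g x = y := by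
  suffices h : ∀ z, ∃ g : ProjectiveSpecialLinearGroup (Fin 2) F, pslPerm F g ∞ = z by
    obtain ⟨g, hg⟩ := h x
    obtain ⟨g', hg'⟩ := h y
    refine ⟨g' * g⁻¹, ?_⟩
    rw [map_mul, map_inv, Equiv.Perm.mul_apply, ← hg, Equiv.Perm.coe_inv, Equiv.symm_apply_apply, hg']
  intro z
  cases z with
  | infty => exact ⟨1, by simp⟩
  | coe a =>
    let S : SpecialLinearGroup (Fin 2) F := ⟨!![a, -1; 1, 0], by simp [Matrix.det_fin_two]⟩
    refine ⟨QuotientGroup.mk S, ?_⟩
    rw [pslPerm_mk]
    have e : ∀ (M : Matrix (Fin 2) (Fin 2) F) (hM : M.det = 1) (i j : Fin 2),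
        (SpecialLinearGroup.toGL ⟨M, hM⟩ : GL (Fin 2) F) i j = M i j := fun _ _ _ _ => rfl
    simp [smul_infty_eq_ite, e, S]

/-- The stabiliser of a point in `PGL₂(F)`. -/
noncomputable def pglPointStab (x : OnePoint F) : Subgroup (ProjGenLinGroup (Fin 2) F) :=
  (MulAction.stabilizer (Equiv.Perm (OnePoint F)) x).comap (pglPerm F)

/-- The stabiliser of a point in `PSL₂(F)`. -/
noncomputable def pslPointStab (x : OnePoint F) : Subgroup (ProjectiveSpecialLinearGroup (Fin 2) F) :=
  (MulAction.stabilizer (Equiv.Perm (OnePoint F)) x).comap (pslPerm F)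

theorem mem_pglPointStab {x : OnePoint F} {g : ProjGenLinGroup (Fin 2) F} :
    g ∈ pglPointStab x ↔ pglPerm F g x = x := Iff.rfl

theorem mem_pslPointStab {x : OnePoint F} {g : ProjectiveSpecialLinearGroup (Fin 2) F} :
    g ∈ pslPointStab x ↔ pslPerm F g x = x := Iff.rfl

omit [Fintype F] in
theorem index_comap_stabilizer {G Ω : Type*} [Group G] [Finite Ω] (f : G →* Equiv.Perm Ω) (x : Ω)
    (h : ∀ y, ∃ g, f g x = y) :
    ((MulAction.stabilizer (Equiv.Perm Ω) x).comap f).index = Nat.card Ω := by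
  letI : MulAction G Ω := MulAction.compHom Ω f
  rw [show (MulAction.stabilizer (Equiv.Perm Ω) x).comap f = MulAction.stabilizer G x from
    Subgroup.ext fun g => Iff.rfl, MulAction.index_stabilizer,
    show MulAction.orbit G x = Set.univ from Set.eq_univ_of_forall fun y => h y, Set.ncard_univ]

theorem index_pglPointStab (x : OnePoint F) : (pglPointStab x).index = Fintype.card F + 1 := by
  have : Finite (OnePoint F) := inferInstanceAs (Finite (Option F))
  rw [pglPointStab, index_comap_stabilizer, card_onePoint]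
  intro y
  obtain ⟨g, hg⟩ := exists_psl_map x y
  exact ⟨ProjectiveSpecialLinearGroup.toPGL g, hg⟩

theorem index_pslPointStab (x : OnePoint F) : (pslPointStab x).index = Fintype.card F + 1 := by
  have : Finite (OnePoint F) := inferInstanceAs (Finite (Option F))
  rw [pslPointStab, index_comap_stabilizer, card_onePoint]
  exact exists_psl_map x

theorem card_pglPointStab (x : OnePoint F) :
    Nat.card (pglPointStab x) = Fintype.card F * (Fintype.card F - 1) := by
  have h := (pglPointStab x).card_mul_index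
  rw [index_pglPointStab, card_pgl, mul_comm _ (Fintype.card F + 1)] at h
  exact Nat.eq_of_mul_eq_mul_left (by omega) h

theorem card_pslPointStab (x : OnePoint F) :
    Nat.gcd 2 (Fintype.card F - 1) * Nat.card (pslPointStab x) =
      Fintype.card F * (Fintype.card F - 1) := by
  have h := (pslPointStab x).card_mul_index
  rw [index_pslPointStab] at h
  have h2 := card_psl (F := F)
  rw [← h, ← mul_assoc, mul_comm _ (Fintype.card F + 1)] at h2
  exact Nat.eq_of_mul_eq_mul_left (by omega) h2

end Finite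

end CfsgLib.PSL2
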