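import Cfsg.Agent.Lib.PSL2.Descent

/-!
A copy of `A₅` in `PSL₂(q)`, `q` odd, is defined over `F_p(√5)`.
-/

set_option autoImplicit false
set_option linter.unusedSectionVars false

open Matrix

namespace CfsgLib.PSL2

variable {F : Type*} [Field F] [Fintype F]

local notation "PGL" => ProjGenLinGroup (Fin 2) F
local notation "PSL" => ProjectiveSpecialLinearGroup (Fin 2) F
local notation "SL2" => SpecialLinearGroup (Fin 2) F
local notation "M2" => Matrix (Fin 2) (Fin 2) F

theorem alt_five_spectrum : ∀ g : alternatingGroup (Fin 5), g ^ 2 = 1 ∨ g ^ 3 = 1 ∨ g ^ 5 = 1 := by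
  decide +kernel

/-- Traces of elements of order `1, 2, 3, 5`. -/
theorem trace_mem_of_spectrum {K : Type*} [Field K] (j : K →+* F) (h2 : (2 : F) ≠ 0) {rt : F}
    (hrt : rt ^ 2 + rt - 1 = 0) (hmem : rt ∈ j.fieldRange) (S : SL2)
    (hS : (QuotientGroup.mk S : PSL) ^ 2 = 1 ∨ (QuotientGroup.mk S : PSL) ^ 3 = 1 ∨
      (QuotientGroup.mk S : PSL) ^ 5 = 1) : (S : M2).trace ∈ j.fieldRange := by
  have h2m : (2 : F) ∈ j.fieldRange := ⟨2, map_ofNat j 2⟩
  by_cases hc : S ∈ Subgroup.center SL2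
  · rcases CfsgLib.SpecLin.SLTwo.mem_center_iff'.1 hc with e | e <;> rw [e]
    · simpa [Matrix.trace_fin_two, one_add_one_eq_two] using h2m
    · simpa [Matrix.trace_fin_two, one_add_one_eq_two, ← neg_add] using neg_mem h2m
  have hns : ∀ s : F, (S : M2) ≠ s • 1 := fun s h =>
    hc (CfsgLib.SpecLin.SLTwo.mem_center_of_scalar h)
  have hsq := CfsgLib.SpecLin.SLTwo.sq_eq (S : M2) S.2
  set t := (S : M2).trace with ht
  have hcen : ∀ n : ℕ, (QuotientGroup.mk S : PSL) ^ n = 1 →
      ((S : M2) ^ n = 1 ∨ (S : M2) ^ n = -1) := fun n hn => by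
    rw [← QuotientGroup.mk_pow, QuotientGroup.eq_one_iff, CfsgLib.SpecLin.SLTwo.mem_center_iff'] at hn
    rcases hn with e | e
    exacts [Or.inl ((S.coe_pow n).symm.trans e), Or.inr ((S.coe_pow n).symm.trans e)]
  have hroot : ∀ x : F, x ^ 2 + x - 1 = 0 → x ∈ j.fieldRange := fun x hx => by
    rcases mul_eq_zero.1 (show (x - rt) * (x + rt + 1) = 0 by linear_combination hx - hrt) with e | e
    · rwa [sub_eq_zero.1 e]
    · rw [show x = -(rt + 1) by linear_combination e]
      exact neg_mem (add_mem hmem (one_mem _))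
  rcases hS with h | h | h <;> rcases hcen _ h with e | e
  · exact absurd (mem_center_of_sq_eq_one h2 (Subtype.ext ((S.coe_pow 2).trans e))) hc
  · rw [sq, hsq, sub_eq_iff_eq_add, neg_add_cancel] at e
    rw [(smul_eq_zero.1 e).resolve_right fun e0 => hns 0 (by rw [e0, zero_smul])]
    exact zero_mem _
  · have key : (t ^ 2 - 1) • (S : M2) = (1 + t) • (1 : M2) := by
      rw [pow_succ, sq, hsq, sub_mul, smul_mul_assoc, hsq, one_mul, smul_sub, smul_smul] at e
      have e2 : (t ^ 2 - 1) • (S : M2) - t • (1 : M2) = 1 := by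
        refine Eq.trans ?_ e
        match_scalars <;> ring
      rw [add_smul 1 t, one_smul]
      exact eq_add_of_sub_eq e2
    have h0 : t ^ 2 - 1 = 0 := by
      by_contra hne
      refine hns ((t ^ 2 - 1)⁻¹ * (1 + t)) ?_
      rw [← smul_smul, ← key, inv_smul_smul₀ hne]
    rcases sq_eq_one_iff.1 (sub_eq_zero.1 h0) with e' | e' <;> rw [e']
    exacts [one_mem _, neg_mem (one_mem _)]
  · have key : (t ^ 2 - 1) • (S : M2) = (t - 1) • (1 : M2) := by
      rw [pow_succ, sq, hsq, sub_mul, smul_mul_assoc, hsq, one_mul, smul_sub, smul_smul] at e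
      have e2 : (t ^ 2 - 1) • (S : M2) - t • (1 : M2) = -1 := by
        refine Eq.trans ?_ e
        match_scalars <;> ring
      rw [sub_smul t 1, one_smul]
      exact (eq_add_of_sub_eq e2).trans (neg_add_eq_sub _ _)
    have h0 : t ^ 2 - 1 = 0 := by
      by_contra hne
      refine hns ((t ^ 2 - 1)⁻¹ * (t - 1)) ?_
      rw [← smul_smul, ← key, inv_smul_smul₀ hne]
    rcases sq_eq_one_iff.1 (sub_eq_zero.1 h0) with e' | e' <;> rw [e']
    exacts [one_mem _, neg_mem (one_mem _)]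
  · exact hroot _ (trace_of_pow_five S.2 hns e)
  · have h1 := trace_of_pow_five (A := -(S : M2))
      (by rw [Matrix.det_neg]; simp [S.2]) (fun s hs => hns (-s) (by rw [neg_smul, ← hs, neg_neg]))
      (by rw [neg_pow, e]; simp [pow_succ])
    rw [Matrix.trace_neg] at h1
    simpa using neg_mem (hroot _ h1)

/-- The coordinates of a matrix in a quaternion basis. -/
theorem QPair.decomp (h2 : (2 : F) ≠ 0) {I J : M2} (h : QPair I J) (S : M2) :
    (2 : F) • S = S.trace • 1 - (S * I).trace • I - (S * J).trace • J - (S * (I * J)).trace • (I * J) := by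
  have hI := h.trace_eq_zero h2
  have hJ := h.symm.trace_eq_zero h2
  have hK := h.trace_mul_eq_zero h2
  have hK' := h.mulPair.symm.trace_eq_zero h2
  have hJI : (J * I).trace = 0 := by rw [Matrix.trace_mul_comm]; exact hK
  have h1 : (1 : M2).trace = 2 := by simp
  have hJK : J * (I * J) = I := by
    rw [← mul_assoc, show J * I = -(I * J) by rw [h.hIJ, neg_neg], neg_mul, mul_assoc, h.hJ]; simp
  have hIK : I * (I * J) = -J := by rw [← mul_assoc, h.hI]; simp
  have hKI : I * J * I = J := by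
    rw [mul_assoc, show J * I = -(I * J) by rw [h.hIJ, neg_neg], mul_neg, hIK, neg_neg]
  have hKJ : I * J * J = -I := by rw [mul_assoc, h.hJ]; simp
  rw [← sub_eq_zero]
  generalize hX : (2 : F) • S - (S.trace • (1 : M2) - (S * I).trace • I - (S * J).trace • J -
    (S * (I * J)).trace • (I * J)) = X
  have e0 : X.trace = 0 := by
    rw [← hX]; simp [hI, hJ, hK, h1]; ring
  have eI : (X * I).trace = 0 := by
    rw [← hX]; simp [sub_mul, h.hI, hKI, hI, hJ, hJI, h1]; ring
  have eJ : (X * J).trace = 0 := by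
    rw [← hX]; simp [sub_mul, h.hJ, hKJ, hI, hJ, hK, h1]; ring
  have eK : (X * (I * J)).trace = 0 := by
    rw [← hX]; simp [sub_mul, hJK, hIK, h.mulPair.hJ, hI, hJ, hK, h1]; ring
  have a1 := mul_add_mul_comm_of_trace_zero X I e0 hI
  have a2 := mul_add_mul_comm_of_trace_zero X J e0 hJ
  have a3 := mul_add_mul_comm_of_trace_zero X (I * J) e0 hK'
  rw [eI, zero_smul] at a1
  rw [eJ, zero_smul] at a2
  rw [eK, zero_smul] at a3
  have b3 : X * (I * J) = I * J * X := by
    rw [← mul_assoc, eq_neg_of_add_eq_zero_left a1, neg_mul, mul_assoc I X J,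
      eq_neg_of_add_eq_zero_left a2, mul_neg, neg_neg, mul_assoc]
  rw [← b3, ← two_smul F] at a3
  have h0 : X * (I * J) = 0 := (smul_eq_zero.1 a3).resolve_left h2
  calc X = -(X * (I * J) * (I * J)) := by rw [mul_assoc, h.mulPair.hJ]; simp
    _ = 0 := by rw [h0, zero_mul, neg_zero]

/-- A copy of `A₅` is conjugate into `PGL₂` of any subfield containing a root of `X² + X - 1`. -/
theorem alt_five_defined_over (h2 : (2 : F) ≠ 0) {M : Subgroup PSL}
    (e : M ≃* alternatingGroup (Fin 5)) {K : Type*} [Field K] [Fintype K] (j : K →+* F)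
    {rt : F} (hrt : rt ^ 2 + rt - 1 = 0) (hmem : rt ∈ j.fieldRange) {I₀ J₀ : Matrix (Fin 2) (Fin 2) K}
    (h₀ : QPair I₀ J₀) :
    ∃ k : PGL, M.map ProjectiveSpecialLinearGroup.toPGL ≤ (pglSub j).map (MulAut.conj k).toMonoidHom := by
  have h4 : Nat.card (Fin 4) = 4 := Nat.card_fin 4
  let f : alternatingGroup (Fin 4) →* PGL :=
    (ProjectiveSpecialLinearGroup.toPGL.comp M.subtype).comp (e.symm.toMonoidHom.comp altFourToFive)
  have hf : Function.Injective f :=
    (ProjectiveSpecialLinearGroup.toPGL_injective.comp M.subtype_injective).comp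
      (e.symm.injective.comp altFourToFive_injective)
  have hfle : f.range ≤ M.map ProjectiveSpecialLinearGroup.toPGL := by
    rintro _ ⟨a, rfl⟩
    exact ⟨_, (e.symm (altFourToFive a)).2, rfl⟩
  have hV : IsKleinFour ((alternatingGroup.kleinFour (Fin 4)).map f) :=
    isKleinFour_map f hf (alternatingGroup.kleinFour_isKleinFour h4)
  obtain ⟨g, hg⟩ := klein_conj h2 (h₀.map j)
    (((Subgroup.map_le_range f _).trans hfle).trans (map_toPGL_le M)) hV
  refine ⟨g, fun x hx => ⟨g⁻¹ * x * g, ?_, by simp [mul_assoc]⟩⟩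
  have hin : ∀ v ∈ (h₀.map j).kleinV h2, g * v * g⁻¹ ∈ M.map ProjectiveSpecialLinearGroup.toPGL :=
    fun v hv => by
      have h1 : MulAut.conj g v ∈ (alternatingGroup.kleinFour (Fin 4)).map f := by
        rw [hg]; exact ⟨v, hv, rfl⟩
      exact hfle (Subgroup.map_le_range f _ h1)
  have htr : ∀ A : M2, ∀ hA : A.det ≠ 0, A.det = 1 →
      g * pmk A hA * g⁻¹ ∈ M.map ProjectiveSpecialLinearGroup.toPGL → A.trace ∈ j.fieldRange := by
    intro A hA hd hm
    let S : SL2 := ⟨A, hd⟩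
    refine trace_mem_of_spectrum j h2 hrt hmem S ?_
    obtain ⟨y, hy, hye⟩ := hm
    have hS : ∀ n : ℕ, (⟨y, hy⟩ : M) ^ n = 1 → (QuotientGroup.mk S : PSL) ^ n = 1 := by
      intro n hn
      have hyn : y ^ n = 1 := congrArg Subtype.val hn
      refine ProjectiveSpecialLinearGroup.toPGL_injective ?_
      rw [map_pow, map_one, ProjectiveSpecialLinearGroup.toPGL_mk]
      have h' := congrArg ProjectiveSpecialLinearGroup.toPGL hyn
      rw [map_pow, hye, map_one, conj_pow, conj_eq_one_iff] at h'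
      refine (congrArg (· ^ n) ?_).trans h'
      show ProjGenLinGroup.mk _ = ProjGenLinGroup.mk _
      exact congrArg _ (Units.ext rfl)
    have hpow : ∀ n : ℕ, e ⟨y, hy⟩ ^ n = 1 → (⟨y, hy⟩ : M) ^ n = 1 := fun n hn =>
      e.injective (by rw [map_pow, hn, map_one])
    rcases alt_five_spectrum (e ⟨y, hy⟩) with h | h | h
    exacts [Or.inl (hS _ (hpow _ h)), Or.inr (Or.inl (hS _ (hpow _ h))),
      Or.inr (Or.inr (hS _ (hpow _ h)))]
  have hxL : g⁻¹ * x * g ∈ pslImage F := by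
    simpa using pslImage_normal.conj_mem _ (map_toPGL_le M hx) g⁻¹
  obtain ⟨S, hS⟩ := hxL
  have hd : (S : M2).det = 1 := S.2
  have hd0 : (S : M2).det ≠ 0 := by rw [hd]; exact one_ne_zero
  have hpS : pmk (S : M2) hd0 = g⁻¹ * x * g := by
    rw [← hS]
    show ProjGenLinGroup.mk _ = ProjGenLinGroup.mk _
    exact congrArg _ (Units.ext rfl)
  have hxg : g * pmk (S : M2) hd0 * g⁻¹ ∈ M.map ProjectiveSpecialLinearGroup.toPGL := by
    rw [hpS]; simpa [mul_assoc] using hx
  have hprod : ∀ (X : M2) (hX : X.det ≠ 0), X.det = 1 → pmk X hX ∈ (h₀.map j).kleinV h2 →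
      ((S : M2) * X).trace ∈ j.fieldRange := by
    intro X hX hX1 hXm
    have hd1 : ((S : M2) * X).det = 1 := by rw [det_mul, hd, hX1, one_mul]
    refine htr _ (by rw [hd1]; exact one_ne_zero) hd1 ?_
    rw [← pmk_mul _ _ hd0 hX, show g * (pmk (S : M2) hd0 * pmk X hX) * g⁻¹ =
      g * pmk (S : M2) hd0 * g⁻¹ * (g * pmk X hX * g⁻¹) by group]
    exact mul_mem hxg (hin _ hXm)
  obtain ⟨c0, hc0⟩ := htr _ hd0 hd hxg
  obtain ⟨c1, hc1⟩ := hprod _ ((h₀.map j).det_ne_left h2) ((h₀.map j).det_eq_one h2)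
    (Or.inr (Or.inl rfl))
  obtain ⟨c2, hc2⟩ := hprod _ ((h₀.map j).det_ne_right h2) ((h₀.map j).symm.det_eq_one h2)
    (Or.inr (Or.inr (Or.inl rfl)))
  obtain ⟨c3, hc3⟩ := hprod _ ((h₀.map j).mulPair.det_ne_right h2)
    ((h₀.map j).mulPair.symm.det_eq_one h2) (Or.inr (Or.inr (Or.inr rfl)))
  let A₀ : Matrix (Fin 2) (Fin 2) K := (2 : K)⁻¹ • (c0 • 1 - c1 • I₀ - c2 • J₀ - c3 • (I₀ * J₀))
  have hA : j.mapMatrix A₀ = (S : M2) := by
    refine (smul_right_injective M2 h2) ?_
    beta_reduce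
    refine Eq.trans ?_ ((h₀.map j).decomp h2 (S : M2)).symm
    rw [← hc0, ← hc1, ← hc2, ← hc3, ← map_mul]
    have hj2 : (2 : F) * j (2 : K)⁻¹ = 1 := by
      rw [← map_ofNat j 2, ← map_mul, mul_inv_cancel₀ fun e => h2 (by rw [← map_ofNat j 2, e, map_zero]),
        map_one]
    have hsmul : ∀ (c : K) (X : Matrix (Fin 2) (Fin 2) K), j.mapMatrix (c • X) = j c • j.mapMatrix X :=
      fun c X => by ext a b; simp
    simp only [A₀, hsmul, map_sub, map_one, smul_smul, hj2, one_smul]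
  have hgm := pmk_mem_pglSub j A₀ (by rw [hA]; exact hd0)
  show g⁻¹ * x * g ∈ pglSub j
  rw [← hpS]
  convert hgm using 2
  exact hA.symm

end CfsgLib.PSL2
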