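import Cfsg.Agent.Lib.PSL2.MaxTorus

/-!
The maximal subgroups of `PSL₂(q)`.
-/

set_option autoImplicit false
set_option linter.unusedSectionVars false

open Matrix

namespace CfsgLib.PSL2

variable {F : Type*} [Field F] [Fintype F]

local notation "PGL" => ProjGenLinGroup (Fin 2) F
local notation "PSL" => ProjectiveSpecialLinearGroup (Fin 2) F

theorem coatom_fix_case [DecidableEq F] {M : Subgroup PSL} (hM : IsCoatom M) {x : OnePoint F}
    (hx : ∀ h ∈ M, pglPerm F (ProjectiveSpecialLinearGroup.toPGL h) x = x) :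
    Nat.gcd 2 (Fintype.card F - 1) * Nat.card M = Fintype.card F * (Fintype.card F - 1) := by
  have hne : pslPointStab x ≠ ⊤ := fun e => by
    have := index_pslPointStab x
    rw [e, Subgroup.index_top] at this
    have := Fintype.one_lt_card (α := F)
    omega
  have hle : M ≤ pslPointStab x := fun g hg => hx g hg
  rcases hle.eq_or_lt with h | h
  · rw [h]; exact card_pslPointStab x
  · exact absurd (hM.2 _ h) hne

/-- In characteristic 2, `A₄` fixes a point. -/
theorem exists_fix_alt_four [DecidableEq F] (he : Even (Fintype.card F))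
    (f : alternatingGroup (Fin 4) →* PGL) (hf : Function.Injective f) :
    ∃ x, f.range ≤ pglPointStab x := by
  classical
  have : Fact (Nat.Prime 2) := ⟨Nat.prime_two⟩
  have h4 : Nat.card (Fin 4) = 4 := Nat.card_fin 4
  let K := alternatingGroup.kleinFour (Fin 4)
  have hK : IsKleinFour K := alternatingGroup.kleinFour_isKleinFour h4
  have hKn : K.Normal := alternatingGroup.normal_kleinFour h4
  let V := K.map f
  have hVk := isKleinFour_map f hf hK
  have hVc : Nat.card V = 4 := hVk.card_four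
  have hVp : IsPGroup 2 V := IsPGroup.of_card (n := 2) hVc
  let _ : MulAction V (OnePoint F) := MulAction.compHom _ ((pglPerm F).comp V.subtype)
  have : Finite (OnePoint F) := inferInstanceAs (Finite (Option F))
  rw [Nat.even_iff] at he
  have hodd : ¬ 2 ∣ Nat.card (OnePoint F) := by rw [card_onePoint]; omega
  obtain ⟨x, hx⟩ := hVp.nonempty_fixed_point_of_prime_not_dvd_card _ hodd
  have hfix : ∀ v ∈ V, pglPerm F v x = x := fun v hv => hx ⟨v, hv⟩
  obtain ⟨v, hv, hv1⟩ := (Subgroup.bot_or_exists_ne_one V).resolve_left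
    (fun e => by rw [e, Subgroup.card_bot] at hVc; omega)
  have huniq : ∀ y, pglPerm F v y = y → y = x := by
    intro y hy
    by_contra hne
    have h1 := pow_card_sub_one_eq_one (RingHom.id F) (g := v) (x := y) (y := x) hne
      (by rw [show OnePoint.map (RingHom.id F) y = y by cases y <;> rfl]; exact hy)
      (by rw [show OnePoint.map (RingHom.id F) x = x by cases x <;> rfl]; exact hfix v hv)
    have h2 : v ^ 2 = 1 := by
      rw [sq]
      exact congrArg Subtype.val (IsKleinFour.mul_self (⟨v, hv⟩ : V))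
    refine hv1 (orderOf_eq_one_iff.1 (Nat.eq_one_of_dvd_coprimes ?_ (orderOf_dvd_of_pow_eq_one h2)
      (orderOf_dvd_of_pow_eq_one h1)))
    rw [Nat.coprime_two_left, Nat.odd_iff]
    have := Fintype.one_lt_card (α := F)
    omega
  refine ⟨x, ?_⟩
  rintro _ ⟨s, rfl⟩
  rw [mem_pglPointStab]
  refine huniq _ ?_
  have hconj : (f s)⁻¹ * v * f s ∈ V := by
    obtain ⟨k, hk, rfl⟩ := hv
    exact ⟨s⁻¹ * k * s, by simpa using hKn.conj_mem k hk s⁻¹, by simp⟩
  have := hfix _ hconj
  rw [map_mul, map_mul, map_inv, Equiv.Perm.mul_apply, Equiv.Perm.mul_apply, Equiv.Perm.coe_inv,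
    Equiv.symm_apply_eq] at this
  exact this

/-- The maximal subgroups for even `q`. -/
theorem coatom_even (he : Even (Fintype.card F)) (h4 : 4 ≤ Fintype.card F) {M : Subgroup PSL}
    (hM : IsCoatom M) :
    Nat.card M = Fintype.card F * (Fintype.card F - 1) ∨
      Nonempty (M ≃* DihedralGroup (Fintype.card F - 1)) ∨
      Nonempty (M ≃* DihedralGroup (Fintype.card F + 1)) ∨
      ∃ (F₀ : Type) (_ : Field F₀) (_ : Fintype F₀) (r : ℕ), r.Prime ∧ Fintype.card F₀ ≠ 2 ∧
        Fintype.card F = Fintype.card F₀ ^ r ∧ Nonempty (M ≃* ProjectiveSpecialLinearGroup (Fin 2) F₀) := by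
  classical
  have : Fact (Nat.Prime 2) := ⟨Nat.prime_two⟩
  have hp : CharP F 2 := ringChar.of_eq (FiniteField.even_card_iff_char_two.2 (Nat.even_iff.1 he))
  have hd := gcd_eq_one he
  have hfix : ∀ x, (∀ h ∈ M, pglPerm F (ProjectiveSpecialLinearGroup.toPGL h) x = x) →
      Nat.card M = Fintype.card F * (Fintype.card F - 1) := fun x hx => by
    have h := coatom_fix_case hM hx
    rwa [hd, one_mul] at h
  have htor : ∀ {k : ℕ}, (k ∣ (Fintype.card F + 1) / Nat.gcd 2 (Fintype.card F - 1) ∨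
      k ∣ (Fintype.card F - 1) / Nat.gcd 2 (Fintype.card F - 1)) →
      ((IsCyclic M ∧ Nat.card M = k) ∨ Nonempty (M ≃* DihedralGroup k)) →
      Nonempty (M ≃* DihedralGroup (Fintype.card F - 1)) ∨
        Nonempty (M ≃* DihedralGroup (Fintype.card F + 1)) := fun hk hs => by
    have h := coatom_cyclic_or_dihedral 2 h4 hM hk hs
    rw [hd, Nat.div_one, Nat.div_one] at h
    exact h.imp (·.1) (·.1)
  let φ := ProjectiveSpecialLinearGroup.toPGL.comp M.subtype
  have hφ : Function.Injective φ :=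
    ProjectiveSpecialLinearGroup.toPGL_injective.comp M.subtype_injective
  rcases dickson_strong 2 φ hφ with ⟨x, hx⟩ | h | ⟨C, hi, hC, hdi⟩ | ⟨⟨e⟩⟩ | ⟨⟨e⟩⟩ | ⟨h, -⟩ | ⟨S, hS, hiso⟩
  · exact Or.inl (hfix x fun g hg => hx ⟨g, hg⟩)
  · exact Or.inr ((htor (psl_torus_dvd 2 M.subtype M.subtype_injective h) (Or.inl ⟨h.1, rfl⟩)).elim
      Or.inl fun h => Or.inr (Or.inl h))
  · exact Or.inr ((htor (psl_torus_dvd 2 (M.subtype.comp C.subtype)
      (M.subtype_injective.comp C.subtype_injective) hC) (Or.inr hdi)).elim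
      Or.inl fun h => Or.inr (Or.inl h))
  · obtain ⟨x, hx⟩ := exists_fix_alt_four he (φ.comp e.symm.toMonoidHom) (hφ.comp e.symm.injective)
    refine Or.inl (hfix x fun g hg => mem_pglPointStab.1 (hx ⟨e ⟨g, hg⟩, ?_⟩))
    simp [φ]
  · exfalso
    refine orderOf_ne_four_of_even he ((M.subtype.comp e.symm.toMonoidHom) (finRotate 4)) ?_
    rw [orderOf_injective (M.subtype.comp e.symm.toMonoidHom)
      (M.subtype_injective.comp e.symm.injective) (finRotate 4)]
    exact orderOf_exception_elements.2.2.1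
  · exact absurd rfl h
  obtain ⟨m, hm0, hm⟩ := exists_degree S.subtype
  rcases Nat.lt_or_ge 1 m with hm1 | hm1
  swap
  · rw [show m = 1 by omega, pow_one] at hm
    exact absurd (eq_top_of_model hm hiso) hM.1
  obtain ⟨k, hk⟩ := exists_conj_le_of_definedOver hS
  obtain ⟨F₀, hF₀, hF₀', r, hr, hcard, hpsl, -⟩ := coatom_defined_over hM S.subtype hm hm1 hk
  obtain ⟨ψ⟩ := hpsl (Or.inr he)
  by_cases h2 : Fintype.card F₀ = 2
  · have hc : Nat.card M = 6 := by
      have h := card_psl (F := F₀)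
      rw [h2] at h
      rw [Nat.card_congr ψ.toEquiv]
      simpa using h
    obtain ⟨c, hc3⟩ := exists_prime_orderOf_dvd_card' (G := M) (hp := ⟨Nat.prime_three⟩) 3
      (by rw [hc]; norm_num)
    have hi : (Subgroup.zpowers c).index = 2 := by
      have h := (Subgroup.zpowers c).card_mul_index
      rw [Nat.card_zpowers, hc3, hc] at h
      omega
    have hn := Subgroup.normal_of_index_eq_two hi
    let C := (Subgroup.zpowers c).map M.subtype
    have hCc : Nat.card C = 3 := by
      rw [Subgroup.card_map_of_injective M.subtype_injective, Nat.card_zpowers, hc3]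
    have : IsCyclic C := (Subgroup.equivMapOfInjective _ _ M.subtype_injective).isCyclic.1 inferInstance
    have h := coatom_torus 2 h4 hM (C := C) (fun e => by rw [e, Subgroup.card_bot] at hCc; omega)
      (by rw [hCc]; norm_num) (fun g hg => by
        rw [mem_normalizer_iff_map_eq, Subgroup.map_map,
          show (MulAut.conj g).toMonoidHom.comp M.subtype =
            M.subtype.comp (MulAut.conj (⟨g, hg⟩ : M)).toMonoidHom by ext; simp,
          ← Subgroup.map_map, (mem_normalizer_iff_map_eq _ _).1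
            (by rw [Subgroup.normalizer_eq_top_iff.2 hn]; trivial)])
    rw [hd, Nat.div_one, Nat.div_one] at h
    exact Or.inr (h.elim (fun h => Or.inl h.1) fun h => Or.inr (Or.inl h.1))
  · exact Or.inr (Or.inr (Or.inr ⟨F₀, hF₀, hF₀', r, hr, h2, hcard.symm, ⟨ψ⟩⟩))

/-- A coatom of small order in a group conjugate into a larger proper subgroup. -/
theorem not_le_of_coatom {M : Subgroup PSL} (hM : IsCoatom M) {T : Subgroup PGL}
    (hle : M.map ProjectiveSpecialLinearGroup.toPGL ≤ T) (hT : T ≤ pslImage F)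
    (h1 : Nat.card M < Nat.card T) (h2 : Nat.card T < Nat.card PSL) : False := by
  obtain ⟨e⟩ := nonempty_comap_toPGL_equiv hT
  have hc : Nat.card (T.comap (ProjectiveSpecialLinearGroup.toPGL (n := Fin 2) (R := F))) = Nat.card T :=
    Nat.card_congr e.toEquiv
  have hlt : M < T.comap ProjectiveSpecialLinearGroup.toPGL :=
    lt_of_le_of_ne (Subgroup.map_le_iff_le_comap.1 hle) fun e => by rw [← e] at hc; omega
  rw [hM.2 _ hlt, Subgroup.card_top] at hc
  omega

/-- The maximal subgroups for odd `q`. -/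
theorem coatom_odd (p : ℕ) [Fact p.Prime] [CharP F p] (hodd : Odd (Fintype.card F))
    (h5 : 5 ≤ Fintype.card F) {M : Subgroup PSL} (hM : IsCoatom M) :
    2 * Nat.card M = Fintype.card F * (Fintype.card F - 1) ∨
    (13 ≤ Fintype.card F ∧ (∃ k : ℕ, 2 * k = Fintype.card F - 1 ∧ Nonempty (M ≃* DihedralGroup k))) ∨
    (Fintype.card F ≠ 7 ∧ Fintype.card F ≠ 9 ∧
      (∃ k : ℕ, 2 * k = Fintype.card F + 1 ∧ Nonempty (M ≃* DihedralGroup k))) ∨
    (∃ (F₀ : Type) (_ : Field F₀) (_ : Fintype F₀), Fintype.card F = Fintype.card F₀ ^ 2 ∧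
        Nonempty (M ≃* Matrix.ProjGenLinGroup (Fin 2) F₀)) ∨
    (∃ (F₀ : Type) (_ : Field F₀) (_ : Fintype F₀) (r : ℕ), r.Prime ∧ Odd r ∧
        Fintype.card F = Fintype.card F₀ ^ r ∧
        Nonempty (M ≃* Matrix.ProjectiveSpecialLinearGroup (Fin 2) F₀)) ∨
    ((Fintype.card F % 10 = 1 ∨ Fintype.card F % 10 = 9) ∧
        (Fintype.card F = p ∨ (Fintype.card F = p ^ 2 ∧ (p % 10 = 3 ∨ p % 10 = 7))) ∧
        Nonempty (M ≃* alternatingGroup (Fin 5))) ∨
    (Fintype.card F = p ∧ (p % 8 = 3 ∨ p % 8 = 5) ∧ ¬ (p % 10 = 1 ∨ p % 10 = 9) ∧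
        Nonempty (M ≃* alternatingGroup (Fin 4))) ∨
    (Fintype.card F = p ∧ (p % 8 = 1 ∨ p % 8 = 7) ∧ Nonempty (M ≃* Equiv.Perm (Fin 4))) := by
  classical
  have hd := gcd_eq_two hodd
  have h2 := two_ne_zero_of_odd hodd
  have hq2 := Nat.odd_iff.1 hodd
  obtain ⟨n, -, hn⟩ := FiniteField.card F p
  have hn0 : (n : ℕ) ≠ 0 := n.ne_zero
  have hp2 : p % 2 = 1 := Nat.odd_iff.1 ((Nat.odd_pow_iff hn0).1 (hn ▸ hodd))
  let j₀ : ZMod p →+* F := ZMod.castHom dvd_rfl F
  have hj₀ : Fintype.card (ZMod p) ^ (n : ℕ) = Fintype.card F := by rw [ZMod.card, hn]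
  have h2p : (2 : ZMod p) ≠ 0 := fun e => h2 (by rw [← map_ofNat j₀ 2, e, map_zero])
  obtain ⟨I₀, J₀, h₀⟩ := exists_qpair h2p
  have hbig := card_le_psl (F := F) (by omega)
  have hres : ∀ {K' : Type} [Field K'] [Fintype K'] (j : K' →+* F) {m : ℕ}
      (_ : Fintype.card K' ^ m = Fintype.card F) (_ : 1 < m) {k : PGL}
      (_ : M.map ProjectiveSpecialLinearGroup.toPGL ≤ (pglSub j).map (MulAut.conj k).toMonoidHom),
      (∃ (F₀ : Type) (_ : Field F₀) (_ : Fintype F₀), Fintype.card F = Fintype.card F₀ ^ 2 ∧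
        Nonempty (M ≃* Matrix.ProjGenLinGroup (Fin 2) F₀)) ∨
      (∃ (F₀ : Type) (_ : Field F₀) (_ : Fintype F₀) (r : ℕ), r.Prime ∧ Odd r ∧
        Fintype.card F = Fintype.card F₀ ^ r ∧
        Nonempty (M ≃* Matrix.ProjectiveSpecialLinearGroup (Fin 2) F₀)) := by
    intro K' _ _ j m hm hm1 k hk
    obtain ⟨F₀, i1, i2, r, hr, hc, hpsl, hpgl⟩ := coatom_defined_over hM j hm hm1 hk
    rcases hr.eq_two_or_odd' with rfl | ho
    · exact Or.inl ⟨F₀, i1, i2, hc.symm, hpgl rfl hodd⟩
    · exact Or.inr ⟨F₀, i1, i2, r, hr, ho, hc.symm, hpsl (Or.inl ho)⟩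
  rcases dickson_psl p M with ⟨x, hx⟩ | ⟨k, hk, hs⟩ | ⟨⟨e⟩⟩ | ⟨⟨e⟩⟩ | ⟨⟨e⟩⟩ | ⟨S, hS, hiso⟩
  · refine Or.inl ?_
    have h := coatom_fix_case hM hx
    rwa [hd] at h
  · have h := coatom_cyclic_or_dihedral p (by omega) hM hk hs
    rw [hd] at h
    simp only [Finset.mem_insert, Finset.mem_singleton, not_or] at h
    rcases h with ⟨hi, hq⟩ | ⟨hi, hq⟩
    · exact Or.inr (Or.inl ⟨by omega, _, by omega, hi⟩)
    · exact Or.inr (Or.inr (Or.inl ⟨hq.1, hq.2, _, by omega, hi⟩))
  · let f : alternatingGroup (Fin 4) →* PGL :=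
      ProjectiveSpecialLinearGroup.toPGL.comp (M.subtype.comp e.symm.toMonoidHom)
    have hf : Function.Injective f :=
      ProjectiveSpecialLinearGroup.toPGL_injective.comp (M.subtype_injective.comp e.symm.injective)
    have hfr : f.range = M.map ProjectiveSpecialLinearGroup.toPGL := by
      rw [MonoidHom.range_comp, MonoidHom.range_comp, MonoidHom.range_eq_top.2 e.symm.surjective,
        ← MonoidHom.range_eq_map, Subgroup.range_subtype]
    have h4 : Nat.card (Fin 4) = 4 := Nat.card_fin 4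
    have := alternatingGroup.normal_kleinFour h4
    have hnorm : ∀ f : alternatingGroup (Fin 4) →* PGL, Function.Injective f → f.range ≤ pslImage F →
        ∃ g : PGL, f.range ≤ ((h₀.map j₀).normV h2).map (MulAut.conj g).toMonoidHom := fun f hf hle =>
      exists_conj_le_normV h2 _ (alternatingGroup.kleinFour_isKleinFour h4) f hf hle (h₀.map j₀)
    obtain ⟨g, hg⟩ := hnorm f hf (hfr ▸ map_toPGL_le M)
    rw [hfr] at hg
    have hMc : Nat.card M = 12 := by rw [Nat.card_congr e.toEquiv, card_alt_four]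
    rcases Nat.lt_or_ge 1 (n : ℕ) with hn1 | hn1
    · have h := hres j₀ hj₀ hn1 (hg.trans (Subgroup.map_mono (normV_le_pglSub j₀ h2 h₀)))
      exact Or.inr (Or.inr (Or.inr (h.elim Or.inl fun h => Or.inr (Or.inl h))))
    have hqp : Fintype.card F = p := by rw [hn, show (n : ℕ) = 1 by omega, pow_one]
    by_cases hsq : IsSquare (2 : F)
    · exfalso
      refine not_le_of_coatom hM hg (map_conj_le_pslImage ((h₀.map j₀).normV_le_pslImage h2 hsq) g) ?_ ?_ <;>
        rw [Subgroup.card_map_of_injective (MulEquiv.injective _), (h₀.map j₀).card_normV h2] <;> omega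
    have h8 : p % 8 = 3 ∨ p % 8 = 5 := by
      rw [FiniteField.isSquare_two_iff, hqp] at hsq; omega
    refine Or.inr (Or.inr (Or.inr (Or.inr (Or.inr (Or.inr (Or.inl ⟨hqp, h8, fun h10 => ?_, ⟨e⟩⟩))))))
    obtain ⟨r, hr⟩ := exists_root_of_five (five_dvd_psl hodd (by rw [hqp]; omega))
    obtain ⟨φ, hφ⟩ := exists_alt_five_psl hr
    let f' : alternatingGroup (Fin 4) →* PGL :=
      ProjectiveSpecialLinearGroup.toPGL.comp (φ.comp altFourToFive)
    have hf' : Function.Injective f' :=
      ProjectiveSpecialLinearGroup.toPGL_injective.comp (hφ.comp altFourToFive_injective)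
    have hf'le : f'.range ≤ φ.range.map ProjectiveSpecialLinearGroup.toPGL := by
      rintro _ ⟨a, rfl⟩
      exact ⟨_, ⟨altFourToFive a, rfl⟩, rfl⟩
    obtain ⟨g', hg'⟩ := hnorm f' hf' (hf'le.trans (map_toPGL_le _))
    let A := (h₀.map j₀).normV h2 ⊓ pslImage F
    have hA : Nat.card A = 12 := (h₀.map j₀).card_normV_inf h2 hsq
    have hconj : ∀ (H : Subgroup PGL) (g : PGL), H ≤ pslImage F →
        H ≤ ((h₀.map j₀).normV h2).map (MulAut.conj g).toMonoidHom → Nat.card H = 12 →
        H = A.map (MulAut.conj g).toMonoidHom := by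
      intro H g hHL hH hc
      refine Subgroup.eq_of_le_of_card_ge (fun x hx => ?_) ?_
      · obtain ⟨y, hy, rfl⟩ := hH hx
        refine ⟨y, ⟨hy, ?_⟩, rfl⟩
        simpa [mul_assoc] using pslImage_normal.conj_mem _ (hHL hx) g⁻¹
      · rw [Subgroup.card_map_of_injective (MulEquiv.injective _), hA, hc]
    have e1 := hconj _ g (map_toPGL_le M) hg
      (by rw [Subgroup.card_map_of_injective ProjectiveSpecialLinearGroup.toPGL_injective, hMc])
    have e2 := hconj _ g' (hf'le.trans (map_toPGL_le _)) hg'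
      (by rw [← Nat.card_congr (MonoidHom.ofInjective hf').toEquiv, card_alt_four])
    let T := (φ.range.map (pslConj (g * g'⁻¹)).toMonoidHom)
    have hTc : Nat.card T = 60 := by
      rw [Subgroup.card_map_of_injective (pslConj _).injective,
        ← Nat.card_congr (MonoidHom.ofInjective hφ).toEquiv, card_alt_five]
    have hlt := lt_card_psl hodd (b := 11) (by omega) 60 (by norm_num) (by norm_num)
    refine not_le_of_coatom hM (T := T.map ProjectiveSpecialLinearGroup.toPGL) ?_ (map_toPGL_le T) ?_ ?_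
    · rw [map_pslConj, e1]
      refine le_trans ?_ (Subgroup.map_mono hf'le)
      rw [e2, conj_map_map, inv_mul_cancel_right]
    all_goals
      rw [Subgroup.card_map_of_injective ProjectiveSpecialLinearGroup.toPGL_injective, hTc]
      omega
  · have e' := (Subgroup.equivMapOfInjective M _
      ProjectiveSpecialLinearGroup.toPGL_injective).symm.trans e
    have hsq := isSquare_two_of_symm_four h2 (map_toPGL_le M) e'
    rcases Nat.lt_or_ge 1 (n : ℕ) with hn1 | hn1
    · let f : Equiv.Perm (Fin 4) →* PGL :=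
        (M.map ProjectiveSpecialLinearGroup.toPGL).subtype.comp e'.symm.toMonoidHom
      have hf : Function.Injective f := (Subgroup.subtype_injective _).comp e'.symm.injective
      have hfr : f.range = M.map ProjectiveSpecialLinearGroup.toPGL := by
        rw [MonoidHom.range_comp, MonoidHom.range_eq_top.2 e'.symm.surjective, ← MonoidHom.range_eq_map,
          Subgroup.range_subtype]
      have h4 : Nat.card (Fin 4) = 4 := Nat.card_fin 4
      have hchar := alternatingGroup.characteristic_kleinFour h4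
      have : ((alternatingGroup.kleinFour (Fin 4)).map
          (alternatingGroup (Fin 4)).subtype).Normal := inferInstance
      obtain ⟨g, hg⟩ := exists_conj_le_normV h2 _
        (isKleinFour_map _ (Subgroup.subtype_injective _) (alternatingGroup.kleinFour_isKleinFour h4))
        f hf (hfr ▸ map_toPGL_le M) (h₀.map j₀)
      rw [hfr] at hg
      have h := hres j₀ hj₀ hn1 (hg.trans (Subgroup.map_mono (normV_le_pglSub j₀ h2 h₀)))
      exact Or.inr (Or.inr (Or.inr (h.elim Or.inl fun h => Or.inr (Or.inl h))))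
    have hqp : Fintype.card F = p := by rw [hn, show (n : ℕ) = 1 by omega, pow_one]
    refine Or.inr (Or.inr (Or.inr (Or.inr (Or.inr (Or.inr (Or.inr ⟨hqp, ?_, ⟨e⟩⟩))))))
    rw [FiniteField.isSquare_two_iff, hqp] at hsq; omega
  · have hMc : Nat.card M = 60 := by rw [Nat.card_congr e.toEquiv, card_alt_five]
    have h5d : 5 ∣ Nat.card PSL := Nat.dvd_trans (by rw [hMc]; norm_num) M.card_subgroup_dvd_card
    obtain ⟨rt, hrt⟩ := exists_root_of_five h5d
    have hq5 := mod_five_of_dvd_psl hodd h5d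
    by_cases hmem : rt ∈ j₀.fieldRange
    · rcases Nat.lt_or_ge 1 (n : ℕ) with hn1 | hn1
      · obtain ⟨k, hk⟩ := alt_five_defined_over h2 e j₀ hrt hmem h₀
        have h := hres j₀ hj₀ hn1 hk
        exact Or.inr (Or.inr (Or.inr (h.elim Or.inl fun h => Or.inr (Or.inl h))))
      have hqp : Fintype.card F = p := by rw [hn, show (n : ℕ) = 1 by omega, pow_one]
      refine Or.inr (Or.inr (Or.inr (Or.inr (Or.inr (Or.inl ⟨?_, Or.inl hqp, ⟨e⟩⟩)))))
      rcases hq5 with h | h | h
      · exfalso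
        have hp5 : p = 5 := ((Nat.prime_dvd_prime_iff_eq Nat.prime_five Fact.out).1
          (hqp ▸ Nat.dvd_of_mod_eq_zero h)).symm
        have h60 := psl_card_odd (F := F) hodd
        rw [hqp, hp5] at h60
        exact hM.1 (Subgroup.eq_top_of_card_eq _ (by omega))
      all_goals omega
    have hroots : ∀ x : F, x ^ 2 + x - 1 = 0 → x = rt ∨ x = -(rt + 1) := fun x hx => by
      rcases mul_eq_zero.1 (show (x - rt) * (x + rt + 1) = 0 by linear_combination hx - hrt) with e | e
      · exact Or.inl (sub_eq_zero.1 e)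
      · exact Or.inr (by linear_combination e)
    have hno : ∀ r₀ : ZMod p, r₀ ^ 2 + r₀ - 1 ≠ 0 := fun r₀ h0 => by
      rcases hroots (j₀ r₀) (by
        rw [← map_pow, ← map_add, ← map_one j₀, ← map_sub, h0, map_zero]) with e | e
      · exact hmem ⟨r₀, e⟩
      · exact hmem ⟨-(r₀ + 1), by rw [map_neg, map_add, map_one, e]; ring⟩
    have hfrob : rt ^ p = -(rt + 1) := by
      refine (hroots (rt ^ p) ?_).resolve_left fun e => hmem (mem_fieldRange_of_pow j₀ (by rwa [ZMod.card]))
      have h := congrArg (frobenius F p) hrt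
      rw [map_sub, map_add, map_pow, map_one, map_zero, frobenius_def] at h
      exact h
    have hrt2 : rt ^ p ^ 2 = rt := by
      rw [sq, pow_mul, hfrob, Odd.neg_pow (Nat.odd_iff.2 hp2), ← frobenius_def, map_add, map_one,
        frobenius_def, hfrob]
      ring
    obtain ⟨l, hl⟩ : ∃ l, (n : ℕ) = 2 * l := by
      rcases Nat.even_or_odd (n : ℕ) with ⟨l, hl⟩ | ⟨l, hl⟩
      · exact ⟨l, by omega⟩
      · exfalso
        have hpow : ∀ i, rt ^ (p ^ 2) ^ i = rt := fun i => by
          induction i with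
          | zero => simp
          | succ i ih => rw [pow_succ, pow_mul, ih, hrt2]
        have hfix := FiniteField.pow_card rt
        rw [hn, hl, pow_succ, pow_mul, pow_mul, hpow] at hfix
        exact hmem (mem_fieldRange_of_pow j₀ (by rwa [ZMod.card]))
    have : Fintype (GaloisField p 2) := Fintype.ofFinite _
    have hK : Fintype.card (GaloisField p 2) = p ^ 2 := by
      rw [← Nat.card_eq_fintype_card, GaloisField.card p 2 two_ne_zero]
    have hKl : Fintype.card (GaloisField p 2) ^ l = Fintype.card F := by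
      rw [hK, hn, ← pow_mul, hl]
    obtain ⟨j⟩ := exists_fieldHom hKl
    have h2K : (2 : GaloisField p 2) ≠ 0 := fun e => h2 (by rw [← map_ofNat j 2, e, map_zero])
    obtain ⟨I₁, J₁, h₁⟩ := exists_qpair h2K
    rcases Nat.lt_or_ge 1 l with hl1 | hl1
    · obtain ⟨k, hk⟩ := alt_five_defined_over h2 e j hrt
        (mem_fieldRange_of_pow j (by rw [hK]; exact hrt2)) h₁
      have h := hres j hKl hl1 hk
      exact Or.inr (Or.inr (Or.inr (h.elim Or.inl fun h => Or.inr (Or.inl h))))
    have hqp : Fintype.card F = p ^ 2 := by rw [hn, hl, show l = 1 by omega]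
    have hp10 : p % 10 = 3 ∨ p % 10 = 7 := by
      by_contra hcon
      have hpp : p.Prime := Fact.out
      by_cases hp5 : p = 5
      · subst hp5
        exact hno 2 rfl
      · have hp50 : p % 5 ≠ 0 := fun e => hp5
          ((Nat.prime_dvd_prime_iff_eq Nat.prime_five hpp).1 (Nat.dvd_of_mod_eq_zero e)).symm
        obtain ⟨r₀, hr₀⟩ := exists_root_of_five (F := ZMod p) (five_dvd_psl
          (by rw [ZMod.card]; exact Nat.odd_iff.2 hp2) (by rw [ZMod.card]; omega))
        exact hno r₀ hr₀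
    refine Or.inr (Or.inr (Or.inr (Or.inr (Or.inr (Or.inl ⟨?_, Or.inr ⟨hqp, hp10⟩, ⟨e⟩⟩)))))
    right
    rw [hqp, Nat.pow_mod]
    rcases hp10 with h | h <;> rw [h]
  · obtain ⟨m, hm0, hm⟩ := exists_degree S.subtype
    rcases Nat.lt_or_ge 1 m with hm1 | hm1
    swap
    · rw [show m = 1 by omega, pow_one] at hm
      exact absurd (eq_top_of_model hm hiso) hM.1
    obtain ⟨k, hk⟩ := exists_conj_le_of_definedOver hS
    obtain ⟨F₀, i1, i2, r, hr, hc, hpsl, hpgl⟩ := coatom_defined_over hM S.subtype hm hm1 hk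
    rcases hr.eq_two_or_odd' with rfl | ho
    · exact Or.inr (Or.inr (Or.inr (Or.inl ⟨F₀, i1, i2, hc.symm, hpgl rfl hodd⟩)))
    · exact Or.inr (Or.inr (Or.inr (Or.inr (Or.inl ⟨F₀, i1, i2, r, hr, ho, hc.symm, hpsl (Or.inl ho)⟩))))

end CfsgLib.PSL2
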