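import Cfsg.Agent.Lib.PSL2.Dickson
import Cfsg.Agent.Lib.ClassicalGroups.PermModel

/-!
Point stabilisers of `PSL₂(q)` normalise Sylow `p`-subgroups; small models of subfields.
-/

set_option autoImplicit false
set_option linter.unusedSectionVars false

open OnePoint Matrix MulAction

namespace CfsgLib.PSL2

open CfsgLib.PermSmall.Moebius

variable {F : Type*} [Field F] [DecidableEq F]

/-- `PSL₂(F)` on the projective line over `F`. -/
noncomputable def pslPerm (F : Type*) [Field F] [DecidableEq F] :
    ProjectiveSpecialLinearGroup (Fin 2) F →* Equiv.Perm (OnePoint F) :=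
  (pglPerm F).comp ProjectiveSpecialLinearGroup.toPGL

theorem pslPerm_mk (A : SpecialLinearGroup (Fin 2) F) (z : OnePoint F) :
    pslPerm F (QuotientGroup.mk A) z = SpecialLinearGroup.toGL A • z :=
  pglPerm_mk _ z

theorem pslPerm_injective : Function.Injective (pslPerm F) :=
  pglPerm_injective.comp ProjectiveSpecialLinearGroup.toPGL_injective

theorem pslPerm_mem_range (g : ProjectiveSpecialLinearGroup (Fin 2) F) :
    pslPerm F g ∈ (glHom F).range :=
  pglPerm_mem_range _

/-- A translation fixing a given point. -/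
theorem exists_translation (p : ℕ) [Fact p.Prime] [CharP F p] (x : OnePoint F) :
    ∃ u : ProjectiveSpecialLinearGroup (Fin 2) F, u ≠ 1 ∧ u ^ p = 1 ∧ pslPerm F u x = x := by
  obtain ⟨_, ⟨B, rfl⟩, hB⟩ := exists_map_infty x
  obtain ⟨T, hT⟩ : ∃ T : SpecialLinearGroup (Fin 2) F,
      glHom F (SpecialLinearGroup.toGL T) = affinePerm 1 1 := by
    refine ⟨⟨!![1, 1; 0, 1], by simp [Matrix.det_fin_two]⟩, Equiv.ext fun z => ?_⟩
    rw [glHom_apply]
    have e : ∀ (M : Matrix (Fin 2) (Fin 2) F) (hM : M.det = 1) (i j : Fin 2),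
        (SpecialLinearGroup.toGL ⟨M, hM⟩ : GL (Fin 2) F) i j = M i j := fun _ _ _ _ => rfl
    cases z with
    | infty => simp [smul_infty_eq_ite, e]
    | coe a => simp [smul_some_eq_ite, e]
  let u : SpecialLinearGroup (Fin 2) F :=
    ⟨(B * SpecialLinearGroup.toGL T * B⁻¹ : GL (Fin 2) F), by
      have hT1 : ((SpecialLinearGroup.toGL T : GL (Fin 2) F) : Matrix (Fin 2) (Fin 2) F).det = 1 := T.2
      rw [← GeneralLinearGroup.val_det_apply, map_mul, map_mul, map_inv, mul_right_comm,
        mul_inv_cancel, one_mul, GeneralLinearGroup.val_det_apply]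
      exact hT1⟩
  have hu : pslPerm F (QuotientGroup.mk u) = glHom F B * affinePerm 1 1 * (glHom F B)⁻¹ := by
    refine Equiv.ext fun z => ?_
    rw [pslPerm_mk, ← hT, ← map_inv, ← map_mul, ← map_mul, glHom_apply,
      show SpecialLinearGroup.toGL u = B * SpecialLinearGroup.toGL T * B⁻¹ from Units.ext rfl]
  refine ⟨QuotientGroup.mk u, fun e => ?_, pslPerm_injective ?_, ?_⟩
  · rw [e, map_one, eq_comm, conj_eq_one_iff, ← affinePerm_one] at hu
    exact one_ne_zero (affinePerm_inj hu).2
  · rw [map_pow, hu, conj_pow, map_one, conj_eq_one_iff, affine_pow_eq_one_iff]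
  · rw [hu, ← hB, Equiv.Perm.mul_apply, Equiv.Perm.mul_apply, Equiv.Perm.coe_inv,
      Equiv.symm_apply_apply, affinePerm_infty]

variable [Fintype F]

/-- A point stabiliser normalises a Sylow `p`-subgroup. -/
theorem exists_sylow_normalizer (p : ℕ) [Fact p.Prime] [CharP F p] (x : OnePoint F) :
    ∃ P : Sylow p (ProjectiveSpecialLinearGroup (Fin 2) F), ∀ g, pslPerm F g x = x →
      g ∈ Subgroup.normalizer
        ((P : Subgroup (ProjectiveSpecialLinearGroup (Fin 2) F)) : Set (ProjectiveSpecialLinearGroup (Fin 2) F)) := by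
  classical
  let ι : F →+* AlgebraicClosure F := algebraMap F _
  have : CharP (AlgebraicClosure F) p := charP_of_injective_ringHom ι.injective p
  let f := pslLineHom ι
  have hA := isLineAction f p (pslLineHom_injective ι) (pslLineHom_mem_range ι)
  obtain ⟨u, hu1, hup, hux⟩ := exists_translation p x
  have hback : ∀ g z, f g (z.map ι) = (pslPerm F g z).map ι := fun g z =>
    lineHom_apply_map ι _ z
  have hfx : f u (x.map ι) = x.map ι := by rw [hback, hux]
  let xL : Pts f := ⟨x.map ι, u, hu1, hfx⟩
  have hum : u ∈ unip hA xL := ⟨(pts_smul_eq_iff f _ _).2 hfx, hup⟩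
  obtain ⟨P, hP⟩ := (isPGroup_unip hA xL).exists_le_sylow
  have hPeq := sylow_eq_unip hA hum hu1 P (hP hum)
  refine ⟨P, fun g hg => ?_⟩
  have hgx : g • xL = xL := (pts_smul_eq_iff f _ _).2 (by rw [hback, hg])
  rw [hPeq, Subgroup.mem_normalizer_iff]
  intro v
  rw [mem_unip, mem_unip, conj_pow, conj_eq_one_iff, mul_smul,
    mul_smul, inv_smul_eq_iff.2 hgx.symm, smul_eq_iff_eq_inv_smul g, inv_smul_eq_iff.2 hgx.symm]

/-- Ring isomorphisms induce isomorphisms of `PGL₂`. -/
noncomputable def pglFieldCongr {K L : Type*} [Field K] [Field L] (e : K ≃+* L) :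
    ProjGenLinGroup (Fin 2) K ≃* ProjGenLinGroup (Fin 2) L :=
  { toFun := ProjGenLinGroup.map e.toRingHom
    invFun := ProjGenLinGroup.map e.symm.toRingHom
    left_inv := fun g => by
      rw [← MonoidHom.comp_apply, ← ProjGenLinGroup.map_comp,
        show e.symm.toRingHom.comp e.toRingHom = RingHom.id K from RingHom.ext e.symm_apply_apply,
        ProjGenLinGroup.map_id, MonoidHom.id_apply]
    right_inv := fun g => by
      rw [← MonoidHom.comp_apply, ← ProjGenLinGroup.map_comp,
        show e.toRingHom.comp e.symm.toRingHom = RingHom.id L from RingHom.ext e.apply_symm_apply,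
        ProjGenLinGroup.map_id, MonoidHom.id_apply]
    map_mul' := map_mul _ }

/-- A subfield has a model in `Type`, and `q` is a power of its order. -/
theorem exists_small_model (p : ℕ) [Fact p.Prime] [CharP F p] (S : Subfield F) :
    ∃ (K : Type) (_ : Field K) (_ : Fintype K) (m : ℕ), Fintype.card K ^ m = Fintype.card F ∧
      Nonempty (S ≃+* K) := by
  classical
  have : CharP S p := (RingHom.charP_iff_charP S.subtype p).2 inferInstance
  obtain ⟨n, -, hn⟩ := FiniteField.card S p
  have hn0 : (n : ℕ) ≠ 0 := n.ne_zero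
  have : Fintype (GaloisField p n) := Fintype.ofFinite _
  have hK : Fintype.card (GaloisField p n) = Fintype.card S := by
    rw [hn, ← Nat.card_eq_fintype_card, GaloisField.card p n hn0]
  refine ⟨GaloisField p n, inferInstance, inferInstance, Module.finrank S F, ?_,
    ⟨FiniteField.ringEquivOfCardEq hK.symm⟩⟩
  rw [hK, ← Module.card_eq_pow_finrank]

end CfsgLib.PSL2
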