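import Cfsg.Agent.Lib.PSL2.Dihedral

/-!
Maximality of the dihedral subgroups of `PSL₂(q)`.
-/

set_option autoImplicit false
set_option linter.unusedSectionVars false

open OnePoint Matrix

namespace CfsgLib.PSL2

open CfsgLib.PermSmall.Moebius

theorem alt_four_no_dihedral_three : ∀ a b : alternatingGroup (Fin 4),
    a ^ 3 = 1 → b ^ 2 = 1 → (b * a) ^ 2 = 1 → a = 1 ∨ b = 1 := by
  decide +kernel

theorem card_alt_four : Nat.card (alternatingGroup (Fin 4)) = 12 := by
  rw [nat_card_alternatingGroup, Nat.card_fin]; rfl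

theorem card_alt_five : Nat.card (alternatingGroup (Fin 5)) = 60 := by
  rw [nat_card_alternatingGroup, Nat.card_fin]; rfl

variable {F : Type*} [Field F] [Fintype F]

/-- A subfield is everything or has order at most `√q`. -/
theorem subfield_card (S : Subfield F) :
    S = ⊤ ∨ Nat.card S * Nat.card S ≤ Fintype.card F := by
  classical
  simp only [Nat.card_eq_fintype_card]
  have h := Module.card_eq_pow_finrank (K := S) (V := F)
  have h1 : 0 < Module.finrank S F := Module.finrank_pos
  rcases Nat.lt_or_ge 1 (Module.finrank S F) with hm | hm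
  · refine Or.inr ?_
    rw [h, ← sq]
    exact Nat.pow_le_pow_right Fintype.card_pos hm
  · left
    rw [show Module.finrank S F = 1 by omega, pow_one] at h
    refine SetLike.ext fun a => iff_of_true ?_ trivial
    have hb := (Fintype.bijective_iff_injective_and_card (Subtype.val : S → F)).2
      ⟨Subtype.val_injective, h.symm⟩
    obtain ⟨b, rfl⟩ := hb.2 a
    exact b.2

theorem card_psl_le_pgl : Nat.card (ProjectiveSpecialLinearGroup (Fin 2) F) ≤
    Nat.card (ProjGenLinGroup (Fin 2) F) :=
  Nat.card_le_card_of_injective _ ProjectiveSpecialLinearGroup.toPGL_injective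

variable [DecidableEq F] {L : Type*} [Field L] [DecidableEq L] [IsAlgClosed L] {ι : F →+* L}
  {Φ : L →+* L} (hΦ : ∀ z, Φ z = z ^ Fintype.card F)
include hΦ

theorem eq_pslPair_of_le (p : ℕ) [Fact p.Prime] [CharP F p] {x y : OnePoint L} {e : ℕ}
    (h : IsPair ι Φ x y e)
    (hex : (e = Fintype.card F - 1 ∧ Fintype.card F ∉ ({2, 3, 5, 7, 9, 11} : Finset ℕ)) ∨
      (e = Fintype.card F + 1 ∧ Fintype.card F ∉ ({2, 7, 9} : Finset ℕ)))
    {M : Subgroup (ProjectiveSpecialLinearGroup (Fin 2) F)} (hle : pslPair ι x y ≤ M) (hM : M ≠ ⊤) :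
    M = pslPair ι x y := by
  classical
  have hq := Fintype.one_lt_card (α := F)
  obtain ⟨hcardD, ⟨φD⟩⟩ := pslPair_dihedral hΦ h
  set d := Nat.gcd 2 (Fintype.card F - 1) with hd
  set k := e / d with hk
  have hq2 : 2 < Fintype.card F := by
    rcases hex with ⟨-, hh⟩ | ⟨-, hh⟩ <;> simp at hh <;> omega
  have hd' : (Even (Fintype.card F) ∧ d = 1) ∨ (Odd (Fintype.card F) ∧ d = 2) :=
    (Nat.even_or_odd _).imp (fun he => ⟨he, gcd_eq_one he⟩) (fun ho => ⟨ho, gcd_eq_two ho⟩)
  have he : e = Fintype.card F - 1 ∨ e = Fintype.card F + 1 := hex.imp And.left And.left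
  have hk2 : 2 ≤ k := by
    rcases hd' with ⟨hev, hd1⟩ | ⟨hod, hd1⟩
    · rw [hk, hd1, Nat.div_one]; omega
    · rw [hk, hd1]
      rw [Nat.odd_iff] at hod
      rcases hex with ⟨he, hh⟩ | ⟨he, hh⟩ <;> simp at hh <;> omega
  have hcyc := isCyclic_pslFix (ι := ι) hΦ h.1
  obtain ⟨t, ht⟩ := IsCyclic.exists_generator (α := pslFix ι x y)
  have hto : orderOf (t : ProjectiveSpecialLinearGroup (Fin 2) F) = k := by
    rw [Subgroup.orderOf_coe, orderOf_eq_card_of_forall_mem_zpowers ht, card_pslFix hΦ h]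
  have htM : (t : ProjectiveSpecialLinearGroup (Fin 2) F) ∈ M :=
    hle (fixStab_le_pairStab ι x y t.2)
  have ht1 : (t : ProjectiveSpecialLinearGroup (Fin 2) F) ≠ 1 := fun e1 => by
    rw [e1, orderOf_one] at hto; omega
  have hordM : orderOf (⟨t, htM⟩ : M) = k := by rw [Subgroup.orderOf_mk, hto]
  have hdvd : Nat.card (pslPair ι x y) ∣ Nat.card M := Subgroup.card_dvd_of_le hle
  have htop : Nat.card M = Nat.card (ProjectiveSpecialLinearGroup (Fin 2) F) → False :=
    fun hc => hM (Subgroup.eq_top_of_card_eq M hc)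
  have hlag := M.card_subgroup_dvd_card
  have hcp := card_psl (F := F)
  rw [← hd] at hcp
  have hfinish : Nat.card M = Nat.card (pslPair ι x y) → M = pslPair ι x y := fun hc =>
    (Subgroup.eq_of_le_of_card_ge hle hc.le).symm
  rcases dickson_psl p M with ⟨x₀, hx₀⟩ | ⟨k', hk', ⟨hcyc', -⟩ | ⟨⟨φ⟩⟩⟩ | hA | hA | hA | ⟨S, -, hS⟩
  · exfalso
    obtain ⟨w, hwL, hwx, hwy⟩ := exists_swap hΦ h
    obtain ⟨w₀, hw₀⟩ := (range_toPGL (F := F)).ge hwL
    have hwM : w₀ ∈ M := hle (show ProjectiveSpecialLinearGroup.toPGL w₀ ∈ pairStab ι x y by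
      rw [hw₀]; exact Or.inr ⟨hwx, hwy⟩)
    have hfix : ∀ g ∈ M, lineHom ι (ProjectiveSpecialLinearGroup.toPGL g) (x₀.map ι) = x₀.map ι :=
      fun g hg => by rw [lineHom_apply_map, hx₀ g hg]
    obtain ⟨htx, hty⟩ := t.2
    have hne := (map_ne_one_iff _ (pslLineHom_injective ι)).2 ht1
    rcases fix_le_two_perm (pslLineHom_mem_range ι _) hne htx hty (hfix _ htM) with e1 | e1 | e1
    · exact h.1 e1
    · have := hfix _ hwM
      rw [← e1, hw₀, hwx] at this
      exact h.1 this.symm
    · have := hfix _ hwM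
      rw [← e1, hw₀, hwy] at this
      exact h.1 this
  · exfalso
    have := isCyclic_of_injective (Subgroup.inclusion hle) (Subgroup.inclusion_injective hle)
    exact DihedralGroup.not_isCyclic (n := k) (by omega) (φD.isCyclic.1 this)
  · have hMc : Nat.card M = 2 * k' := by rw [Nat.card_congr φ.toEquiv, DihedralGroup.nat_card]
    have hkk : k ∣ k' := by
      rw [hcardD, hMc] at hdvd
      exact Nat.dvd_of_mul_dvd_mul_left Nat.two_pos hdvd
    have hk'k : k' ∣ k := by
      have hbig : ¬ (k ∣ (Fintype.card F + 1) / d ∧ k ∣ (Fintype.card F - 1) / d) := by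
        rintro ⟨h1, h2⟩
        have h3 := Nat.dvd_sub h1 h2
        rcases hd' with ⟨hev, hd1⟩ | ⟨hod, hd1⟩
        · rw [hd1, Nat.div_one, Nat.div_one, show Fintype.card F + 1 - (Fintype.card F - 1) = 2 by omega] at h3
          have := Nat.le_of_dvd Nat.two_pos h3
          rw [hd1, Nat.div_one] at h2
          rw [show k = 2 by omega] at h2
          rw [Nat.even_iff] at hev
          omega
        · rw [Nat.odd_iff] at hod
          rw [hd1, show (Fintype.card F + 1) / 2 - (Fintype.card F - 1) / 2 = 1 by omega] at h3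
          have := Nat.le_of_dvd Nat.one_pos h3
          omega
      rcases he with he | he <;> rcases hk' with hk' | hk'
      · exact absurd ⟨hkk.trans hk', by rw [hk, he]⟩ hbig
      · rw [hk, he]; exact hk'
      · rw [hk, he]; exact hk'
      · exact absurd ⟨by rw [hk, he], hkk.trans hk'⟩ hbig
    refine hfinish ?_
    rw [hMc, hcardD, Nat.dvd_antisymm hkk hk'k]
  · obtain ⟨φ⟩ := hA
    have hc : Nat.card M = 12 := by
      rw [Nat.card_congr φ.toEquiv]
      exact card_alt_four
    have hk3 : k ≤ 3 := by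
      have hall : ∀ a : alternatingGroup (Fin 4), a ^ 2 = 1 ∨ a ^ 3 = 1 := by decide +kernel
      rw [← hordM, ← φ.orderOf_eq]
      rcases hall (φ ⟨t, htM⟩) with h1 | h1 <;>
        [exact (Nat.le_of_dvd (by norm_num) (orderOf_dvd_of_pow_eq_one h1)).trans (by norm_num);
         exact Nat.le_of_dvd (by norm_num) (orderOf_dvd_of_pow_eq_one h1)]
    rcases eq_or_lt_of_le hk2 with hk' | hk'
    · exfalso
      refine htop ?_
      have hq3 : Fintype.card F = 3 := by
        rcases hd' with ⟨hev, hd1⟩ | ⟨hod, hd1⟩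
        · rw [Nat.even_iff] at hev
          rw [hk, hd1, Nat.div_one] at hk'
          omega
        · rw [Nat.odd_iff] at hod
          rw [hk, hd1] at hk'
          rcases hex with ⟨he, hh⟩ | ⟨he, hh⟩ <;> simp at hh <;> omega
      rw [hq3, show d = 2 by rw [hd, hq3]; rfl] at hcp
      omega
    · exfalso
      have hk3' : k = 3 := by omega
      rw [hk3'] at φD
      let ψ : DihedralGroup 3 →* alternatingGroup (Fin 4) :=
        φ.toMonoidHom.comp ((Subgroup.inclusion hle).comp φD.symm.toMonoidHom)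
      have hψ : Function.Injective ψ :=
        φ.injective.comp ((Subgroup.inclusion_injective hle).comp φD.symm.injective)
      rcases alt_four_no_dihedral_three (ψ (.r 1)) (ψ (.sr 0))
        (by rw [← map_pow, show (DihedralGroup.r (1 : ZMod 3)) ^ 3 = 1 by decide, map_one])
        (by rw [← map_pow, show (DihedralGroup.sr (0 : ZMod 3)) ^ 2 = 1 by decide, map_one])
        (by rw [← map_mul, ← map_pow,
          show ((DihedralGroup.sr (0 : ZMod 3)) * DihedralGroup.r 1) ^ 2 = 1 by decide, map_one]) with e1 | e1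
      · exact absurd ((map_eq_one_iff ψ hψ).1 e1) (by decide)
      · exact absurd ((map_eq_one_iff ψ hψ).1 e1) (by decide)
  · exfalso
    obtain ⟨φ⟩ := hA
    have hc : Nat.card M = 24 := by
      rw [Nat.card_congr φ.toEquiv, Nat.card_perm, Nat.card_fin]; rfl
    have hk4 : k ≤ 4 := by
      have hall : ∀ a : Equiv.Perm (Fin 4), a ^ 3 = 1 ∨ a ^ 4 = 1 := by decide +kernel
      rw [← hordM, ← φ.orderOf_eq]
      rcases hall (φ ⟨t, htM⟩) with h1 | h1 <;>
        [exact (Nat.le_of_dvd (by norm_num) (orderOf_dvd_of_pow_eq_one h1)).trans (by norm_num);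
         exact Nat.le_of_dvd (by norm_num) (orderOf_dvd_of_pow_eq_one h1)]
    have hsmall : Fintype.card F = 3 ∨ Fintype.card F = 4 ∨ Fintype.card F = 5 := by
      rcases hd' with ⟨hev, hd1⟩ | ⟨hod, hd1⟩
      · rw [Nat.even_iff] at hev
        rw [hk, hd1, Nat.div_one] at hk4
        omega
      · rw [Nat.odd_iff] at hod
        rw [hk, hd1] at hk4
        rcases hex with ⟨he, hh⟩ | ⟨he, hh⟩ <;> simp at hh <;> omega
    rw [hc] at hlag
    obtain ⟨j, hj⟩ := hlag
    rcases hsmall with h3 | h3 | h3 <;> rw [hd, h3] at hcp <;> norm_num [-Nat.card_eq_fintype_card] at hcp <;> omega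
  · exfalso
    obtain ⟨φ⟩ := hA
    have hc : Nat.card M = 60 := by
      rw [Nat.card_congr φ.toEquiv]
      exact card_alt_five
    have hk5 : k ≤ 5 := by
      have hall : ∀ a : alternatingGroup (Fin 5), a ^ 2 = 1 ∨ a ^ 3 = 1 ∨ a ^ 5 = 1 := by decide +kernel
      rw [← hordM, ← φ.orderOf_eq]
      rcases hall (φ ⟨t, htM⟩) with h1 | h1 | h1
      · exact (Nat.le_of_dvd (by norm_num) (orderOf_dvd_of_pow_eq_one h1)).trans (by norm_num)
      · exact (Nat.le_of_dvd (by norm_num) (orderOf_dvd_of_pow_eq_one h1)).trans (by norm_num)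
      · exact Nat.le_of_dvd (by norm_num) (orderOf_dvd_of_pow_eq_one h1)
    have hsmall : Fintype.card F = 3 ∨ Fintype.card F = 4 ∨ Fintype.card F = 5 := by
      rcases hd' with ⟨hev, hd1⟩ | ⟨hod, hd1⟩
      · rw [Nat.even_iff] at hev
        have h8 : Fintype.card F ≠ 6 := by
          intro h6
          obtain ⟨n, hp, hn⟩ := FiniteField.card F p
          rw [h6] at hn
          have h2 : 2 ∣ p ^ (n : ℕ) := hn ▸ by norm_num
          have h3 : 3 ∣ p ^ (n : ℕ) := hn ▸ by norm_num
          have e2 := (Nat.prime_dvd_prime_iff_eq Nat.prime_two hp).1 (Nat.prime_two.dvd_of_dvd_pow h2)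
          have e3 := (Nat.prime_dvd_prime_iff_eq Nat.prime_three hp).1 (Nat.prime_three.dvd_of_dvd_pow h3)
          omega
        rw [hk, hd1, Nat.div_one] at hk5
        omega
      · rw [Nat.odd_iff] at hod
        rw [hk, hd1] at hk5
        rcases hex with ⟨he, hh⟩ | ⟨he, hh⟩ <;> simp at hh <;> omega
    rcases hsmall with h3 | h3 | h3
    · rw [hc] at hlag
      have := Nat.le_of_dvd Nat.card_pos hlag
      rw [hd, h3] at hcp
      norm_num [-Nat.card_eq_fintype_card] at hcp
      omega
    · refine htop ?_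
      rw [hd, h3] at hcp
      norm_num [-Nat.card_eq_fintype_card] at hcp
      omega
    · refine htop ?_
      rw [hd, h3] at hcp
      norm_num [-Nat.card_eq_fintype_card] at hcp
      omega
  · rcases subfield_card S with rfl | hsmall
    · exfalso
      refine htop (le_antisymm (Subgroup.card_le_card_group M) ?_)
      rcases hS with ⟨⟨φ⟩⟩ | ⟨⟨φ⟩⟩
      · rw [Nat.card_congr φ.toEquiv,
          Nat.card_congr (CfsgLib.ClassicalGroups.pslFieldCongr (Subfield.topEquiv (K := F))).toEquiv]
      · rw [Nat.card_congr φ.toEquiv, Nat.card_congr (pglFieldCongr (Subfield.topEquiv (K := F))).toEquiv]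
        exact card_psl_le_pgl
    · rw [Nat.card_eq_fintype_card] at hsmall
      have hk0 : k ≤ Fintype.card S + 1 := by
        rw [← hordM]
        rcases hS with ⟨⟨φ⟩⟩ | ⟨⟨φ⟩⟩
        · rw [← φ.orderOf_eq, ← orderOf_injective _ ProjectiveSpecialLinearGroup.toPGL_injective]
          exact orderOf_pgl_le _
        · rw [← φ.orderOf_eq]
          exact orderOf_pgl_le _
      have hS2 := Fintype.one_lt_card (α := S)
      have hcase : Fintype.card F = 4 ∧ Fintype.card S = 2 ∧ k = 3 := by
        rcases hd' with ⟨hev, hd1⟩ | ⟨hod, hd1⟩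
        · rw [Nat.even_iff] at hev
          rw [hk, hd1, Nat.div_one] at hk0
          have hS3 : Fintype.card S = 2 := by
            by_contra hne
            have := Nat.mul_le_mul_right (Fintype.card S) (show 3 ≤ Fintype.card S by omega)
            omega
          rw [hk, hd1, Nat.div_one]
          omega
        · exfalso
          rw [Nat.odd_iff] at hod
          rw [hk, hd1] at hk0
          have hne2 : Fintype.card S ≠ 2 := by
            intro e2
            have h' := Module.card_eq_pow_finrank (K := S) (V := F)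
            rw [e2] at h'
            have h0 : 2 ∣ Fintype.card F := h' ▸ dvd_pow_self 2 Module.finrank_pos.ne'
            omega
          rcases Nat.lt_or_ge (Fintype.card S) 4 with hlt | hge
          · rcases hex with ⟨he, hh⟩ | ⟨he, hh⟩ <;> simp at hh <;>
              interval_cases (Fintype.card S) <;> omega
          · have := Nat.mul_le_mul_right (Fintype.card S) hge
            omega
      obtain ⟨-, hS3, hk3⟩ := hcase
      refine hfinish ?_
      rw [hcardD, hk3]
      have hp1 := card_pgl (F := S)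
      have hp2 := card_psl (F := S)
      rw [hS3] at hp1 hp2
      norm_num [-Nat.card_eq_fintype_card] at hp1 hp2
      rcases hS with ⟨⟨φ⟩⟩ | ⟨⟨φ⟩⟩
      · rw [Nat.card_congr φ.toEquiv, hp2]
      · rw [Nat.card_congr φ.toEquiv, hp1]

theorem isCoatom_pslPair (p : ℕ) [Fact p.Prime] [CharP F p] {x y : OnePoint L} {e : ℕ}
    (h : IsPair ι Φ x y e)
    (hex : (e = Fintype.card F - 1 ∧ Fintype.card F ∉ ({2, 3, 5, 7, 9, 11} : Finset ℕ)) ∨
      (e = Fintype.card F + 1 ∧ Fintype.card F ∉ ({2, 7, 9} : Finset ℕ))) :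
    IsCoatom (pslPair ι x y) := by
  refine ⟨fun htop => ?_, fun M hlt => by_contra fun hM => hlt.ne' (eq_pslPair_of_le hΦ p h hex hlt.le hM)⟩
  have h1 := (pslPair_dihedral hΦ h).1
  rw [htop, Subgroup.card_top] at h1
  have h2 := card_psl (F := F)
  rw [h1] at h2
  have hd := Nat.div_mul_le_self e (Nat.gcd 2 (Fintype.card F - 1))
  have hq := Fintype.one_lt_card (α := F)
  have hq4 : 3 ≤ Fintype.card F := by rcases hex with ⟨-, hh⟩ | ⟨-, hh⟩ <;> simp at hh <;> omega
  have h3 : 3 * 2 ≤ Fintype.card F * (Fintype.card F - 1) := Nat.mul_le_mul hq4 (by omega)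
  have he : e ≤ Fintype.card F + 1 := by rcases hex with ⟨he, -⟩ | ⟨he, -⟩ <;> omega
  nlinarith

end CfsgLib.PSL2
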