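import Mathlib
import Cfsg.Agent.Lib.Small.OrderSixty
import Cfsg.Agent.Lib.TwoGroups.Semidihedral

/-!
Recognition of dihedral groups, `A₄`, `S₄` and `A₅` from element orders.
-/

set_option autoImplicit false

open Subgroup

namespace CfsgLib.PSL2

variable {G : Type*} [Group G] [Finite G]

/-- A cyclic subgroup of index two with all outside elements squaring to one gives a dihedral
group. -/
theorem nonempty_mulEquiv_dihedral (C : Subgroup G) [hC : IsCyclic C] (hidx : C.index = 2)
    (hout : ∀ g ∉ C, g * g = 1) : Nonempty (G ≃* DihedralGroup (Nat.card C)) := by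
  obtain ⟨⟨u, huC⟩, hu⟩ := hC.exists_generator
  have hgen : Subgroup.zpowers u = C := by
    refine le_antisymm (Subgroup.zpowers_le.2 huC) fun a ha => ?_
    obtain ⟨k, hk⟩ := hu ⟨a, ha⟩
    exact ⟨k, by simpa using congrArg Subtype.val hk⟩
  obtain ⟨v, hv⟩ : ∃ v, v ∉ C := by
    by_contra h
    have : C = ⊤ := by simpa [Subgroup.eq_top_iff'] using h
    rw [this, index_top] at hidx
    omega
  have hvu : v * u ∉ C := fun h => hv ((Subgroup.mul_mem_cancel_right C huC).1 h)
  have hinv : v * u * v⁻¹ = u⁻¹ := by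
    rw [inv_eq_of_mul_eq_one_right (hout v hv)]
    exact eq_inv_of_mul_eq_one_left (by rw [mul_assoc]; exact hout _ hvu)
  have hord : orderOf u = Nat.card C := by rw [← hgen, Nat.card_zpowers]
  have hpow : u ^ Nat.card C = 1 := hord ▸ pow_orderOf_eq_one u
  have : NeZero (Nat.card C) := ⟨Nat.card_pos.ne'⟩
  refine ⟨(MulEquiv.ofBijective (CfsgLib.TwoGroups.SD.dihedralHom u v hpow (hout v hv) hinv)
    ((Nat.bijective_iff_injective_and_card _).2 ⟨?_, ?_⟩)).symm⟩
  · exact CfsgLib.TwoGroups.SD.dihedralHom_injective u v hpow (hout v hv) hinv hord (by rwa [hgen])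
  · rw [DihedralGroup.nat_card, ← C.card_mul_index, hidx, mul_comm]

/-- An element whose prime order does not divide `q - 1` centralises every normalised subgroup of
prime order `q`. -/
theorem commute_of_normalize {q r : ℕ} [hq : Fact q.Prime] {P : Subgroup G} (hP : Nat.card P = q)
    (hr : Nat.Coprime r (q - 1)) {g : G} (hg : g ∈ normalizer (P : Set G)) (hgr : g ^ r = 1)
    {x : G} (hx : x ∈ P) : g * x = x * g := by
  have : IsCyclic P := isCyclic_of_prime_card hP
  have h1 : P.normalizerMonoidHom ⟨g, hg⟩ = 1 := by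
    have h2 : P.normalizerMonoidHom ⟨g, hg⟩ ^ r = 1 := by
      rw [← map_pow, show (⟨g, hg⟩ : normalizer (P : Set G)) ^ r = 1 from Subtype.ext hgr, map_one]
    have h3 : Nat.card (MulAut P) = q - 1 := by
      rw [IsCyclic.card_mulAut, hP, Nat.totient_prime hq.out]
    exact orderOf_eq_one_iff.1 (Nat.eq_one_of_dvd_coprimes hr (orderOf_dvd_of_pow_eq_one h2)
      (h3 ▸ orderOf_dvd_natCard _))
  rw [← MonoidHom.mem_ker, normalizerMonoidHom_ker] at h1
  exact (h1 x hx).symm

omit [Finite G] in
theorem orderOf_mul_eq {g h : G} {r q : ℕ} [Fact r.Prime] [Fact q.Prime] (hne : r ≠ q)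
    (hg : orderOf g = r) (hh : orderOf h = q) (hc : g * h = h * g) : orderOf (g * h) = r * q := by
  rw [Commute.orderOf_mul_eq_mul_orderOf_of_coprime hc, hg, hh]
  rw [hg, hh]
  exact (Nat.coprime_primes Fact.out Fact.out).2 hne

/-- A Sylow subgroup for a prime dividing the order exactly once has prime order. -/
theorem card_sylow_eq {p : ℕ} [Fact p.Prime] {m : ℕ} (h : Nat.card G = p * m) (hm : ¬ p ∣ m)
    (P : Sylow p G) : Nat.card P = p := by
  have hm0 : m ≠ 0 := fun e => hm (e ▸ dvd_zero p)
  rw [P.card_eq_multiplicity, h, Nat.factorization_mul (Fact.out : p.Prime).ne_zero hm0,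
    Finsupp.add_apply, Nat.Prime.factorization_self Fact.out,
    Nat.factorization_eq_zero_of_not_dvd hm, add_zero, pow_one]

/-- Groups of order 12 or 24 without elements of order 6 act faithfully on their four
Sylow 3-subgroups. -/
theorem exists_hom_perm_four (hN : Nat.card G = 12 ∨ Nat.card G = 24)
    (h6 : ∀ g : G, orderOf g ≠ 6) :
    ∃ f : G →* Equiv.Perm (Fin 4), Function.Injective f := by
  classical
  have : Fact (Nat.Prime 2) := ⟨Nat.prime_two⟩
  have : Fact (Nat.Prime 3) := ⟨Nat.prime_three⟩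
  have key : ∀ g t : G, orderOf g = 3 → orderOf t = 2 → t * g ≠ g * t := fun g t hg ht hc =>
    h6 (t * g) (orderOf_mul_eq (r := 2) (q := 3) (by norm_num) ht hg hc)
  have hP : ∀ P : Sylow 3 G, Nat.card P = 3 := by
    intro P
    rcases hN with h | h
    · exact card_sylow_eq (m := 4) (by rw [h]) (by norm_num) P
    · exact card_sylow_eq (m := 8) (by rw [h]) (by norm_num) P
  have hnorm : ∀ P : Sylow 3 G, Nat.card (normalizer ((P : Subgroup G) : Set G)) ∣ 6 := by
    intro P
    set N := normalizer ((P : Subgroup G) : Set G)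
    have : IsCyclic P := isCyclic_of_prime_card (hP P)
    obtain ⟨g, hg⟩ := IsCyclic.exists_generator (α := (P : Subgroup G))
    have hgo : orderOf (g : G) = 3 := by
      rw [Subgroup.orderOf_coe, orderOf_eq_card_of_forall_mem_zpowers hg, hP]
    have hC : Nat.card (P : Subgroup G).normalizerMonoidHom.ker ∣ 3 := by
      have hd : Nat.card (P : Subgroup G).normalizerMonoidHom.ker ∣ 24 :=
        ((Subgroup.card_subgroup_dvd_card _).trans (Subgroup.card_subgroup_dvd_card N)).trans
          (by rcases hN with h | h <;> rw [h] <;> norm_num)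
      have h2 : ¬ 2 ∣ Nat.card (P : Subgroup G).normalizerMonoidHom.ker := by
        intro h2
        obtain ⟨t, ht⟩ := exists_prime_orderOf_dvd_card' 2 h2
        refine key g ((t : N) : G) hgo ?_ ?_
        · rw [Subgroup.orderOf_coe, Subgroup.orderOf_coe, ht]
        · have := le_of_eq (normalizerMonoidHom_ker (H := (P : Subgroup G))) t.2
          exact (this (g : G) g.2).symm
      have : Nat.Coprime (Nat.card (P : Subgroup G).normalizerMonoidHom.ker) (2 ^ 3) :=
        ((Nat.Prime.coprime_iff_not_dvd Nat.prime_two).2 h2).symm.pow_right 3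
      exact this.dvd_of_dvd_mul_left hd
    have h3 : Nat.card (P : Subgroup G).normalizerMonoidHom.range ∣ 2 := by
      have : IsCyclic P := isCyclic_of_prime_card (hP P)
      have := Subgroup.card_subgroup_dvd_card (P : Subgroup G).normalizerMonoidHom.range
      rwa [IsCyclic.card_mulAut, hP, Nat.totient_prime Nat.prime_three] at this
    rw [← Subgroup.index_ker] at h3
    rw [← (P : Subgroup G).normalizerMonoidHom.ker.card_mul_index]
    exact Nat.mul_dvd_mul hC h3
  have hcount : Nat.card (Sylow 3 G) = 4 := by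
    have P : Sylow 3 G := Classical.arbitrary _
    have h1 := card_sylow_modEq_one 3 G
    have h2 := P.card_dvd_index
    have h3 : (P : Subgroup G).index * 3 = Nat.card G := by
      have := (P : Subgroup G).card_mul_index
      rw [hP P] at this
      omega
    have h4 := (normalizer ((P : Subgroup G) : Set G)).card_mul_index
    have h4' : (normalizer ((P : Subgroup G) : Set G)).index = Nat.card (Sylow 3 G) :=
      P.card_eq_index_normalizer.symm
    rw [h4'] at h4
    have h5 := Nat.le_of_dvd (by norm_num) (hnorm P)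
    have hne : Nat.card (Sylow 3 G) ≠ 1 := fun e => by rw [e, mul_one] at h4; omega
    have h6 : Nat.card (Sylow 3 G) ∣ 8 := h2.trans (by
      rcases hN with h | h
      · exact ⟨2, by omega⟩
      · exact ⟨1, by omega⟩)
    have h7 := Nat.le_of_dvd (by norm_num) h6
    unfold Nat.ModEq at h1
    interval_cases (Nat.card (Sylow 3 G)) <;> omega
  let e : Sylow 3 G ≃ Fin 4 := Finite.equivFinOfCardEq hcount
  let f := MulAction.toPermHom G (Sylow 3 G)
  refine ⟨(e.permCongrHom).toMonoidHom.comp f, (e.permCongrHom).injective.comp ?_⟩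
  rw [← MonoidHom.ker_eq_bot_iff, ← Subgroup.card_eq_one]
  have hle : ∀ P : Sylow 3 G, f.ker ≤ normalizer ((P : Subgroup G) : Set G) := by
    intro P k hk
    exact Sylow.smul_eq_iff_mem_normalizer.1 (Equiv.ext_iff.1 (MonoidHom.mem_ker.1 hk) P)
  have h6' : Nat.card f.ker ∣ 6 :=
    (Subgroup.card_dvd_of_le (hle (Classical.arbitrary _))).trans (hnorm _)
  have h3' : ¬ 3 ∣ Nat.card f.ker := by
    intro h3
    obtain ⟨⟨k, hk⟩, hko⟩ := exists_prime_orderOf_dvd_card' 3 h3
    rw [Subgroup.orderOf_mk] at hko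
    have hmem : ∀ P : Sylow 3 G, k ∈ P := fun P => by
      have hzp : IsPGroup 3 (Subgroup.zpowers k) :=
        IsPGroup.of_card (n := 1) (by rw [Nat.card_zpowers, hko, pow_one])
      have hm : k ∈ Subgroup.zpowers k ⊓ normalizer ((P : Subgroup G) : Set G) :=
        ⟨Subgroup.mem_zpowers k, hle P hk⟩
      exact (le_of_eq (hzp.inf_normalizer_sylow P) hm).2
    have hall : ∀ P : Sylow 3 G, (P : Subgroup G) = Subgroup.zpowers k := fun P =>
      (Subgroup.eq_of_le_of_card_ge (Subgroup.zpowers_le.2 (hmem P))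
        (by rw [hP, Nat.card_zpowers, hko])).symm
    have : Subsingleton (Sylow 3 G) := ⟨fun P Q => Sylow.ext ((hall P).trans (hall Q).symm)⟩
    rw [Nat.card_of_subsingleton (Classical.arbitrary _)] at hcount
    omega
  have hd2 : Nat.card f.ker ∣ 2 :=
    (((Nat.Prime.coprime_iff_not_dvd Nat.prime_three).2 h3').symm).dvd_of_dvd_mul_left h6'
  refine ((Nat.dvd_prime Nat.prime_two).1 hd2).resolve_right fun h2 => ?_
  obtain ⟨⟨t, ht⟩, hto⟩ := exists_prime_orderOf_dvd_card' 2 (dvd_of_eq h2.symm)
  rw [Subgroup.orderOf_mk] at hto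
  obtain ⟨g, hg⟩ := exists_prime_orderOf_dvd_card' (G := G) 3
    (by rcases hN with h | h <;> rw [h] <;> norm_num)
  refine key g t hg hto ?_
  have h1 : (g * t * g⁻¹ : G) ∈ f.ker := (inferInstance : f.ker.Normal).conj_mem t ht g
  by_contra hne
  have hne1 : g * t * g⁻¹ ≠ t := fun e => hne (by rw [← mul_inv_eq_iff_eq_mul.1 e])
  have ht1 : t ≠ 1 := fun e => by rw [e, orderOf_one] at hto; omega
  obtain ⟨a, -, hall⟩ := Nat.card_eq_two_iff' (1 : f.ker) |>.1 h2
  have e1 := hall ⟨t, ht⟩ (fun e => ht1 (congrArg Subtype.val e))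
  have e2 := hall ⟨_, h1⟩ (fun e => ht1 (conj_eq_one_iff.1 (congrArg Subtype.val e)))
  exact hne1 (congrArg Subtype.val (e2.trans e1.symm))

/-- A group of order 12 without elements of order 6 is `A₄`. -/
theorem nonempty_mulEquiv_alternating_four (hN : Nat.card G = 12) (h6 : ∀ g : G, orderOf g ≠ 6) :
    Nonempty (G ≃* alternatingGroup (Fin 4)) := by
  obtain ⟨f, hf⟩ := exists_hom_perm_four (Or.inl hN) h6
  have hc : Nat.card f.range = 12 := by
    rw [← Nat.card_congr (MonoidHom.ofInjective hf).toEquiv, hN]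
  have hi : f.range.index = 2 := by
    have h := f.range.card_mul_index
    rw [hc, Nat.card_perm, Nat.card_fin] at h
    simp [Nat.factorial] at h
    omega
  exact ⟨(MonoidHom.ofInjective hf).trans
    (MulEquiv.subgroupCongr (Equiv.Perm.eq_alternatingGroup_of_index_eq_two hi))⟩

/-- A group of order 24 without elements of order 6 is `S₄`. -/
theorem nonempty_mulEquiv_symm_four (hN : Nat.card G = 24) (h6 : ∀ g : G, orderOf g ≠ 6) :
    Nonempty (G ≃* Equiv.Perm (Fin 4)) := by
  obtain ⟨f, hf⟩ := exists_hom_perm_four (Or.inr hN) h6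
  exact ⟨MulEquiv.ofBijective f ((Nat.bijective_iff_injective_and_card f).2
    ⟨hf, by rw [hN, Nat.card_perm, Nat.card_fin]; rfl⟩)⟩

/-- A group of order 60 whose elements have order 1, 2, 3 or 5 is `A₅`. -/
theorem nonempty_mulEquiv_alternating_five_of_spectrum (hN : Nat.card G = 60)
    (hs : ∀ g : G, g ^ 2 = 1 ∨ g ^ 3 = 1 ∨ g ^ 5 = 1) :
    Nonempty (G ≃* alternatingGroup (Fin 5)) := by
  classical
  have : Fact (Nat.Prime 2) := ⟨Nat.prime_two⟩
  have : Fact (Nat.Prime 3) := ⟨Nat.prime_three⟩
  have : Fact (Nat.Prime 5) := ⟨Nat.prime_five⟩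
  have key : ∀ (r : ℕ) [Fact r.Prime] (g h : G), r = 2 ∨ r = 3 → orderOf g = r → orderOf h = 5 →
      g * h ≠ h * g := by
    intro r _ g h hr hg hh hc
    have ho := orderOf_mul_eq (by omega) hg hh hc
    rcases hs (g * h) with e | e | e <;>
      · have := Nat.le_of_dvd (by norm_num) (orderOf_dvd_of_pow_eq_one e)
        rcases hr with rfl | rfl <;> omega
  obtain ⟨g₅, hg₅⟩ := exists_prime_orderOf_dvd_card' (G := G) 5 (by rw [hN]; norm_num)
  obtain ⟨g₃, hg₃⟩ := exists_prime_orderOf_dvd_card' (G := G) 3 (by rw [hN]; norm_num)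
  have hno3 : ∀ M : Subgroup G, M.Normal → Nat.card M ≠ 3 := by
    intro M hM hc
    obtain ⟨⟨x, hx⟩, hxo⟩ := exists_prime_orderOf_dvd_card' (G := M) 3 (dvd_of_eq hc.symm)
    rw [Subgroup.orderOf_mk] at hxo
    exact key 3 x g₅ (Or.inr rfl) hxo hg₅ (commute_of_normalize (q := 3) (r := 5) hc (by norm_num)
      (by rw [normalizer_eq_top]; trivial) (by rw [← hg₅]; exact pow_orderOf_eq_one g₅) hx).symm
  have hno5 : ∀ M : Subgroup G, M.Normal → Nat.card M ≠ 5 := by
    intro M hM hc
    obtain ⟨⟨x, hx⟩, hxo⟩ := exists_prime_orderOf_dvd_card' (G := M) 5 (dvd_of_eq hc.symm)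
    rw [Subgroup.orderOf_mk] at hxo
    exact key 3 g₃ x (Or.inr rfl) hg₃ hxo (commute_of_normalize (q := 5) (r := 3) hc (by norm_num)
      (by rw [normalizer_eq_top]; trivial) (by rw [← hg₃]; exact pow_orderOf_eq_one g₃) hx)
  have : Nontrivial G := Finite.one_lt_card_iff_nontrivial.1 (by omega)
  have huniq : ∀ (q : ℕ) [Fact q.Prime] (M : Subgroup G) (m : ℕ), M.Normal → Nat.card M = q * m →
      0 < m → m < q → ∃ L : Subgroup G, L.Normal ∧ Nat.card L = q := by
    intro q _ M m hM hc hm0 hmq
    have hndvd : ¬ q ∣ m := fun h => absurd (Nat.le_of_dvd hm0 h) (by omega)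
    have Q : Sylow q M := Classical.arbitrary _
    have hQ := card_sylow_eq hc hndvd Q
    have h1 := card_sylow_modEq_one q M
    have h2 := Q.card_dvd_index
    have h3 : (Q : Subgroup M).index = m := by
      have h4 := (Q : Subgroup M).card_mul_index
      rw [hQ, hc] at h4
      exact Nat.eq_of_mul_eq_mul_left (Fact.out : q.Prime).pos h4
    rw [h3] at h2
    have h7 := Nat.le_of_dvd hm0 h2
    have hone : Nat.card (Sylow q M) = 1 := by
      unfold Nat.ModEq at h1
      rw [Nat.mod_eq_of_lt (by omega), Nat.mod_eq_of_lt (Fact.out : q.Prime).one_lt] at h1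
      exact h1
    have : Subsingleton (Sylow q M) := (Nat.card_eq_one_iff_unique.1 hone).1
    have := Q.characteristic_of_subsingleton
    exact ⟨(Q : Subgroup M).map M.subtype, inferInstance,
      by rw [Subgroup.card_map_of_injective M.subtype_injective, hQ]⟩
  have hsimple : IsSimpleGroup G := by
    refine { eq_bot_or_eq_top_of_normal := fun M hM => ?_ }
    by_contra hne
    push Not at hne
    have hd := M.card_subgroup_dvd_card
    rw [hN] at hd
    have h1 : Nat.card M ≠ 1 := fun e => hne.1 (Subgroup.eq_bot_of_card_eq _ e)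
    have h60 : Nat.card M ≠ 60 := fun e => hne.2 (Subgroup.eq_top_of_card_eq _ (by rw [hN, e]))
    by_cases h5 : 5 ∣ Nat.card M
    · obtain ⟨m, hm⟩ := h5
      have hm12 : m ∣ 12 := Nat.dvd_of_mul_dvd_mul_left (show 0 < 5 by norm_num) (hm ▸ hd)
      have hmle := Nat.le_of_dvd (by norm_num) hm12
      by_cases hm5 : m < 5
      · have hm0 : 0 < m := Nat.pos_of_ne_zero fun e => by rw [e] at hm; exact Nat.card_pos.ne' hm
        obtain ⟨L, hL, hc⟩ := huniq 5 M m hM hm hm0 hm5
        exact hno5 L hL hc
      have hm6 : m = 6 := by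
        interval_cases m <;> revert hm12 hm5 h60 <;> rw [hm] <;> decide
      subst hm6
      have S : Sylow 2 M := Classical.arbitrary _
      have hS := card_sylow_eq (p := 2) (m := 15) (by rw [hm]) (by norm_num) S
      have hcomp := IsCyclic.isComplement' (G := M) (p := 2) (by rw [hm]; norm_num) (P := S)
        (isCyclic_of_prime_card hS)
      have hK := hcomp.card_mul_card
      rw [hS] at hK
      set K := (MonoidHom.transferSylow S _).ker
      have hK15 : Nat.card K = 5 * 3 := by omega
      have Q : Sylow 5 K := Classical.arbitrary _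
      have hQ := card_sylow_eq hK15 (by norm_num) Q
      have h7 := Q.card_dvd_index
      have h8 := (Q : Subgroup K).card_mul_index
      rw [hQ, hK15] at h8
      rw [show (Q : Subgroup K).index = 3 by omega] at h7
      have h9 := card_sylow_modEq_one 5 K
      have hone : Nat.card (Sylow 5 K) = 1 := by
        have := Nat.le_of_dvd (by norm_num) h7
        unfold Nat.ModEq at h9
        omega
      have : Subsingleton (Sylow 5 K) := (Nat.card_eq_one_iff_unique.1 hone).1
      have : (Q : Subgroup K).Normal := Sylow.normal_of_subsingleton Q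
      obtain ⟨y, hy⟩ := exists_prime_orderOf_dvd_card' (G := K) 3 (by rw [hK15]; norm_num)
      obtain ⟨⟨x, hx⟩, hxo⟩ := exists_prime_orderOf_dvd_card' (G := Q) 5 (dvd_of_eq hQ.symm)
      rw [Subgroup.orderOf_mk] at hxo
      have hc := commute_of_normalize (q := 5) (r := 3) hQ (by norm_num) (g := y)
        (by rw [normalizer_eq_top]; trivial) (by rw [← hy]; exact pow_orderOf_eq_one y) hx
      exact key 3 ((y : M) : G) ((x : M) : G) (Or.inr rfl)
        (by rw [Subgroup.orderOf_coe, Subgroup.orderOf_coe, hy])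
        (by rw [Subgroup.orderOf_coe, Subgroup.orderOf_coe, hxo])
        (congrArg (fun a : K => ((a : M) : G)) hc)
    · have hd12 : Nat.card M ∣ 12 :=
        ((Nat.Prime.coprime_iff_not_dvd Nat.prime_five).2 h5).symm.dvd_of_dvd_mul_left hd
      let A : Subgroup (ConjAct G) :=
        (Subgroup.zpowers g₅).map (ConjAct.toConjAct : G ≃* ConjAct G).toMonoidHom
      have hA : IsPGroup 5 A := by
        refine IsPGroup.of_card (n := 1) ?_
        rw [Subgroup.card_map_of_injective (MulEquiv.injective _), Nat.card_zpowers, hg₅, pow_one]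
      have hfix : ∀ m : M, m ∈ MulAction.fixedPoints A M ↔ m = 1 := by
        intro m
        refine ⟨fun hm => ?_, fun hm a => by rw [hm, smul_one]⟩
        have h3 : ConjAct.toConjAct g₅ • (m : G) = m := congrArg Subtype.val
          (hm ⟨ConjAct.toConjAct g₅, ⟨g₅, Subgroup.mem_zpowers g₅, rfl⟩⟩)
        rw [ConjAct.toConjAct_smul, mul_inv_eq_iff_eq_mul] at h3
        by_contra hm1
        have hm1' : (m : G) ≠ 1 := fun e => hm1 (Subtype.ext e)
        rcases hs (m : G) with e | e | e
        · exact key 2 _ g₅ (Or.inl rfl) (orderOf_eq_prime e hm1') hg₅ h3.symm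
        · exact key 3 _ g₅ (Or.inr rfl) (orderOf_eq_prime e hm1') hg₅ h3.symm
        · refine h5 ?_
          rw [← orderOf_eq_prime e hm1', Subgroup.orderOf_coe]
          exact orderOf_dvd_natCard m
      have hmod := hA.card_modEq_card_fixedPoints M
      have hone : Nat.card (MulAction.fixedPoints A M) = 1 := Nat.card_eq_one_iff_exists.2
        ⟨⟨1, (hfix 1).2 rfl⟩, fun m => Subtype.ext ((hfix m).1 m.2)⟩
      rw [hone] at hmod
      have hle := Nat.le_of_dvd (by norm_num) hd12
      have h6 : Nat.card M = 3 * 2 := by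
        unfold Nat.ModEq at hmod
        interval_cases (Nat.card M) <;> omega
      obtain ⟨L, hL, hc⟩ := huniq 3 M 2 hM h6 (by norm_num) (by norm_num)
      exact hno3 L hL hc
  exact CfsgLib.Small.nonempty_mulEquiv_alternating_five hN

end CfsgLib.PSL2
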