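import Cfsg.Agent.Lib.PSL2.Tori

/-!
Dihedral normalisers of tori in `PGL₂(q)` and `PSL₂(q)`.
-/

set_option autoImplicit false
set_option linter.unusedSectionVars false

open OnePoint Matrix

namespace CfsgLib.PSL2

open CfsgLib.PermSmall.Moebius

variable {F L : Type*} [Field F] [Fintype F] [DecidableEq F] [Field L] [DecidableEq L]
  {ι : F →+* L} {Φ : L →+* L} (hΦ : ∀ z, Φ z = z ^ Fintype.card F)

/-- A pair stabiliser inside a group containing a swap is dihedral. -/
theorem dihedral_inf [IsAlgClosed L] {x y : OnePoint L} (hxy : x ≠ y)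
    (Lg : Subgroup (ProjGenLinGroup (Fin 2) F))
    (hw : ∃ w ∈ Lg, lineHom ι w x = y ∧ lineHom ι w y = x) :
    Nat.card ↥(pairStab ι x y ⊓ Lg) = 2 * Nat.card ↥(fixStab ι x y ⊓ Lg) ∧
      Nonempty (↥(pairStab ι x y ⊓ Lg) ≃* DihedralGroup (Nat.card ↥(fixStab ι x y ⊓ Lg))) := by
  obtain ⟨w, hwL, hwx, hwy⟩ := hw
  set P := pairStab ι x y ⊓ Lg
  have hle : fixStab ι x y ⊓ Lg ≤ P := inf_le_inf_right _ (fixStab_le_pairStab ι x y)
  let C := (fixStab ι x y ⊓ Lg).subgroupOf P
  have hwP : w ∈ P := ⟨Or.inr ⟨hwx, hwy⟩, hwL⟩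
  have hswap : ∀ g : P, g ∉ C → lineHom ι (g : ProjGenLinGroup (Fin 2) F) x = y ∧
      lineHom ι (g : ProjGenLinGroup (Fin 2) F) y = x := by
    intro g hg
    rcases g.2.1 with h | h
    · exact absurd (show g ∈ C from ⟨h, g.2.2⟩) hg
    · exact h
  have hidx : C.index = 2 := by
    refine Subgroup.index_eq_two_iff.2 ⟨⟨w, hwP⟩, fun b => ?_⟩
    by_cases hb : b ∈ C
    · refine Or.inr ⟨hb, fun hbw => ?_⟩
      have h1 := (Subgroup.mul_mem_cancel_left _ hb).1 hbw
      exact hxy (h1.1.1.symm.trans hwx)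
    · obtain ⟨hbx, hby⟩ := hswap b hb
      refine Or.inl ⟨⟨⟨?_, ?_⟩, mul_mem b.2.2 hwL⟩, hb⟩
      · show lineHom ι ((b : ProjGenLinGroup (Fin 2) F) * w) x = x
        rw [map_mul, Equiv.Perm.mul_apply, hwx, hby]
      · show lineHom ι ((b : ProjGenLinGroup (Fin 2) F) * w) y = y
        rw [map_mul, Equiv.Perm.mul_apply, hwy, hbx]
  have hcard : Nat.card C = Nat.card ↥(fixStab ι x y ⊓ Lg) :=
    Nat.card_congr (Subgroup.subgroupOfEquivOfLe hle).toEquiv
  have hc2 : Nat.card P = 2 * Nat.card ↥(fixStab ι x y ⊓ Lg) := by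
    rw [← hcard, ← C.card_mul_index, hidx, mul_comm]
  refine ⟨hc2, ?_⟩
  have hcyc : IsCyclic C := by
    have := isCyclic_fixStab (ι := ι) hxy
    have h2 : IsCyclic ↥(fixStab ι x y ⊓ Lg) :=
      isCyclic_of_injective (Subgroup.inclusion (inf_le_left : fixStab ι x y ⊓ Lg ≤ fixStab ι x y))
        (Subgroup.inclusion_injective _)
    exact isCyclic_of_injective (Subgroup.subgroupOfEquivOfLe hle).toMonoidHom
      (Subgroup.subgroupOfEquivOfLe hle).injective
  rw [← hcard]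
  refine nonempty_mulEquiv_dihedral C hidx fun g hg => Subtype.ext ?_
  obtain ⟨hgx, hgy⟩ := hswap g hg
  exact mul_self_eq_one_of_swap hxy hgx hgy

theorem card_inf_pslImage (K : Subgroup (ProjGenLinGroup (Fin 2) F))
    (hK : Odd (Fintype.card F) → ∃ t ∈ K, t ∉ pslImage F) :
    Nat.gcd 2 (Fintype.card F - 1) * Nat.card ↥(K ⊓ pslImage F) = Nat.card K := by
  rcases Nat.even_or_odd (Fintype.card F) with he | ho
  · rw [gcd_eq_one he, one_mul, pslImage_eq_top_of_even he, inf_top_eq]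
  · obtain ⟨t, htK, htn⟩ := hK ho
    have hidx : ((pslImage F).subgroupOf K).index = 2 := by
      refine Subgroup.index_eq_two_iff.2 ⟨⟨t, htK⟩, fun b => ?_⟩
      by_cases hb : b ∈ (pslImage F).subgroupOf K
      · exact Or.inr ⟨hb, fun h => htn ((Subgroup.mul_mem_cancel_left _ hb).1 h :)⟩
      · exact Or.inl ⟨mul_mem_pslImage_of_not_mem hb htn, hb⟩
    have h := ((pslImage F).subgroupOf K).card_mul_index
    rw [hidx, ← Subgroup.inf_subgroupOf_left,
      Nat.card_congr (Subgroup.subgroupOfEquivOfLe (inf_le_left : K ⊓ pslImage F ≤ K)).toEquiv] at h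
    rw [gcd_eq_two ho, ← h, mul_comm]

/-- The stabiliser of a pair in `PSL₂`. -/
noncomputable def pslPair (ι : F →+* L) (x y : OnePoint L) :
    Subgroup (ProjectiveSpecialLinearGroup (Fin 2) F) :=
  (pairStab ι x y).comap ProjectiveSpecialLinearGroup.toPGL

/-- The stabiliser of two points in `PSL₂`. -/
noncomputable def pslFix (ι : F →+* L) (x y : OnePoint L) :
    Subgroup (ProjectiveSpecialLinearGroup (Fin 2) F) :=
  (fixStab ι x y).comap ProjectiveSpecialLinearGroup.toPGL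

/-- `PSL₂` preimages of subgroups of `PGL₂`. -/
noncomputable def comapEquivInf (K : Subgroup (ProjGenLinGroup (Fin 2) F)) :
    ↥(K.comap ProjectiveSpecialLinearGroup.toPGL) ≃* ↥(K ⊓ pslImage F) :=
  (Subgroup.equivMapOfInjective _ ProjectiveSpecialLinearGroup.toPGL
    ProjectiveSpecialLinearGroup.toPGL_injective).trans
    (MulEquiv.subgroupCongr (by rw [Subgroup.map_comap_eq, range_toPGL, inf_comm]))

include hΦ

theorem card_pslFix {x y : OnePoint L} {e : ℕ} (h : IsPair ι Φ x y e) :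
    Nat.card (pslFix ι x y) = e / Nat.gcd 2 (Fintype.card F - 1) := by
  rw [pslFix, Nat.card_congr (comapEquivInf _).toEquiv, ← card_fixStab hΦ h,
    ← card_inf_pslImage (fixStab ι x y) (exists_fix_not_mem hΦ h),
    Nat.mul_div_cancel_left _ (Nat.gcd_pos_of_pos_left _ Nat.two_pos)]

theorem isCyclic_pslFix {x y : OnePoint L} (hxy : x ≠ y) : IsCyclic (pslFix ι x y) := by
  have := isCyclic_fixStab (ι := ι) hxy
  exact isCyclic_of_injective (ProjectiveSpecialLinearGroup.toPGL.subgroupComap (fixStab ι x y))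
    fun a b h => Subtype.ext (ProjectiveSpecialLinearGroup.toPGL_injective (congrArg Subtype.val h))

/-- The pair stabiliser in `PSL₂` is dihedral of order `2e/d`. -/
theorem pslPair_dihedral [IsAlgClosed L] {x y : OnePoint L} {e : ℕ} (h : IsPair ι Φ x y e) :
    Nat.card (pslPair ι x y) = 2 * (e / Nat.gcd 2 (Fintype.card F - 1)) ∧
      Nonempty (pslPair ι x y ≃* DihedralGroup (e / Nat.gcd 2 (Fintype.card F - 1))) := by
  obtain ⟨w, hwL, hwx, hwy⟩ := exists_swap hΦ h
  obtain ⟨h1, ⟨φ⟩⟩ := dihedral_inf h.1 (pslImage F) ⟨w, hwL, hwx, hwy⟩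
  rw [← card_pslFix hΦ h, pslFix, Nat.card_congr (comapEquivInf _).toEquiv]
  exact ⟨by rw [pslPair, Nat.card_congr (comapEquivInf _).toEquiv, h1],
    ⟨(comapEquivInf _).trans φ⟩⟩

/-- The pair stabiliser in `PGL₂` is dihedral of order `2e`. -/
theorem pairStab_dihedral [IsAlgClosed L] {x y : OnePoint L} {e : ℕ} (h : IsPair ι Φ x y e) :
    Nat.card (pairStab ι x y) = 2 * e ∧ Nonempty (pairStab ι x y ≃* DihedralGroup e) := by
  obtain ⟨w, -, hwx, hwy⟩ := exists_swap hΦ h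
  obtain ⟨h1, ⟨φ⟩⟩ := dihedral_inf h.1 ⊤ ⟨w, Subgroup.mem_top w, hwx, hwy⟩
  rw [inf_top_eq, inf_top_eq, card_fixStab hΦ h] at h1
  refine ⟨h1, ⟨(MulEquiv.subgroupCongr (inf_top_eq (pairStab ι x y)).symm).trans (φ.trans ?_)⟩⟩
  rw [inf_top_eq, card_fixStab hΦ h]

/-- Elements fixing a pair have order dividing `e`. -/
theorem orderOf_dvd_of_fix {x y : OnePoint L} {e : ℕ} (h : IsPair ι Φ x y e)
    {g : ProjGenLinGroup (Fin 2) F} (hg : g ∈ fixStab ι x y) : orderOf g ∣ e := by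
  rw [← card_fixStab hΦ h, ← Subgroup.orderOf_mk g hg]
  exact orderOf_dvd_natCard _

omit hΦ in
/-- Element orders in `PGL₂(q)` are at most `q + 1`. -/
theorem orderOf_pgl_le {F : Type*} [Field F] [Fintype F] (g : ProjGenLinGroup (Fin 2) F) :
    orderOf g ≤ Fintype.card F + 1 := by
  classical
  obtain ⟨p, hp⟩ := CharP.exists F
  have : Fact p.Prime := ⟨CharP.char_is_prime F p⟩
  let ι : F →+* AlgebraicClosure F := algebraMap F _
  have : CharP (AlgebraicClosure F) p := charP_of_injective_ringHom ι.injective p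
  obtain ⟨Φ, hΦ⟩ := exists_frob (F := F) (L := AlgebraicClosure F) p
  rcases eq_or_ne g 1 with rfl | hg
  · simp
  have hne := (map_ne_one_iff _ (lineHom_injective ι)).2 hg
  obtain ⟨x, hx⟩ := exists_fix_of_isAlgClosed (lineHom_mem_range ι g)
  by_cases hu : ∀ z, lineHom ι g z = z → z = x
  · have h1 : g ^ p = 1 := lineHom_injective ι (by
      rw [map_pow, map_one, pow_eq_one_iff_perm p (lineHom_mem_range ι g) hne hx]
      exact hu)
    have := Nat.le_of_dvd (Fact.out : p.Prime).pos (orderOf_dvd_of_pow_eq_one h1)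
    obtain ⟨n, hp', hn⟩ := FiniteField.card F p
    have : p ≤ Fintype.card F := hn ▸ Nat.le_self_pow n.ne_zero p
    omega
  · push Not at hu
    obtain ⟨y, hy, hyx⟩ := hu
    obtain ⟨e, he⟩ := isPair_of_fix hΦ hg hyx.symm hx hy
    have hd := orderOf_dvd_of_fix hΦ he (g := g) ⟨hx, hy⟩
    have hq := Fintype.one_lt_card (α := F)
    rcases he with ⟨-, ⟨-, rfl⟩ | ⟨-, -, -, rfl⟩⟩
    · have := Nat.le_of_dvd (by omega) hd; omega
    · exact Nat.le_of_dvd (by omega) hd

end CfsgLib.PSL2
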