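import Cfsg.Agent.Lib.PSL2.Classify
import Cfsg.Agent.Lib.PermSmall.Moebius

/-!
Finite groups of fractional linear maps over an algebraically closed field satisfy `IsLineAction`.
-/

set_option autoImplicit false
set_option linter.unusedSectionVars false

open OnePoint

namespace CfsgLib.PSL2

open CfsgLib.PermSmall.Moebius

variable {L : Type*} [Field L] [DecidableEq L]

theorem affinePerm_mul (t t' : Lˣ) (b b' : L) :
    affinePerm t b * affinePerm t' b' = affinePerm (t * t') ((t : L) * b' + b) := by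
  refine Equiv.ext fun x => ?_
  cases x with
  | infty => simp
  | coe k =>
    simp only [Equiv.Perm.mul_apply, affinePerm_coe, Units.val_mul, OnePoint.coe_eq_coe]
    ring

theorem affinePerm_inj {t t' : Lˣ} {b b' : L} (h : affinePerm t b = affinePerm t' b') :
    t = t' ∧ b = b' := by
  have h0 := Equiv.congr_fun h ((0 : L) : OnePoint L)
  have h1 := Equiv.congr_fun h ((1 : L) : OnePoint L)
  simp only [affinePerm_coe, mul_zero, zero_add, mul_one, OnePoint.coe_eq_coe] at h0 h1
  subst h0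
  exact ⟨Units.ext (add_right_cancel h1), rfl⟩

theorem affinePerm_one : affinePerm (1 : Lˣ) (0 : L) = 1 := by
  refine Equiv.ext fun x => ?_
  cases x with
  | infty => simp
  | coe k => simp

theorem affinePerm_one_pow (b : L) (n : ℕ) : affinePerm 1 b ^ n = affinePerm 1 ((n : L) * b) := by
  induction n with
  | zero => simp [affinePerm_one]
  | succ n ih =>
    rw [pow_succ, ih, affinePerm_mul, mul_one, Units.val_one, one_mul, Nat.cast_succ]
    congr 1
    ring

theorem affinePerm_pow_fst (t : Lˣ) (b : L) (n : ℕ) :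
    ∃ b', affinePerm t b ^ n = affinePerm (t ^ n) b' := by
  induction n with
  | zero => exact ⟨0, by simp [affinePerm_one]⟩
  | succ n ih =>
    obtain ⟨b', hb'⟩ := ih
    exact ⟨_, by rw [pow_succ, hb', affinePerm_mul, ← pow_succ]⟩

theorem eq_affine_of_fix_infty {σ : Equiv.Perm (OnePoint L)} (hσ : σ ∈ (glHom L).range)
    (h : σ ∞ = ∞) : ∃ t b, σ = affinePerm t b := by
  obtain ⟨A, rfl⟩ := hσ
  rw [glHom_apply, smul_infty_eq_self_iff] at h
  obtain ⟨t, -, ht⟩ := glHom_eq_affinePerm h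
  exact ⟨t, _, ht⟩

theorem exists_map_infty (x : OnePoint L) : ∃ k ∈ (glHom L).range, k ∞ = x := by
  cases x with
  | infty => exact ⟨1, one_mem _, rfl⟩
  | coe a =>
    refine ⟨glHom L (Matrix.GeneralLinearGroup.mkOfDetNeZero !![a, -1; 1, 0]
      (by simp [Matrix.det_fin_two])), ⟨_, rfl⟩, ?_⟩
    simp [glHom_apply, smul_infty_eq_ite]

theorem conj_affine {σ k : Equiv.Perm (OnePoint L)} (hσ : σ ∈ (glHom L).range)
    (hk : k ∈ (glHom L).range) (h : σ (k ∞) = k ∞) :
    ∃ t b, σ = k * affinePerm t b * k⁻¹ := by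
  obtain ⟨t, b, htb⟩ := eq_affine_of_fix_infty (mul_mem (mul_mem (inv_mem hk) hσ) hk)
    (by rw [Equiv.Perm.mul_apply, Equiv.Perm.mul_apply, h, Equiv.Perm.coe_inv,
      Equiv.symm_apply_apply] : (k⁻¹ * σ * k) ∞ = ∞)
  exact ⟨t, b, by rw [← htb]; group⟩

theorem exists_fix_of_isAlgClosed [IsAlgClosed L] {σ : Equiv.Perm (OnePoint L)}
    (hσ : σ ∈ (glHom L).range) : ∃ x, σ x = x := by
  obtain ⟨A, rfl⟩ := hσ
  by_cases h : A 1 0 = 0
  · exact ⟨∞, smul_infty_eq_self_iff.2 h⟩
  · obtain ⟨c, hc⟩ := IsAlgClosed.exists_root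
      (Polynomial.C (A 1 0) * Polynomial.X ^ 2 + Polynomial.C (A 1 1 - A 0 0) * Polynomial.X +
        Polynomial.C (-A 0 1)) (by rw [Polynomial.degree_quadratic h]; norm_num)
    simp only [Polynomial.IsRoot, Polynomial.eval_add, Polynomial.eval_mul, Polynomial.eval_C,
      Polynomial.eval_pow, Polynomial.eval_X] at hc
    refine ⟨(c : OnePoint L), ?_⟩
    rw [glHom_apply, smul_some_eq_ite]
    have hne : A 1 0 * c + A 1 1 ≠ 0 := by
      intro e
      apply A.det_ne_zero
      rw [Matrix.det_fin_two]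
      linear_combination (A 0 0 - A 1 0 * c) * e + A 1 0 * hc
    rw [if_neg hne, OnePoint.coe_eq_coe, div_eq_iff hne]
    linear_combination -hc

theorem affine_fix_two {t : Lˣ} {b : L} {z w : L} (hzw : z ≠ w) (hz : (t : L) * z + b = z)
    (hw : (t : L) * w + b = w) : affinePerm t b = 1 := by
  have ht : (t : L) = 1 := by
    have : ((t : L) - 1) * (z - w) = 0 := by linear_combination hz - hw
    exact sub_eq_zero.1 ((mul_eq_zero.1 this).resolve_right (sub_ne_zero.2 hzw))
  have hb : b = 0 := by rw [ht, one_mul] at hz; linear_combination hz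
  rw [show t = 1 from Units.ext ht, hb, affinePerm_one]

theorem fix_le_two_perm {σ : Equiv.Perm (OnePoint L)} (hσ : σ ∈ (glHom L).range) (h1 : σ ≠ 1)
    {x y z : OnePoint L} (hx : σ x = x) (hy : σ y = y) (hz : σ z = z) : x = y ∨ x = z ∨ y = z := by
  by_contra h
  push Not at h
  obtain ⟨k, hk, rfl⟩ := exists_map_infty x
  obtain ⟨t, b, rfl⟩ := conj_affine hσ hk hx
  simp only [Equiv.Perm.mul_apply] at hy hz
  rw [← Equiv.eq_symm_apply] at hy hz
  obtain ⟨y', hy'⟩ : ∃ y' : L, k⁻¹ y = y' := by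
    rcases OnePoint.ne_infty_iff_exists.1 (fun e => h.1 (by
      rw [← e, Equiv.Perm.coe_inv, Equiv.apply_symm_apply]) : k⁻¹ y ≠ ∞) with ⟨a, ha⟩
    exact ⟨a, ha.symm⟩
  obtain ⟨z', hz'⟩ : ∃ z' : L, k⁻¹ z = z' := by
    rcases OnePoint.ne_infty_iff_exists.1 (fun e => h.2.1 (by
      rw [← e, Equiv.Perm.coe_inv, Equiv.apply_symm_apply]) : k⁻¹ z ≠ ∞) with ⟨a, ha⟩
    exact ⟨a, ha.symm⟩
  rw [← Equiv.Perm.coe_inv] at hy hz
  rw [hy', affinePerm_coe, OnePoint.coe_eq_coe] at hy
  rw [hz', affinePerm_coe, OnePoint.coe_eq_coe] at hz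
  have hne : y' ≠ z' := fun e => h.2.2 ((k⁻¹).injective (by rw [hy', hz', e]))
  exact h1 (by rw [affine_fix_two hne hy hz, mul_one, mul_inv_cancel])

section CharP

variable (p : ℕ) [Fact p.Prime] [CharP L p]

theorem affine_pow_eq_one_iff (t : Lˣ) (b : L) : affinePerm t b ^ p = 1 ↔ t = 1 := by
  constructor
  · intro h
    obtain ⟨b', hb'⟩ := affinePerm_pow_fst t b p
    rw [h, ← affinePerm_one] at hb'
    have := (affinePerm_inj hb').1
    have : ExpChar L p := ExpChar.prime Fact.out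
    refine Units.ext (frobenius_inj L p ?_)
    rw [frobenius_def, frobenius_def, ← Units.val_pow_eq_pow_val, ← ‹1 = t ^ p›, Units.val_one,
      one_pow]
  · rintro rfl
    rw [affinePerm_one_pow, CharP.cast_eq_zero, zero_mul, affinePerm_one]

theorem pow_eq_one_iff_perm {σ : Equiv.Perm (OnePoint L)} (hσ : σ ∈ (glHom L).range) (h1 : σ ≠ 1)
    {x : OnePoint L} (hx : σ x = x) : σ ^ p = 1 ↔ ∀ z, σ z = z → z = x := by
  obtain ⟨k, hk, rfl⟩ := exists_map_infty x
  obtain ⟨t, b, rfl⟩ := conj_affine hσ hk hx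
  rw [conj_pow, conj_eq_one_iff, affine_pow_eq_one_iff]
  constructor
  · rintro rfl z hz
    simp only [Equiv.Perm.mul_apply] at hz
    rw [← Equiv.eq_symm_apply, ← Equiv.Perm.coe_inv] at hz
    cases hc : k⁻¹ z with
    | infty => rw [← hc, Equiv.Perm.coe_inv, Equiv.apply_symm_apply]
    | coe a =>
      rw [hc, affinePerm_coe, OnePoint.coe_eq_coe, Units.val_one, one_mul, add_eq_left] at hz
      exact absurd (by rw [hz, affinePerm_one, mul_one, mul_inv_cancel]) h1
  · intro h
    by_contra ht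
    have ht' : (1 : L) - t ≠ 0 := sub_ne_zero.2 fun e => ht (Units.ext e.symm)
    refine OnePoint.coe_ne_infty (b / (1 - t) : L) (k.injective (h _ ?_))
    simp only [Equiv.Perm.mul_apply, Equiv.Perm.coe_inv, Equiv.symm_apply_apply, affinePerm_coe]
    congr 2
    field_simp
    ring

end CharP

section Instance

variable {G : Type*} [Group G] (f : G →* Equiv.Perm (OnePoint L))

/-- The points fixed by some non-trivial element. -/
def Pts : Type _ := {z : OnePoint L // ∃ g : G, g ≠ 1 ∧ f g z = z}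

instance instPtsAction : MulAction G (Pts f) where
  smul g z := ⟨f g z.1, by
    obtain ⟨a, ha, haz⟩ := z.2
    refine ⟨g * a * g⁻¹, fun e => ha (conj_eq_one_iff.1 e), ?_⟩
    rw [map_mul, map_mul, map_inv, Equiv.Perm.mul_apply, Equiv.Perm.mul_apply, Equiv.Perm.coe_inv,
      Equiv.symm_apply_apply, haz]⟩
  one_smul z := Subtype.ext (by show f 1 z.1 = z.1; rw [map_one, Equiv.Perm.one_apply])
  mul_smul g h z := Subtype.ext (by
    show f (g * h) z.1 = f g (f h z.1); rw [map_mul, Equiv.Perm.mul_apply])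

theorem pts_smul_eq_iff (g : G) (z : Pts f) : g • z = z ↔ f g z.1 = z.1 := Subtype.ext_iff

variable (p : ℕ) [Fact p.Prime] [CharP L p] [IsAlgClosed L]

theorem isLineAction (hf : Function.Injective f) (hr : ∀ g, f g ∈ (glHom L).range) :
    IsLineAction p L G (Pts f) where
  exists_fix g hg := by
    obtain ⟨x, hx⟩ := exists_fix_of_isAlgClosed (hr g)
    exact ⟨⟨x, g, hg, hx⟩, (pts_smul_eq_iff f _ _).2 hx⟩
  fix_le_two g hg x y z hx hy hz := by
    rw [pts_smul_eq_iff] at hx hy hz
    rcases fix_le_two_perm (hr g) ((map_ne_one_iff f hf).2 hg) hx hy hz with h | h | h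
    · exact Or.inl (Subtype.ext h)
    · exact Or.inr (Or.inl (Subtype.ext h))
    · exact Or.inr (Or.inr (Subtype.ext h))
  pow_eq_one_iff g hg := by
    have hg' := (map_ne_one_iff f hf).2 hg
    rw [← (map_eq_one_iff f hf), map_pow]
    obtain ⟨x, hx⟩ := exists_fix_of_isAlgClosed (hr g)
    rw [pow_eq_one_iff_perm p (hr g) hg' hx]
    constructor
    · intro h a b ha hb
      rw [pts_smul_eq_iff] at ha hb
      exact Subtype.ext ((h _ ha).trans (h _ hb).symm)
    · intro h z hz
      exact congrArg Subtype.val (h ⟨z, g, hg, hz⟩ ⟨x, g, hg, hx⟩ ((pts_smul_eq_iff f _ _).2 hz)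
        ((pts_smul_eq_iff f _ _).2 hx))
  stab_hom x := by
    obtain ⟨k, hk, hkx⟩ := exists_map_infty x.1
    have hrep : ∀ g : MulAction.stabilizer G x, ∃ t b, f g = k * affinePerm t b * k⁻¹ := fun g =>
      conj_affine (hr g) hk (by rw [hkx]; exact (pts_smul_eq_iff f _ _).1 g.2)
    choose t b htb using hrep
    have huniq : ∀ (g : MulAction.stabilizer G x) t' b', f g = k * affinePerm t' b' * k⁻¹ → t' = t g :=
      fun g t' b' h => (affinePerm_inj (mul_left_cancel (mul_right_cancel (h.symm.trans (htb g))))).1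
    refine ⟨MonoidHom.mk' t fun g h => ?_, fun g => ?_⟩
    · refine (huniq (g * h) _ ((t g : L) * b h + b g) ?_).symm
      rw [Subgroup.coe_mul, map_mul, htb g, htb h, ← affinePerm_mul]
      group
    · rw [← map_eq_one_iff f hf, map_pow, htb g, conj_pow, conj_eq_one_iff, affine_pow_eq_one_iff]
      rfl
  nontrivial_stab x := by
    obtain ⟨g, hg, hgx⟩ := x.2
    exact ⟨g, hg, (pts_smul_eq_iff f _ _).2 hgx⟩

end Instance

end CfsgLib.PSL2
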