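import Cfsg.Agent.Lib.PSL2.Projective
import Cfsg.Agent.Classical.SLGen

/-!
The subfield case of Dickson's theorem: a group of fractional linear maps over a finite field with
a two-transitive parabolic orbit is `PSL₂` or `PGL₂` of a subfield.
-/

set_option autoImplicit false
set_option linter.unusedSectionVars false

open OnePoint Matrix

namespace CfsgLib.PSL2

open CfsgLib.PermSmall.Moebius

variable {F : Type*} [Field F] [Finite F] [DecidableEq F]

omit [Finite F] in
theorem onePointMap_injective {K : Type*} [Field K] (ι : K →+* F) :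
    Function.Injective (OnePoint.map ι : OnePoint K → OnePoint F) := by
  intro a b h
  cases a <;> cases b <;> simp at h ⊢
  exact ι.injective h

/-- A finite set closed under addition and the operations `a, x ↦ a² x / β` is a subfield. -/
theorem exists_subfield (p : ℕ) [Fact p.Prime] [CharP F p] (A : AddSubgroup F) (h1 : (1 : F) ∈ A)
    {β : F} (hβ : β ≠ 0) (hβA : β ∈ A) (hJ : ∀ a ∈ A, a ≠ 0 → β / a ∈ A) :
    ∃ S : Subfield F, (S : Set F) = A := by
  have hua : ∀ a ∈ A, ∀ x ∈ A, a ^ 2 * x / β ∈ A := by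
    intro a ha x hx
    rcases eq_or_ne x 0 with rfl | hx0
    · simp
    rcases eq_or_ne a 0 with rfl | ha0
    · simp
    have hc := hJ x hx hx0
    set c := β / x with hc'
    have hc0 : c ≠ 0 := div_ne_zero hβ hx0
    have hxc : a ^ 2 * x / β = a ^ 2 / c := by rw [hc']; field_simp
    rw [hxc]
    rcases eq_or_ne a c with rfl | hac
    · rwa [show c ^ 2 / c = c by field_simp]
    have hs := add_mem (hJ a ha ha0) (hJ (c - a) (sub_mem hc ha) (sub_ne_zero.2 hac.symm))
    have hca : c - a ≠ 0 := sub_ne_zero.2 hac.symm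
    have hsum : β / a + β / (c - a) = β * c / (a * (c - a)) := by
      field_simp
      ring
    have hs0 : β / a + β / (c - a) ≠ 0 := by
      rw [hsum]
      exact div_ne_zero (mul_ne_zero hβ hc0) (mul_ne_zero ha0 hca)
    have h2 := sub_mem ha (hJ _ hs hs0)
    rwa [show a - β / (β / a + β / (c - a)) = a ^ 2 / c by rw [hsum]; field_simp; ring] at h2
  have hdiv : ∀ x ∈ A, x / β ∈ A := fun x hx => by simpa using hua 1 h1 x hx
  have hmulβ : ∀ x ∈ A, x * β ∈ A := by
    let f : A → A := fun x => ⟨x / β, hdiv x x.2⟩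
    have hf : Function.Injective f := fun x y h => Subtype.ext
      ((div_left_inj' hβ).1 (congrArg Subtype.val h))
    intro x hx
    obtain ⟨⟨y, hy⟩, hxy⟩ := (Finite.injective_iff_surjective.1 hf) ⟨x, hx⟩
    have : y / β = x := congrArg Subtype.val hxy
    rwa [← this, div_mul_cancel₀ _ hβ]
  have hsq : ∀ a ∈ A, ∀ x ∈ A, a ^ 2 * x ∈ A := fun a ha x hx => by
    simpa [div_mul_cancel₀ _ hβ] using hmulβ _ (hua a ha x hx)
  have hmul : ∀ a ∈ A, ∀ b ∈ A, a * b ∈ A := by
    intro a ha b hb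
    rcases eq_or_ne (2 : F) 0 with h2 | h2
    · have hc : CharP F 2 := CharTwo.of_one_ne_zero_of_two_eq_zero one_ne_zero h2
      let f : A → A := fun x => ⟨(x : F) ^ 2, by simpa using hsq x x.2 1 h1⟩
      have hf : Function.Injective f := fun x y h => Subtype.ext
        (frobenius_inj F 2 (congrArg Subtype.val h))
      obtain ⟨⟨c, hc'⟩, hca⟩ := (Finite.injective_iff_surjective.1 hf) ⟨a, ha⟩
      rw [show a = c ^ 2 from (congrArg Subtype.val hca).symm]
      exact hsq c hc' b hb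
    · have h2ab : 2 * (a * b) ∈ A := by
        have := sub_mem (sub_mem (hsq (a + b) (add_mem ha hb) 1 h1) (hsq a ha 1 h1)) (hsq b hb 1 h1)
        rwa [show (a + b) ^ 2 * 1 - a ^ 2 * 1 - b ^ 2 * 1 = 2 * (a * b) by ring] at this
      have hpodd : p % 2 = 1 := by
        rcases (Fact.out : p.Prime).eq_two_or_odd with rfl | h
        · exact absurd (by exact_mod_cast CharP.cast_eq_zero F 2) h2
        · exact h
      have := nsmul_mem h2ab ((p + 1) / 2)
      rwa [nsmul_eq_mul, ← mul_assoc, ← Nat.cast_ofNat (R := F) (n := 2),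
        show (((p + 1) / 2 : ℕ) : F) * ((2 : ℕ) : F) = 1 by
          rw [← Nat.cast_mul, Nat.div_mul_cancel (by omega), Nat.cast_add,
            CharP.cast_eq_zero, zero_add, Nat.cast_one], one_mul] at this
  refine ⟨{
    carrier := A
    mul_mem' := fun {a b} ha hb => hmul a ha b hb
    one_mem' := h1
    add_mem' := fun {a b} ha hb => add_mem ha hb
    zero_mem' := A.zero_mem
    neg_mem' := fun {a} ha => neg_mem ha
    inv_mem' := fun a ha => ?_ }, rfl⟩
  rcases eq_or_ne a 0 with rfl | ha0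
  · simp
  change a⁻¹ ∈ A
  have : a⁻¹ = β / a / β := by field_simp
  rw [this]
  exact hdiv _ (hJ a ha ha0)

omit [Finite F] in
/-- Membership in the special fractional linear group is decided by the determinant. -/
theorem glHom_mem_slRange_of_isSquare {A : GL (Fin 2) F}
    (h : IsSquare (A : Matrix (Fin 2) (Fin 2) F).det) : glHom F A ∈ (slHom F).range := by
  obtain ⟨r, hr⟩ := h
  have hr0 : r ≠ 0 := fun e => A.det_ne_zero (by rw [hr, e, mul_zero])
  let z : GL (Fin 2) F := GeneralLinearGroup.scalar (Fin 2) (Units.mk0 r⁻¹ (inv_ne_zero hr0))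
  have hz : glHom F z = 1 := by
    rw [← MonoidHom.mem_ker, glHom_ker, GeneralLinearGroup.center_eq_range_scalar]
    exact ⟨_, rfl⟩
  rw [← one_mul (glHom F A), ← hz, ← map_mul]
  refine glHom_mem_range_slHom _ ?_
  rw [Units.val_mul, Matrix.det_mul, hr]
  simp [z, GeneralLinearGroup.coe_scalar, Matrix.scalar_apply]
  field_simp

/-- A group between the special and the general fractional linear groups is one of them. -/
theorem range_eq_or_eq {P : Subgroup (Equiv.Perm (OnePoint F))} (h1 : (slHom F).range ≤ P)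
    (h2 : P ≤ (glHom F).range) : P = (slHom F).range ∨ P = (glHom F).range := by
  by_cases h : P ≤ (slHom F).range
  · exact Or.inl (le_antisymm h h1)
  obtain ⟨σ, hσP, hσ⟩ := SetLike.not_le_iff_exists.1 h
  obtain ⟨B, rfl⟩ := h2 hσP
  refine Or.inr (le_antisymm h2 ?_)
  rintro _ ⟨A, rfl⟩
  by_cases hA : IsSquare (A : Matrix (Fin 2) (Fin 2) F).det
  · exact h1 (glHom_mem_slRange_of_isSquare hA)
  have hB : ¬ IsSquare (B : Matrix (Fin 2) (Fin 2) F).det := fun e => hσ (glHom_mem_slRange_of_isSquare e)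
  have hAB : IsSquare ((A * B : GL (Fin 2) F) : Matrix (Fin 2) (Fin 2) F).det := by
    rw [Units.val_mul, Matrix.det_mul]
    have := Fintype.ofFinite F
    rw [← quadraticChar_one_iff_isSquare (mul_ne_zero A.det_ne_zero B.det_ne_zero), map_mul,
      quadraticChar_neg_one_iff_not_isSquare.2 hA, quadraticChar_neg_one_iff_not_isSquare.2 hB]
    rfl
  have := mul_mem (h1 (glHom_mem_slRange_of_isSquare hAB)) (inv_mem hσP)
  rwa [← map_inv, ← map_mul, mul_inv_cancel_right] at this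

variable {H : Type*} [Group H] (f : H →* Equiv.Perm (OnePoint F))

/-- `f` takes values in a conjugate of the fractional linear maps with coefficients in `S`. -/
def DefinedOver (S : Subfield F) : Prop :=
  ∃ k ∈ (glHom F).range, ∀ g, ∃ A : GL (Fin 2) S, f g = k * glHom F (A.map S.subtype) * k⁻¹

omit [Finite F] in
theorem eq_one_of_fix_three {σ : Equiv.Perm (OnePoint F)} (hσ : σ ∈ (glHom F).range)
    (hi : σ ∞ = ∞) (h0 : σ ((0 : F) : OnePoint F) = ((0 : F) : OnePoint F))
    (h1 : σ ((1 : F) : OnePoint F) = ((1 : F) : OnePoint F)) : σ = 1 := by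
  by_contra h
  rcases fix_le_two_perm hσ h hi h0 h1 with e | e | e
  · exact OnePoint.infty_ne_coe _ e
  · exact OnePoint.infty_ne_coe _ e
  · exact zero_ne_one (OnePoint.coe_eq_coe.1 e)

/-- The normalised subfield case. -/
theorem model_normalized (p : ℕ) [Fact p.Prime] [CharP F p] (hf : Function.Injective f)
    (hr : ∀ g, f g ∈ (glHom F).range)
    (U : Subgroup H) (hU : ∀ u, u ∈ U ↔ f u ∞ = ∞ ∧ u ^ p = 1)
    (h1 : ∃ u ∈ U, f u ((0 : F) : OnePoint F) = ((1 : F) : OnePoint F))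
    (w : H) (hwi : f w ∞ = ((0 : F) : OnePoint F)) (hw0 : f w ((0 : F) : OnePoint F) = ∞)
    (hoi : ∀ g, f g ∞ = ∞ ∨ ∃ u ∈ U, f g ∞ = f u ((0 : F) : OnePoint F))
    (ho0 : ∀ g, f g ((0 : F) : OnePoint F) = ∞ ∨
      ∃ u ∈ U, f g ((0 : F) : OnePoint F) = f u ((0 : F) : OnePoint F)) :
    ∃ S : Subfield F, (∀ g, ∃ A : GL (Fin 2) S, f g = glHom F (A.map S.subtype)) ∧
      (Nonempty (H ≃* ProjectiveSpecialLinearGroup (Fin 2) S) ∨
        Nonempty (H ≃* ProjGenLinGroup (Fin 2) S)) := by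
  classical
  have htrans : ∀ u ∈ U, ∃ a : F, f u = affinePerm 1 a := by
    intro u hu
    obtain ⟨hui, hup⟩ := (hU u).1 hu
    obtain ⟨t, a, hta⟩ := eq_affine_of_fix_infty (hr u) hui
    have : t = 1 := by
      rw [← affine_pow_eq_one_iff p t a, ← hta, ← map_pow, hup, map_one]
    exact ⟨a, by rw [hta, this]⟩
  let A : AddSubgroup F :=
    { carrier := {a | ∃ u ∈ U, f u = affinePerm 1 a}
      zero_mem' := ⟨1, one_mem _, by rw [map_one, affinePerm_one]⟩
      add_mem' := fun {a b} ⟨u, hu, hua⟩ ⟨v, hv, hvb⟩ => ⟨u * v, mul_mem hu hv, by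
        rw [map_mul, hua, hvb, affinePerm_mul, mul_one, Units.val_one, one_mul, add_comm]⟩
      neg_mem' := fun {a} ⟨u, hu, hua⟩ => ⟨u⁻¹, inv_mem hu, by
        rw [map_inv, hua, inv_eq_iff_mul_eq_one, affinePerm_mul, mul_one, Units.val_one, one_mul,
          neg_add_cancel, affinePerm_one]⟩ }
  have hval : ∀ u ∈ U, ∃ a ∈ A, f u ((0 : F) : OnePoint F) = (a : OnePoint F) := by
    intro u hu
    obtain ⟨a, ha⟩ := htrans u hu
    exact ⟨a, ⟨u, hu, ha⟩, by rw [ha, affinePerm_coe, mul_zero, zero_add]⟩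
  have hS : ∀ g : H, f g ∞ = ∞ ∨ ∃ a ∈ A, f g ∞ = (a : OnePoint F) := fun g => by
    rcases hoi g with h | ⟨u, hu, h⟩
    · exact Or.inl h
    · obtain ⟨a, ha, ha'⟩ := hval u hu
      exact Or.inr ⟨a, ha, h.trans ha'⟩
  have hSA : ∀ (g : H), ∀ b ∈ A, f g (b : OnePoint F) = ∞ ∨ ∃ a ∈ A, f g (b : OnePoint F) = (a : OnePoint F) := by
    rintro g b ⟨v, hv, hvb⟩
    have hb : (b : OnePoint F) = f v ((0 : F) : OnePoint F) := by
      rw [hvb, affinePerm_coe, mul_zero, zero_add]
    rw [hb, ← Equiv.Perm.mul_apply, ← map_mul]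
    rcases ho0 (g * v) with h | ⟨u, hu, h⟩
    · exact Or.inl h
    · obtain ⟨a, ha, ha'⟩ := hval u hu
      exact Or.inr ⟨a, ha, h.trans ha'⟩
  have h1A : (1 : F) ∈ A := by
    obtain ⟨u, hu, hu1⟩ := h1
    obtain ⟨a, ha, ha'⟩ := hval u hu
    rwa [show (1 : F) = a from OnePoint.coe_eq_coe.1 (hu1.symm.trans ha')]
  obtain ⟨β, hβ, hwx⟩ : ∃ β : F, β ≠ 0 ∧ ∀ a : F, a ≠ 0 → f w (a : OnePoint F) = ((β / a : F) : OnePoint F) := by
    obtain ⟨B, hB⟩ := hr w
    rw [← hB, glHom_apply] at hwi hw0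
    rw [smul_infty_eq_ite] at hwi
    split_ifs at hwi with hc
    · exact absurd hwi (OnePoint.infty_ne_coe _)
    rw [OnePoint.coe_eq_coe, div_eq_zero_iff, or_iff_left hc] at hwi
    rw [smul_some_eq_ite] at hw0
    split_ifs at hw0 with hd
    swap
    · exact absurd hw0 (OnePoint.coe_ne_infty _)
    rw [mul_zero, zero_add] at hd
    have hb : B 0 1 ≠ 0 := fun e => B.det_ne_zero (by rw [Matrix.det_fin_two, hwi, e]; ring)
    refine ⟨B 0 1 / B 1 0, div_ne_zero hb hc, fun a ha => ?_⟩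
    rw [← hB, glHom_apply, smul_some_eq_ite, hd, hwi, if_neg (by simp [hc, ha])]
    simp [div_div]
  have hJ : ∀ a ∈ A, a ≠ 0 → β / a ∈ A := by
    intro a ha ha0
    rcases hSA w a ha with h | ⟨b, hb, h⟩
    · rw [hwx a ha0] at h
      exact absurd h (OnePoint.coe_ne_infty _)
    · rw [hwx a ha0, OnePoint.coe_eq_coe] at h
      rwa [h]
  have hβA : β ∈ A := by simpa using hJ 1 h1A one_ne_zero
  obtain ⟨S, hSset⟩ := exists_subfield p A h1A hβ hβA hJ
  have hmemS : ∀ a : F, a ∈ A ↔ a ∈ S := fun a => by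
    rw [← SetLike.mem_coe, ← hSset, SetLike.mem_coe]
  let ι : S →+* F := S.subtype
  let Rep : H → Equiv.Perm (OnePoint S) → Prop := fun g σ =>
    σ ∈ (glHom S).range ∧ ∀ z : OnePoint S, f g (z.map ι) = (σ z).map ι
  have hmul : ∀ g g' σ σ', Rep g σ → Rep g' σ' → Rep (g * g') (σ * σ') :=
    fun g g' σ σ' h h' => ⟨mul_mem h.1 h'.1, fun z => by
      rw [map_mul, Equiv.Perm.mul_apply, h'.2, h.2, Equiv.Perm.mul_apply]⟩
  have hinv : ∀ g σ, Rep g σ → Rep g⁻¹ σ⁻¹ := fun g σ h => ⟨inv_mem h.1, fun z => by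
    have := h.2 (σ⁻¹ z)
    rw [Equiv.Perm.coe_inv, Equiv.apply_symm_apply] at this
    rw [map_inv, Equiv.Perm.coe_inv, ← this, Equiv.symm_apply_apply]; rfl⟩
  have haff : ∀ (g : H) (t : Sˣ) (b : S), f g = affinePerm (Units.map (ι : S →* F) t) (ι b) →
      Rep g (affinePerm t b) := fun g t b h => ⟨affinePerm_mem_glHom t b, fun z => by
    cases z with
    | infty => simp [h]
    | coe a => simp [h, ι, OnePoint.map_some]⟩
  have hW : Rep w (glHom S (GeneralLinearGroup.mkOfDetNeZero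
      !![0, ⟨β, (hmemS β).1 hβA⟩; 1, 0] (by
        simp only [Matrix.det_fin_two_of, zero_mul, mul_one, zero_sub, neg_ne_zero]
        exact fun e => hβ (congrArg Subtype.val e)))) := by
    refine ⟨⟨_, rfl⟩, fun z => ?_⟩
    rw [glHom_apply]
    cases z with
    | infty => simp [smul_infty_eq_ite, OnePoint.map_some, hwi, ι]
    | coe a =>
      rcases eq_or_ne a 0 with rfl | ha
      · simp [smul_some_eq_ite, OnePoint.map_some, hw0, ι]
      · have ha' : (a : F) ≠ 0 := fun e => ha (Subtype.ext e)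
        simp [smul_some_eq_ite, OnePoint.map_some, ha, ι, hwx _ ha']
  have hTr : ∀ b : S, ∃ u : H, Rep u (affinePerm 1 b) := fun b => by
    obtain ⟨u, hu, hub⟩ := (hmemS b).2 b.2
    exact ⟨u, haff u 1 b (by rw [hub, map_one]; rfl)⟩
  have hstab : ∀ g, f g ∞ = ∞ → ∃ σ, Rep g σ := by
    intro g hg
    obtain ⟨t, b, htb⟩ := eq_affine_of_fix_infty (hr g) hg
    have hb : b ∈ S := by
      rcases hSA g 0 A.zero_mem with h | ⟨a, ha, h⟩ <;>
        rw [htb, affinePerm_coe, mul_zero, zero_add] at h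
      · exact absurd h (OnePoint.coe_ne_infty _)
      · rw [OnePoint.coe_eq_coe] at h
        exact h ▸ (hmemS a).1 ha
    have ht : (t : F) ∈ S := by
      rcases hSA g 1 h1A with h | ⟨a, ha, h⟩ <;> rw [htb, affinePerm_coe, mul_one] at h
      · exact absurd h (OnePoint.coe_ne_infty _)
      · rw [OnePoint.coe_eq_coe] at h
        rw [show (t : F) = a - b by rw [← h]; ring]
        exact sub_mem ((hmemS a).1 ha) hb
    refine ⟨_, haff g (Units.mk0 ⟨t, ht⟩ (fun e => t.ne_zero (congrArg Subtype.val e))) ⟨b, hb⟩ ?_⟩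
    rw [htb]
    congr 1
    exact Units.ext rfl
  have hall : ∀ g, ∃ σ, Rep g σ := by
    intro g
    rcases hS g with h | ⟨a, ha, h⟩
    · exact hstab g h
    · obtain ⟨u, hu⟩ := hTr (-⟨a, (hmemS a).1 ha⟩)
      have hfix : f (w * u * g) ∞ = ∞ := by
        rw [map_mul, map_mul, Equiv.Perm.mul_apply, Equiv.Perm.mul_apply, h]
        have h' := hu.2 ((⟨a, (hmemS a).1 ha⟩ : S) : OnePoint S)
        rw [affinePerm_coe, Units.val_one, one_mul, add_neg_cancel, OnePoint.map_some,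
          OnePoint.map_some] at h'
        rw [show f u (a : OnePoint F) = ((0 : F) : OnePoint F) by simpa [ι] using h', hw0]
      obtain ⟨σ, hσ⟩ := hstab _ hfix
      refine ⟨_, by simpa [mul_assoc] using hmul _ _ _ _ (hinv _ _ (hmul _ _ _ _ hW hu)) hσ⟩
  choose σ hσ using hall
  have huniq : ∀ g τ, Rep g τ → τ = σ g := fun g τ h => Equiv.ext fun z =>
    onePointMap_injective ι ((h.2 z).symm.trans ((hσ g).2 z))
  let f₀ : H →* Equiv.Perm (OnePoint S) :=
    MonoidHom.mk' σ fun g g' => (huniq _ _ (hmul _ _ _ _ (hσ g) (hσ g'))).symm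
  have hf₀ : Function.Injective f₀ := by
    rw [injective_iff_map_eq_one]
    intro g hg
    apply hf
    rw [map_one]
    have hz : ∀ z : OnePoint S, f g (z.map ι) = z.map ι := fun z => by
      rw [(hσ g).2 z, show σ g = 1 from hg, Equiv.Perm.one_apply]
    refine eq_one_of_fix_three (hr g) (hz ∞) ?_ ?_
    · simpa [OnePoint.map_some, ι] using hz ((0 : S) : OnePoint S)
    · simpa [OnePoint.map_some, ι] using hz ((1 : S) : OnePoint S)
  have hgl : f₀.range ≤ (glHom S).range := by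
    rintro _ ⟨g, rfl⟩
    exact (hσ g).1
  have hmemP : ∀ g τ, Rep g τ → τ ∈ f₀.range := fun g τ h => ⟨g, (huniq g τ h).symm⟩
  have hupper : ∀ b : S, affinePerm 1 b ∈ f₀.range := fun b => by
    obtain ⟨u, hu⟩ := hTr b
    exact hmemP u _ hu
  have hsl : (slHom S).range ≤ f₀.range := by
    rw [MonoidHom.range_eq_map, Subgroup.map_le_iff_le_comap]
    refine (Cfsg.Agent.Classical.sl_subgroup_eq_top_of_transvection_mem _ fun i j hij c => ?_).ge
    rw [Subgroup.mem_comap]
    fin_cases i <;> fin_cases j <;> first | exact absurd rfl hij | skip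
    · convert hupper c using 1
      refine Equiv.ext fun z => ?_
      rw [slHom, MonoidHom.comp_apply, glHom_apply]
      cases z with
      | infty => simp [smul_infty_eq_ite, SpecialLinearGroup.transvection_coe]
      | coe a => simp [smul_some_eq_ite, SpecialLinearGroup.transvection_coe]
    · let β' : S := ⟨β, (hmemS β).1 hβA⟩
      have hβ' : β' ≠ 0 := fun e => hβ (congrArg Subtype.val e)
      convert mul_mem (mul_mem (hmemP w _ hW) (hupper (c * β'))) (hmemP w _ hW) using 1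
      rw [slHom, MonoidHom.comp_apply]
      have hT : affinePerm (1 : Sˣ) (c * β') = glHom S (GeneralLinearGroup.mkOfDetNeZero
          !![1, c * β'; 0, 1] (by simp [Matrix.det_fin_two])) := by
        refine Equiv.ext fun z => ?_
        rw [glHom_apply]
        cases z with
        | infty => simp [smul_infty_eq_ite]
        | coe a => simp [smul_some_eq_ite]
      rw [hT, ← map_mul, ← map_mul, ← inv_mul_eq_one, ← map_inv, ← map_mul, ← MonoidHom.mem_ker,
        glHom_ker, GeneralLinearGroup.center_eq_range_scalar]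
      refine ⟨Units.mk0 β' hβ', eq_inv_mul_iff_mul_eq.2 (Units.ext ?_)⟩
      ext k l
      fin_cases k <;> fin_cases l <;>
        simp [Matrix.mul_apply, Fin.sum_univ_two, SpecialLinearGroup.transvection_coe,
          GeneralLinearGroup.coe_scalar, Matrix.scalar_apply, β'] <;> ring
  have hdef : ∀ g, ∃ A : GL (Fin 2) S, f g = glHom F (A.map S.subtype) := by
    intro g
    obtain ⟨A, hA⟩ := (hσ g).1
    refine ⟨A, ?_⟩
    have hz : ∀ z : OnePoint S, ((glHom F (A.map S.subtype))⁻¹ * f g) (z.map ι) = z.map ι := by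
      intro z
      rw [Equiv.Perm.mul_apply, (hσ g).2 z, ← hA, glHom_apply, OnePoint.map_smul, ← map_inv,
        glHom_apply]
      exact inv_smul_smul _ _
    refine (inv_mul_eq_one.1 (eq_one_of_fix_three (mul_mem (inv_mem ⟨_, rfl⟩) (hr g)) (hz ∞) ?_ ?_)).symm
    · simpa [OnePoint.map_some, ι] using hz ((0 : S) : OnePoint S)
    · simpa [OnePoint.map_some, ι] using hz ((1 : S) : OnePoint S)
  rcases range_eq_or_eq hsl hgl with h | h
  · exact ⟨S, hdef, Or.inl (nonempty_mulEquiv_psl f₀ hf₀ h)⟩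
  · exact ⟨S, hdef, Or.inr (nonempty_mulEquiv_pgl f₀ hf₀ h)⟩

/-- The subfield case. -/
theorem model (p : ℕ) [Fact p.Prime] [CharP F p] (hf : Function.Injective f)
    (hr : ∀ g, f g ∈ (glHom F).range) {x y : OnePoint F} (hxy : y ≠ x)
    (U : Subgroup H) (hU : ∀ u, u ∈ U ↔ f u x = x ∧ u ^ p = 1) (hne : U ≠ ⊥)
    (hw : ∃ w, f w x = y ∧ f w y = x)
    (hox : ∀ g, f g x = x ∨ ∃ u ∈ U, f g x = f u y)
    (hoy : ∀ g, f g y = x ∨ ∃ u ∈ U, f g y = f u y) :
    ∃ S : Subfield F, DefinedOver f S ∧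
      (Nonempty (H ≃* ProjectiveSpecialLinearGroup (Fin 2) S) ∨
        Nonempty (H ≃* ProjGenLinGroup (Fin 2) S)) := by
  obtain ⟨⟨u₀, hu₀⟩, hu₀1⟩ := Subgroup.ne_bot_iff_exists_ne_one.1 hne
  have hu₀1' : f u₀ ≠ 1 := (map_ne_one_iff f hf).2 fun e => hu₀1 (Subtype.ext e)
  obtain ⟨hu₀x, hu₀p⟩ := (hU u₀).1 hu₀
  obtain ⟨_, ⟨B, rfl⟩, hB⟩ := exists_map_infty x
  rw [glHom_apply] at hB
  obtain ⟨b₀, hb₀⟩ : ∃ b : F, B⁻¹ • y = (b : OnePoint F) := by
    cases hc : B⁻¹ • y with
    | infty => exact absurd (by rw [← hB, ← hc, smul_inv_smul]) hxy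
    | coe a => exact ⟨a, rfl⟩
  obtain ⟨C, hC⟩ := affinePerm_mem_glHom (1 : Fˣ) b₀
  have hBC : glHom F (B * C) ∞ = x ∧ glHom F (B * C) ((0 : F) : OnePoint F) = y := by
    constructor
    · rw [map_mul, Equiv.Perm.mul_apply, hC, affinePerm_infty, glHom_apply, hB]
    · rw [map_mul, Equiv.Perm.mul_apply, hC, affinePerm_coe, mul_zero, zero_add, glHom_apply, ← hb₀,
        smul_inv_smul]
  obtain ⟨a, ha⟩ : ∃ a : F, (glHom F (B * C))⁻¹ (f u₀ y) = (a : OnePoint F) := by
    cases hc : (glHom F (B * C))⁻¹ (f u₀ y) with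
    | infty =>
      have : f u₀ y = f u₀ x := by
        rw [hu₀x, ← hBC.1, ← hc, Equiv.Perm.coe_inv, Equiv.apply_symm_apply]
      exact absurd ((f u₀).injective this) hxy
    | coe a => exact ⟨a, rfl⟩
  have ha0 : a ≠ 0 := by
    rintro rfl
    have : f u₀ y = y := by
      have e := congrArg (glHom F (B * C)) ha
      rw [Equiv.Perm.coe_inv, Equiv.apply_symm_apply, hBC.2] at e
      exact e
    exact hxy ((pow_eq_one_iff_perm p (hr u₀) hu₀1' hu₀x).1 (by rw [← map_pow, hu₀p, map_one]) y this)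
  obtain ⟨D, hD⟩ := affinePerm_mem_glHom (Units.mk0 a ha0) (0 : F)
  set k := glHom F (B * C * D) with hk
  have hki : k ∞ = x := by
    rw [hk, map_mul, Equiv.Perm.mul_apply, hD, affinePerm_infty, hBC.1]
  have hk0 : k ((0 : F) : OnePoint F) = y := by
    rw [hk, map_mul, Equiv.Perm.mul_apply, hD, affinePerm_coe, mul_zero, zero_add, hBC.2]
  have hk1 : k ((1 : F) : OnePoint F) = f u₀ y := by
    rw [hk, map_mul, Equiv.Perm.mul_apply, hD, affinePerm_coe, mul_one, add_zero, Units.val_mk0, ← ha,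
      Equiv.Perm.coe_inv, Equiv.apply_symm_apply]
  let f' : H →* Equiv.Perm (OnePoint F) := (MulAut.conj k⁻¹).toMonoidHom.comp f
  have hf' : ∀ g z, f' g z = k⁻¹ (f g (k z)) := fun g z => by simp [f', MulAut.conj_apply]
  have hki' : k⁻¹ x = ∞ := by rw [← hki, Equiv.Perm.coe_inv, Equiv.symm_apply_apply]
  have hk0' : k⁻¹ y = ((0 : F) : OnePoint F) := by rw [← hk0, Equiv.Perm.coe_inv, Equiv.symm_apply_apply]
  obtain ⟨w, hwx, hwy⟩ := hw
  suffices h : ∃ S : Subfield F, (∀ g, ∃ A : GL (Fin 2) S, f' g = glHom F (A.map S.subtype)) ∧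
      (Nonempty (H ≃* ProjectiveSpecialLinearGroup (Fin 2) S) ∨
        Nonempty (H ≃* ProjGenLinGroup (Fin 2) S)) by
    obtain ⟨S, hS, hiso⟩ := h
    refine ⟨S, ⟨k, ⟨_, rfl⟩, fun g => ?_⟩, hiso⟩
    obtain ⟨A, hA⟩ := hS g
    refine ⟨A, ?_⟩
    rw [← hA]
    refine Equiv.ext fun z => ?_
    rw [Equiv.Perm.mul_apply, Equiv.Perm.mul_apply, hf', Equiv.Perm.coe_inv, Equiv.apply_symm_apply,
      Equiv.apply_symm_apply]
  refine model_normalized f' p ((MulAut.conj k⁻¹).injective.comp hf) (fun g => ?_) U (fun u => ?_)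
    ⟨u₀, hu₀, ?_⟩ w ?_ ?_ (fun g => ?_) (fun g => ?_)
  · show k⁻¹ * f g * k⁻¹⁻¹ ∈ _
    exact mul_mem (mul_mem (inv_mem ⟨_, rfl⟩) (hr g)) (inv_mem (inv_mem ⟨_, rfl⟩))
  · rw [hU u, hf', hki, ← hki']
    simp only [(k⁻¹).injective.eq_iff]
  · rw [hf', hk0, ← hk1, Equiv.Perm.coe_inv, Equiv.symm_apply_apply]
  · rw [hf', hki, hwx, hk0']
  · rw [hf', hk0, hwy, hki']
  · rw [hf', hki]
    rcases hox g with h | ⟨u, hu, h⟩
    · exact Or.inl (by rw [h, hki'])
    · exact Or.inr ⟨u, hu, by rw [hf', hk0, h]⟩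
  · rw [hf', hk0]
    rcases hoy g with h | ⟨u, hu, h⟩
    · exact Or.inl (by rw [h, hki'])
    · exact Or.inr ⟨u, hu, by rw [hf', hk0, h]⟩

end CfsgLib.PSL2
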