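import Cfsg.Agent.Lib.PSL2.Line
import Cfsg.Agent.Lib.PSL2.SubfieldModel

/-!
Dickson's theorem on the subgroups of `PGL₂(q)` and `PSL₂(q)`.
-/

set_option autoImplicit false
set_option linter.unusedSectionVars false

open OnePoint Matrix MulAction

namespace CfsgLib.PSL2

open CfsgLib.PermSmall.Moebius

variable {F : Type*} [Field F] [DecidableEq F]

/-- `PGL₂(F)` on the projective line over `F`. -/
noncomputable def pglPerm (F : Type*) [Field F] [DecidableEq F] :
    ProjGenLinGroup (Fin 2) F →* Equiv.Perm (OnePoint F) :=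
  lineHom (RingHom.id F)

theorem pglPerm_mk (A : GL (Fin 2) F) (z : OnePoint F) :
    pglPerm F (ProjGenLinGroup.mk A) z = A • z := by
  rw [pglPerm, lineHom_mk]
  congr 1

theorem pglPerm_injective : Function.Injective (pglPerm F) := lineHom_injective _

theorem pglPerm_mem_range (g : ProjGenLinGroup (Fin 2) F) : pglPerm F g ∈ (glHom F).range :=
  lineHom_mem_range _ g

theorem lineHom_apply_map {L : Type*} [Field L] [DecidableEq L] (ι : F →+* L)
    (g : ProjGenLinGroup (Fin 2) F) (z : OnePoint F) :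
    lineHom ι g (z.map ι) = (pglPerm F g z).map ι := by
  induction g using ProjGenLinGroup.induction_on with | mk A =>
  rw [lineHom_mk_map, pglPerm_mk]

variable [Fintype F]

/-- The cyclic part of Dickson's list. -/
def IsTorusType (H : Type*) [Group H] (p q : ℕ) : Prop :=
  IsCyclic H ∧ (∀ h : H, h ^ p = 1 → h = 1) ∧ (Nat.card H ∣ q - 1 ∨ Nat.card H ∣ q + 1)

/-- The dihedral part of Dickson's list. -/
def IsDihedralType (H : Type*) [Group H] (p q : ℕ) : Prop :=
  ∃ C : Subgroup H, C.index = 2 ∧ IsTorusType C p q ∧ Nonempty (H ≃* DihedralGroup (Nat.card C))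

/-- A group fixing two distinct points of the line is a torus subgroup. -/
theorem isTorusType_of_two_fix {L : Type*} [Field L] [DecidableEq L] [IsAlgClosed L]
    (p : ℕ) [Fact p.Prime] [CharP F p] [CharP L p] (ι : F →+* L) {H : Type*} [Group H] [Finite H]
    [IsCyclic H] (φ : H →* ProjGenLinGroup (Fin 2) F) (hφ : Function.Injective φ) {x y : OnePoint L}
    (hxy : x ≠ y) (hfix : ∀ h, lineHom ι (φ h) x = x ∧ lineHom ι (φ h) y = y) :
    IsTorusType H p (Fintype.card F) := by
  have hp : ∀ h : H, h ^ p = 1 → h = 1 := by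
    intro h hh
    by_contra h1
    have hne : lineHom ι (φ h) ≠ 1 :=
      (map_ne_one_iff _ (lineHom_injective ι)).2 ((map_ne_one_iff _ hφ).2 h1)
    exact hxy ((pow_eq_one_iff_perm p (lineHom_mem_range ι _) hne (hfix h).1).1
      (by rw [← map_pow, ← map_pow, hh, map_one, map_one]) y (hfix h).2).symm
  refine ⟨inferInstance, hp, ?_⟩
  obtain ⟨g, hg⟩ := IsCyclic.exists_generator (α := H)
  rw [← orderOf_eq_card_of_forall_mem_zpowers hg, orderOf_dvd_iff_pow_eq_one,
    orderOf_dvd_iff_pow_eq_one]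
  obtain ⟨Φ, hΦ⟩ := exists_frob (F := F) (L := L) p
  by_cases hx : ∃ w : OnePoint F, w.map ι = x
  · obtain ⟨x', rfl⟩ := hx
    left
    rcases eq_or_ne g 1 with rfl | hg1
    · exact one_pow _
    obtain ⟨y', rfl⟩ := rational_second ι hΦ ((map_ne_one_iff _ hφ).2 hg1) (hfix g).1 (hfix g).2 hxy.symm
    refine hφ ?_
    rw [map_pow, map_one]
    exact pow_card_sub_one_eq_one ι (fun e => hxy (by rw [e])) (hfix g).1 (hfix g).2
  · right
    refine hφ ?_
    rw [map_pow, map_one]
    exact pow_card_add_one_eq_one ι hΦ (hfix g).1 hx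

/-- Dickson's theorem, with the characteristic of the exceptional `A₅` recorded. -/
theorem dickson_strong (p : ℕ) [Fact p.Prime] [CharP F p] {H : Type*} [Group H] [Finite H]
    (φ : H →* ProjGenLinGroup (Fin 2) F) (hφ : Function.Injective φ) :
    (∃ x : OnePoint F, ∀ h, pglPerm F (φ h) x = x) ∨ IsTorusType H p (Fintype.card F) ∨
      IsDihedralType H p (Fintype.card F) ∨
      Nonempty (H ≃* alternatingGroup (Fin 4)) ∨ Nonempty (H ≃* Equiv.Perm (Fin 4)) ∨
      (p ≠ 2 ∧ Nonempty (H ≃* alternatingGroup (Fin 5))) ∨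
      (∃ S : Subfield F, DefinedOver ((pglPerm F).comp φ) S ∧
        (Nonempty (H ≃* ProjectiveSpecialLinearGroup (Fin 2) S) ∨
          Nonempty (H ≃* ProjGenLinGroup (Fin 2) S))) := by
  classical
  rcases subsingleton_or_nontrivial H with hH | hH
  · exact Or.inl ⟨∞, fun h => by rw [Subsingleton.elim h 1, map_one, map_one, Equiv.Perm.one_apply]⟩
  let ι : F →+* AlgebraicClosure F := algebraMap F _
  have : CharP (AlgebraicClosure F) p := charP_of_injective_ringHom ι.injective p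
  obtain ⟨Φ, hΦ⟩ := exists_frob (F := F) (L := AlgebraicClosure F) p
  let f : H →* Equiv.Perm (OnePoint (AlgebraicClosure F)) := (lineHom ι).comp φ
  have hf : Function.Injective f := (lineHom_injective ι).comp hφ
  have hA := isLineAction f p hf fun g => lineHom_mem_range ι (φ g)
  have hdih : ∀ a b : Pts f, a ≠ b → (stabilizer H a ⊓ stabilizer H b : Subgroup H).index = 2 →
      Nonempty (H ≃* DihedralGroup (Nat.card (stabilizer H a ⊓ stabilizer H b : Subgroup H))) →
      IsDihedralType H p (Fintype.card F) := by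
    intro a b hab hi hd
    have := isCyclic_two_stab hA hab
    refine ⟨_, hi, ?_, hd⟩
    exact isTorusType_of_two_fix p ι (φ.comp (stabilizer H a ⊓ stabilizer H b).subtype)
      (hφ.comp (Subgroup.subtype_injective _)) (x := a.1) (y := b.1)
      (fun e => hab (Subtype.ext e))
      fun h => ⟨(pts_smul_eq_iff f _ _).1 h.2.1, (pts_smul_eq_iff f _ _).1 h.2.2⟩
  by_cases hp : ∀ g : H, g ^ p = 1 → g = 1
  · rcases classify_coprime hA hp with ⟨a, b, hab, hfix, hcyc⟩ | ⟨a, b, hab, -, hi, hd⟩ | h | h | h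
    · exact Or.inr (Or.inl (isTorusType_of_two_fix p ι φ hφ (x := a.1) (y := b.1)
        (fun e => hab (Subtype.ext e))
        fun h => ⟨(pts_smul_eq_iff f _ _).1 (hfix h).1, (pts_smul_eq_iff f _ _).1 (hfix h).2⟩))
    · exact Or.inr (Or.inr (Or.inl (hdih a b hab hi hd)))
    · exact Or.inr (Or.inr (Or.inr (Or.inl h)))
    · exact Or.inr (Or.inr (Or.inr (Or.inr (Or.inl h))))
    · refine Or.inr (Or.inr (Or.inr (Or.inr (Or.inr (Or.inl ⟨?_, h⟩)))))
      rintro rfl
      obtain ⟨e⟩ := h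
      obtain ⟨g, hg⟩ := exists_prime_orderOf_dvd_card' (G := H) 2 (by
        rw [Nat.card_congr e.toEquiv, nat_card_alternatingGroup, Nat.card_fin]; decide)
      have := hp g (orderOf_dvd_iff_pow_eq_one.1 hg.dvd)
      rw [this, orderOf_one] at hg
      omega
  push Not at hp
  obtain ⟨u, hup, hu1⟩ := hp
  obtain ⟨x, hx⟩ := hA.exists_fix u hu1
  have hne : unip hA x ≠ ⊥ := fun e => hu1 (by
    have : u ∈ unip hA x := ⟨hx, hup⟩
    rwa [e, Subgroup.mem_bot] at this)
  have huniq : ∀ z, lineHom ι (φ u) z = z → z = x.1 := fun z hz =>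
    (pow_eq_one_iff_perm p (lineHom_mem_range ι _) ((map_ne_one_iff f hf).2 hu1)
      ((pts_smul_eq_iff f _ _).1 hx)).1 (by rw [← map_pow, ← map_pow, hup, map_one, map_one]) z hz
  obtain ⟨x', hx'⟩ := rational_of_unique_fix ι hΦ ((pts_smul_eq_iff f _ _).1 hx) huniq
  have hback : ∀ (h : H) (z : OnePoint F), f h (z.map ι) = (pglPerm F (φ h) z).map ι := fun h z =>
    lineHom_apply_map ι (φ h) z
  rcases classify_modular hA hne with hall | ⟨a, b, hab, -, hi, hd⟩ | h | h |
      ⟨y, hyx, hyO, ⟨w, hwx, hwy⟩, hox, hoy, -⟩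
  · refine Or.inl ⟨x', fun h => map_onePoint_injective ι ?_⟩
    rw [← hback, hx']
    exact (pts_smul_eq_iff f _ _).1 (hall h)
  · exact Or.inr (Or.inr (Or.inl (hdih a b hab hi hd)))
  · exact Or.inr (Or.inr (Or.inr (Or.inl h)))
  · exact Or.inr (Or.inr (Or.inr (Or.inr (Or.inr (Or.inl ⟨by omega, h.2⟩)))))
  refine Or.inr (Or.inr (Or.inr (Or.inr (Or.inr (Or.inr ?_)))))
  set y' := pglPerm F (φ w) x' with hy'
  have hy : y'.map ι = y.1 := by
    rw [hy', ← hback, hx', ← hwx]; rfl
  have tr : ∀ (g : H) (a b : OnePoint F) (a' b' : Pts f), a.map ι = a'.1 → b.map ι = b'.1 →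
      (g • a' = b' ↔ pglPerm F (φ g) a = b) := by
    intro g a b a' b' ha hb
    refine Iff.trans Subtype.ext_iff ?_
    show f g a'.1 = b'.1 ↔ _
    rw [← ha, ← hb, hback,
      (map_onePoint_injective ι).eq_iff]
  refine model ((pglPerm F).comp φ) p (pglPerm_injective.comp hφ) (fun g => pglPerm_mem_range _)
    (x := x') (y := y') (fun e => hyx (Subtype.ext (by rw [← hy, e, hx']))) (unip hA x) (fun g => ?_) hne
    ⟨w, rfl, (tr w y' x' y x hy hx').1 hwy⟩ (fun g => ?_) (fun g => ?_)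
  · exact and_congr_left' (tr g x' x' x x hx' hx')
  · rcases hox g with h | ⟨u, hu, h⟩
    · exact Or.inl ((tr g x' x' x x hx' hx').1 h)
    · refine Or.inr ⟨u, hu, (tr g x' _ x (u • y) hx' ?_).1 h⟩
      rw [MonoidHom.comp_apply, ← hback, hy]; rfl
  · rcases hoy g with h | ⟨u, hu, h⟩
    · exact Or.inl ((tr g y' x' y x hy hx').1 h)
    · refine Or.inr ⟨u, hu, (tr g y' _ y (u • y) hy ?_).1 h⟩
      rw [MonoidHom.comp_apply, ← hback, hy]; rfl

/-- **Dickson's theorem** for `PGL₂(q)`. -/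
theorem dickson (p : ℕ) [Fact p.Prime] [CharP F p] {H : Type*} [Group H] [Finite H]
    (φ : H →* ProjGenLinGroup (Fin 2) F) (hφ : Function.Injective φ) :
    (∃ x : OnePoint F, ∀ h, pglPerm F (φ h) x = x) ∨ IsTorusType H p (Fintype.card F) ∨
      IsDihedralType H p (Fintype.card F) ∨
      Nonempty (H ≃* alternatingGroup (Fin 4)) ∨ Nonempty (H ≃* Equiv.Perm (Fin 4)) ∨
      Nonempty (H ≃* alternatingGroup (Fin 5)) ∨
      (∃ S : Subfield F, DefinedOver ((pglPerm F).comp φ) S ∧
        (Nonempty (H ≃* ProjectiveSpecialLinearGroup (Fin 2) S) ∨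
          Nonempty (H ≃* ProjGenLinGroup (Fin 2) S))) := by
  rcases dickson_strong p φ hφ with h | h | h | h | h | ⟨-, h⟩ | h
  · exact Or.inl h
  · exact Or.inr (Or.inl h)
  · exact Or.inr (Or.inr (Or.inl h))
  · exact Or.inr (Or.inr (Or.inr (Or.inl h)))
  · exact Or.inr (Or.inr (Or.inr (Or.inr (Or.inl h))))
  · exact Or.inr (Or.inr (Or.inr (Or.inr (Or.inr (Or.inl h)))))
  · exact Or.inr (Or.inr (Or.inr (Or.inr (Or.inr (Or.inr h)))))

/-- Torus subgroups of `PSL₂(q)`. -/
theorem psl_torus_dvd (p : ℕ) [Fact p.Prime] [CharP F p] {C : Type*} [Group C] [Finite C]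
    (φ : C →* ProjectiveSpecialLinearGroup (Fin 2) F) (hφ : Function.Injective φ)
    (hC : IsTorusType C p (Fintype.card F)) :
    Nat.card C ∣ (Fintype.card F + 1) / Nat.gcd 2 (Fintype.card F - 1) ∨
      Nat.card C ∣ (Fintype.card F - 1) / Nat.gcd 2 (Fintype.card F - 1) := by
  have := hC.1
  obtain ⟨g, hg⟩ := IsCyclic.exists_generator (α := C)
  rw [← orderOf_eq_card_of_forall_mem_zpowers hg]
  rcases psl_pow_trichotomy p (φ g) with h | h | h
  · have : g = 1 := hC.2.1 g (hφ (by rw [map_pow, h, map_one]))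
    rw [this, orderOf_one]
    exact Or.inl (one_dvd _)
  · exact Or.inr (orderOf_dvd_of_pow_eq_one (hφ (by rw [map_pow, h, map_one])))
  · exact Or.inl (orderOf_dvd_of_pow_eq_one (hφ (by rw [map_pow, h, map_one])))

/-- **Dickson's theorem** for `PSL₂(q)`. -/
theorem dickson_psl (p : ℕ) [Fact p.Prime] [CharP F p]
    (H : Subgroup (ProjectiveSpecialLinearGroup (Fin 2) F)) :
    (∃ x : OnePoint F, ∀ h ∈ H, pglPerm F (ProjectiveSpecialLinearGroup.toPGL h) x = x) ∨
      (∃ k : ℕ, (k ∣ (Fintype.card F + 1) / Nat.gcd 2 (Fintype.card F - 1) ∨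
          k ∣ (Fintype.card F - 1) / Nat.gcd 2 (Fintype.card F - 1)) ∧
        ((IsCyclic H ∧ Nat.card H = k) ∨ Nonempty (H ≃* DihedralGroup k))) ∨
      Nonempty (H ≃* alternatingGroup (Fin 4)) ∨ Nonempty (H ≃* Equiv.Perm (Fin 4)) ∨
      Nonempty (H ≃* alternatingGroup (Fin 5)) ∨
      (∃ S : Subfield F,
        DefinedOver ((pglPerm F).comp (ProjectiveSpecialLinearGroup.toPGL.comp H.subtype)) S ∧
        (Nonempty (H ≃* ProjectiveSpecialLinearGroup (Fin 2) S) ∨
          Nonempty (H ≃* ProjGenLinGroup (Fin 2) S))) := by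
  rcases dickson p (ProjectiveSpecialLinearGroup.toPGL.comp H.subtype)
    (ProjectiveSpecialLinearGroup.toPGL_injective.comp H.subtype_injective) with
    ⟨x, hx⟩ | h | ⟨C, hi, hC, hd⟩ | h | h | h | h
  · exact Or.inl ⟨x, fun g hg => hx ⟨g, hg⟩⟩
  · exact Or.inr (Or.inl ⟨_, psl_torus_dvd p H.subtype H.subtype_injective h, Or.inl ⟨h.1, rfl⟩⟩)
  · exact Or.inr (Or.inl ⟨_, psl_torus_dvd p (H.subtype.comp C.subtype)
      (H.subtype_injective.comp C.subtype_injective) hC, Or.inr hd⟩)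
  · exact Or.inr (Or.inr (Or.inl h))
  · exact Or.inr (Or.inr (Or.inr (Or.inl h)))
  · exact Or.inr (Or.inr (Or.inr (Or.inr (Or.inl h))))
  · exact Or.inr (Or.inr (Or.inr (Or.inr (Or.inr h))))

end CfsgLib.PSL2
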