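import Cfsg.Agent.Lib.PSL2.KleinPsl

/-!
`A₄` and elements of order four in `PSL₂(2ⁿ)`.
-/

set_option autoImplicit false
set_option linter.unusedSectionVars false

open Matrix

namespace CfsgLib.PSL2

theorem lineHom_eq_pglPerm_map {K F : Type*} [Field K] [Field F] [DecidableEq K] [DecidableEq F]
    (ι : K →+* F) (g : ProjGenLinGroup (Fin 2) K) :
    lineHom ι g = pglPerm F (ProjGenLinGroup.map ι g) := by
  induction g using ProjGenLinGroup.induction_on with | mk A =>
  refine Equiv.ext fun z => ?_
  rw [ProjGenLinGroup.map_mk, pglPerm_mk, lineHom_mk]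

theorem pglMap_injective {K F : Type*} [Field K] [Field F] (ι : K →+* F) :
    Function.Injective (ProjGenLinGroup.map ι : ProjGenLinGroup (Fin 2) K → ProjGenLinGroup (Fin 2) F) := by
  classical
  intro a b hab
  refine lineHom_injective ι ?_
  rw [lineHom_eq_pglPerm_map, lineHom_eq_pglPerm_map, hab]

variable {F : Type*} [Field F] [Fintype F]

local notation "PGL" => ProjGenLinGroup (Fin 2) F

/-- For `q = 2ⁿ`, `n` even, `A₄ ≤ PSL₂(q)`. -/
theorem exists_alt_four_of_even [CharP F 2] {n : ℕ} (hF : Fintype.card F = 2 ^ n) (hn : Even n) :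
    ∃ H : Subgroup (ProjectiveSpecialLinearGroup (Fin 2) F),
      Nonempty (H ≃* alternatingGroup (Fin 4)) := by
  classical
  have : Fact (Nat.Prime 2) := ⟨Nat.prime_two⟩
  let _ := ZMod.algebra F 2
  have hfin : Module.finrank (ZMod 2) F = n :=
    Nat.pow_right_injective le_rfl ((FiniteField.pow_finrank_eq_card 2 F).trans hF)
  obtain ⟨φ⟩ : Nonempty (GaloisField 2 2 →ₐ[ZMod 2] F) :=
    FiniteField.nonempty_algHom_of_finrank_dvd (by
      rw [GaloisField.finrank 2 two_ne_zero, hfin]; exact even_iff_two_dvd.1 hn)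
  have : Fintype (GaloisField 2 2) := Fintype.ofFinite _
  have hK : Fintype.card (GaloisField 2 2) = 4 := by
    rw [← Nat.card_eq_fintype_card, GaloisField.card 2 2 two_ne_zero]
    norm_num
  have hc : Nat.card (pglPointStab (OnePoint.infty : OnePoint (GaloisField 2 2))) = 12 := by
    rw [card_pglPointStab, hK]
  have hfin' : Finite (pglPointStab (OnePoint.infty : OnePoint (GaloisField 2 2))) :=
    Nat.finite_of_card_ne_zero (by omega)
  obtain ⟨e⟩ := nonempty_mulEquiv_alternating_four hc fun g hg => by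
    have := orderOf_pgl_le (g : ProjGenLinGroup (Fin 2) (GaloisField 2 2))
    rw [Subgroup.orderOf_coe, hg, hK] at this
    omega
  have he : Even (Fintype.card F) := by
    have h1 := Fintype.one_lt_card (α := F)
    rw [hF] at h1 ⊢
    exact (Nat.even_pow' (fun e => by rw [e] at h1; simp at h1)).2 even_two
  let f : pglPointStab (OnePoint.infty : OnePoint (GaloisField 2 2)) →* PGL :=
    (ProjGenLinGroup.map φ.toRingHom).comp (Subgroup.subtype _)
  have hf : Function.Injective f := (pglMap_injective _).comp (Subgroup.subtype_injective _)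
  obtain ⟨e'⟩ := nonempty_comap_toPGL_equiv
    (show f.range ≤ pslImage F by rw [pslImage_eq_top_of_even he]; exact le_top)
  exact ⟨_, ⟨e'.trans ((MonoidHom.ofInjective hf).symm.trans e)⟩⟩

/-- For `q = 2ⁿ`, `n` odd, `A₄` does not embed in `PGL₂(q)`. -/
theorem not_alt_four_of_odd {n : ℕ} (hF : Fintype.card F = 2 ^ n) (hn : Odd n)
    (f : alternatingGroup (Fin 4) →* PGL) (hf : Function.Injective f) : False := by
  classical
  have : Fact (Nat.Prime 2) := ⟨Nat.prime_two⟩
  have h4 : Nat.card (Fin 4) = 4 := Nat.card_fin 4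
  let K := alternatingGroup.kleinFour (Fin 4)
  have hK : IsKleinFour K := alternatingGroup.kleinFour_isKleinFour h4
  have hKn : K.Normal := alternatingGroup.normal_kleinFour h4
  let V := K.map f
  have hVc : Nat.card V = 4 := (isKleinFour_map f hf hK).card_four
  have hVp : IsPGroup 2 V := IsPGroup.of_card (n := 2) hVc
  let _ : MulAction V (OnePoint F) := MulAction.compHom _ ((pglPerm F).comp V.subtype)
  have : Finite (OnePoint F) := inferInstanceAs (Finite (Option F))
  have hodd : ¬ 2 ∣ Nat.card (OnePoint F) := by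
    rw [card_onePoint, hF]
    have : 2 ∣ 2 ^ n := dvd_pow_self 2 (by rintro rfl; simp at hn)
    omega
  obtain ⟨x, hx⟩ := hVp.nonempty_fixed_point_of_prime_not_dvd_card _ hodd
  have hfix : ∀ v ∈ V, pglPerm F v x = x := fun v hv => hx ⟨v, hv⟩
  obtain ⟨v, hv, hv1⟩ := (Subgroup.bot_or_exists_ne_one V).resolve_left
    (fun e => by rw [e, Subgroup.card_bot] at hVc; omega)
  have huniq : ∀ y, pglPerm F v y = y → y = x := by
    intro y hy
    by_contra hne
    have h1 := pow_card_sub_one_eq_one (RingHom.id F) (g := v) (x := y) (y := x) hne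
      (by rw [show OnePoint.map (RingHom.id F) y = y by cases y <;> rfl]; exact hy)
      (by rw [show OnePoint.map (RingHom.id F) x = x by cases x <;> rfl]; exact hfix v hv)
    have h2 : v ^ 2 = 1 := by
      have := hK
      have hVk := isKleinFour_map f hf hK
      rw [sq]
      exact congrArg Subtype.val (IsKleinFour.mul_self (⟨v, hv⟩ : V))
    refine hv1 (orderOf_eq_one_iff.1 (Nat.eq_one_of_dvd_coprimes ?_ (orderOf_dvd_of_pow_eq_one h2)
      (orderOf_dvd_of_pow_eq_one h1)))
    rw [Nat.coprime_two_left, Nat.odd_iff, hF]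
    have : 2 ∣ 2 ^ n := dvd_pow_self 2 (by rintro rfl; simp at hn)
    have := Nat.one_le_two_pow (n := n)
    omega
  have hle : f.range ≤ pglPointStab x := by
    rintro _ ⟨s, rfl⟩
    rw [mem_pglPointStab]
    refine huniq _ ?_
    have hconj : (f s)⁻¹ * v * f s ∈ V := by
      obtain ⟨k, hk, rfl⟩ := hv
      exact ⟨s⁻¹ * k * s, by simpa using hKn.conj_mem k hk s⁻¹, by simp⟩
    have := hfix _ hconj
    rw [map_mul, map_mul, map_inv, Equiv.Perm.mul_apply, Equiv.Perm.mul_apply, Equiv.Perm.coe_inv,
      Equiv.symm_apply_eq] at this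
    exact this
  have hdvd := Subgroup.card_dvd_of_le hle
  rw [← Nat.card_congr (MonoidHom.ofInjective hf).toEquiv, card_pglPointStab, hF,
    show Nat.card (alternatingGroup (Fin 4)) = 12 by
      rw [Nat.card_eq_fintype_card]; decide] at hdvd
  obtain ⟨k, rfl⟩ := hn
  have h3 : 2 ^ (2 * k + 1) % 3 = 2 := by
    rw [pow_succ, pow_mul, Nat.mul_mod, Nat.pow_mod]; norm_num
  have := Nat.dvd_trans (show 3 ∣ 12 by norm_num) hdvd
  generalize 2 ^ (2 * k + 1) = Q at h3 this
  rcases (Nat.prime_three.dvd_mul).1 this with h | h <;> omega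

/-- `PSL₂(2ⁿ)` has no element of order four. -/
theorem orderOf_ne_four_of_even (he : Even (Fintype.card F))
    (g : ProjectiveSpecialLinearGroup (Fin 2) F) : orderOf g ≠ 4 := by
  intro hg
  have hp : ringChar F = 2 := FiniteField.even_card_iff_char_two.2 (Nat.even_iff.1 he)
  have : Fact (Nat.Prime 2) := ⟨Nat.prime_two⟩
  have : CharP F 2 := ringChar.of_eq hp
  have hd := gcd_eq_one he
  have h1 := Fintype.one_lt_card (α := F)
  rcases psl_pow_trichotomy 2 g with h | h | h <;>
    have h' := orderOf_dvd_of_pow_eq_one h <;> rw [hg] at h'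
  · norm_num at h'
  all_goals
    rw [hd, Nat.div_one] at h'
    obtain ⟨m, hm⟩ := he
    omega

end CfsgLib.PSL2
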