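import Cfsg.Agent.Lib.PSL2.Icosahedral
import Cfsg.Agent.Lib.PSL2.KleinEven

/-!
Subfield subgroups of `PGL₂(q)` and `PSL₂(q)`.
-/

set_option autoImplicit false
set_option linter.unusedSectionVars false

open Matrix

namespace CfsgLib.PSL2

section Embedding

/-- A field of order `√[m] q` embeds in the field of order `q`. -/
theorem exists_fieldHom {F K : Type*} [Field F] [Fintype F] [Field K] [Fintype K] {m : ℕ}
    (hK : Fintype.card K ^ m = Fintype.card F) : Nonempty (K →+* F) := by
  obtain ⟨p, hp⟩ := CharP.exists F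
  have hpp : Fact p.Prime := ⟨CharP.char_is_prime F p⟩
  obtain ⟨n, -, hn⟩ := FiniteField.card F p
  obtain ⟨p', hp'⟩ := CharP.exists K
  have hpp' : Fact p'.Prime := ⟨CharP.char_is_prime K p'⟩
  obtain ⟨a, -, ha⟩ := FiniteField.card K p'
  have hm : m ≠ 0 := by
    rintro rfl
    have := Fintype.one_lt_card (α := F)
    rw [pow_zero] at hK
    omega
  rw [ha, hn, ← pow_mul] at hK
  have heq : p' = p :=
    (Nat.prime_dvd_prime_iff_eq hpp'.out hpp.out).1 (hpp'.out.dvd_of_dvd_pow
      (hK ▸ dvd_pow_self p' (Nat.mul_ne_zero a.ne_zero hm)))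
  subst heq
  let _ := ZMod.algebra F p'
  let _ := ZMod.algebra K p'
  have hF' : Module.finrank (ZMod p') F = n :=
    Nat.pow_right_injective hpp'.out.two_le ((FiniteField.pow_finrank_eq_card p' F).trans hn)
  have hK' : Module.finrank (ZMod p') K = a :=
    Nat.pow_right_injective hpp'.out.two_le ((FiniteField.pow_finrank_eq_card p' K).trans ha)
  obtain ⟨φ⟩ : Nonempty (K →ₐ[ZMod p'] F) := FiniteField.nonempty_algHom_of_finrank_dvd (by
    rw [hF', hK']; exact ⟨m, (Nat.pow_right_injective hpp'.out.two_le hK).symm⟩)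
  exact ⟨φ.toRingHom⟩

/-- The degree of an embedding of finite fields. -/
theorem exists_degree {F K : Type*} [Field F] [Fintype F] [Field K] [Fintype K] (ι : K →+* F) :
    ∃ m, 0 < m ∧ Fintype.card K ^ m = Fintype.card F := by
  let _ := ι.toAlgebra
  exact ⟨Module.finrank K F, Module.finrank_pos, (Module.card_eq_pow_finrank (K := K)).symm⟩

theorem eq_or_eq_one_of_prime_degree {s r j m : ℕ} (hs : 1 < s) (hr : r.Prime)
    (h : (s ^ j) ^ m = s ^ r) : (j = 1 ∧ m = r) ∨ m = 1 := by
  rw [← pow_mul] at h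
  have h' := Nat.pow_right_injective hs h
  rcases (Nat.dvd_prime hr).1 (Dvd.intro m h') with e | e
  · exact Or.inl ⟨e, by rw [e, one_mul] at h'; exact h'⟩
  · exact Or.inr (Nat.eq_of_mul_eq_mul_left hr.pos (show r * m = r * 1 by rw [mul_one]; rw [e] at h'; exact h'))

theorem pow_modEq_even {s j c : ℕ} (h : 2 * c ∣ s ^ 2 - 1) (hs : 1 ≤ s) :
    s ^ (2 * j) ≡ 1 [MOD 2 * c] := by
  rw [pow_mul]
  have h1 : s ^ 2 ≡ 1 [MOD 2 * c] := ((Nat.modEq_iff_dvd' (Nat.one_le_pow _ _ hs)).2 h).symm
  simpa using h1.pow j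

theorem two_mul_dvd_sq_sub_one {s : ℕ} (hs : s % 2 = 1) :
    2 * (s - 1) ∣ s ^ 2 - 1 ∧ 2 * (s + 1) ∣ s ^ 2 - 1 := by
  have e : s ^ 2 - 1 = (s + 1) * (s - 1) := by rw [← Nat.sq_sub_sq, one_pow]
  rw [e]
  exact ⟨Nat.mul_dvd_mul_right (by omega) _,
    by rw [mul_comm (s + 1)]; exact Nat.mul_dvd_mul_right (by omega) _⟩

/-- Squares in an extension of finite fields. -/
theorem isSquare_map_iff {F K : Type*} [Field F] [Fintype F] [Field K] [Fintype K] (ι : K →+* F)
    (hodd : Odd (Fintype.card F)) {m : ℕ} (hm : Fintype.card K ^ m = Fintype.card F) (a : K) :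
    IsSquare (ι a) ↔ Even m ∨ IsSquare a := by
  rcases eq_or_ne a 0 with rfl | ha
  · simp
  have h2 := two_ne_zero_of_odd hodd
  have h2K : (2 : K) ≠ 0 := fun e => h2 (by rw [← map_ofNat ι 2, e, map_zero])
  have hs : Fintype.card K % 2 = 1 := CfsgLib.SpecLin.SLTwo.odd_card h2K
  have hs1 := Fintype.one_lt_card (α := K)
  have hrF : ringChar F ≠ 2 := fun e => by
    have := FiniteField.even_card_iff_char_two.1 e
    rw [Nat.odd_iff] at hodd; omega
  have hrK : ringChar K ≠ 2 := fun e => by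
    have := FiniteField.even_card_iff_char_two.1 e; omega
  have hd := (two_mul_dvd_sq_sub_one hs).1
  have ha1 := FiniteField.pow_card_sub_one_eq_one a ha
  rcases Nat.even_or_odd m with ⟨j, rfl⟩ | ⟨j, rfl⟩
  · refine iff_of_true ?_ (Or.inl ⟨j, rfl⟩)
    rw [FiniteField.isSquare_iff hrF ((map_ne_zero ι).2 ha), ← map_pow, ← hm, ← two_mul]
    obtain ⟨k, hk⟩ := (Nat.modEq_iff_dvd' (Nat.one_le_pow _ _ (by omega))).1
      (pow_modEq_even (j := j) hd (by omega)).symm
    rw [mul_assoc] at hk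
    rw [show Fintype.card K ^ (2 * j) / 2 = (Fintype.card K - 1) * k by
      generalize Fintype.card K ^ (2 * j) = Q at hk hm
      generalize (Fintype.card K - 1) * k = R at hk
      have := Fintype.one_lt_card (α := F)
      omega, pow_mul, ha1, one_pow, map_one]
  · rw [or_iff_right (by simp), FiniteField.isSquare_iff hrF ((map_ne_zero ι).2 ha),
      FiniteField.isSquare_iff hrK ha, ← map_pow, map_eq_one_iff _ ι.injective, ← hm]
    obtain ⟨k, hk⟩ := (Nat.modEq_iff_dvd' (Nat.one_le_pow _ _ (by omega))).1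
      (pow_modEq_even (j := j) hd (by omega)).symm
    rw [mul_assoc] at hk
    have hpos := Nat.one_le_pow (2 * j) (Fintype.card K) (by omega)
    rw [show Fintype.card K ^ (2 * j + 1) / 2 =
        Fintype.card K / 2 + (Fintype.card K - 1) * (k * Fintype.card K) by
      rw [pow_succ, ← mul_assoc]
      generalize Fintype.card K ^ (2 * j) = Q at hk hpos
      generalize (Fintype.card K - 1) * k = R at hk
      obtain rfl : Q = 2 * R + 1 := by omega
      rw [add_mul, one_mul, mul_assoc 2]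
      omega, pow_add, pow_mul, ha1, one_pow, mul_one]

end Embedding

variable {F K : Type*} [Field F] [Fintype F] [Field K] [Fintype K] (ι : K →+* F)

local notation "PGL" => ProjGenLinGroup (Fin 2) F
local notation "PSL" => ProjectiveSpecialLinearGroup (Fin 2) F

/-- The subfield subgroup of `PGL₂`. -/
def pglSub : Subgroup PGL :=
  (ProjGenLinGroup.map ι : ProjGenLinGroup (Fin 2) K →* PGL).range

/-- The subfield subgroup of `PSL₂`. -/
def pslSub : Subgroup PSL :=
  (pglSub ι).comap ProjectiveSpecialLinearGroup.toPGL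

theorem card_pglSub : Nat.card (pglSub ι) = Nat.card (ProjGenLinGroup (Fin 2) K) :=
  (Nat.card_congr (MonoidHom.ofInjective (pglMap_injective ι)).toEquiv).symm

theorem pgl_map_mk_mem_iff (A : GL (Fin 2) K) :
    ProjGenLinGroup.map ι (ProjGenLinGroup.mk A) ∈ pslImage F ↔
      IsSquare (ι (A : Matrix (Fin 2) (Fin 2) K).det) := by
  rw [ProjGenLinGroup.map_mk, mk_mem_pslImage, RingHom.map_det]
  rfl

theorem map_pslImage_le : (pslImage K).map (ProjGenLinGroup.map ι) ≤ pslImage F := by
  rintro _ ⟨g, hg, rfl⟩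
  induction g using ProjGenLinGroup.induction_on with | mk A =>
  rw [pgl_map_mk_mem_iff]
  exact (mk_mem_pslImage.1 hg).map ι

theorem pglSub_le_pslImage (hodd : Odd (Fintype.card F)) {m : ℕ}
    (hm : Fintype.card K ^ m = Fintype.card F) (he : Even m) : pglSub ι ≤ pslImage F := by
  rintro _ ⟨g, rfl⟩
  induction g using ProjGenLinGroup.induction_on with | mk A =>
  exact (pgl_map_mk_mem_iff ι A).2 ((isSquare_map_iff ι hodd hm _).2 (Or.inl he))

theorem pglSub_inf_pslImage {m : ℕ} (hm : Fintype.card K ^ m = Fintype.card F)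
    (h : Even (Fintype.card F) ∨ Odd m) :
    pglSub ι ⊓ pslImage F = (pslImage K).map (ProjGenLinGroup.map ι) := by
  refine le_antisymm ?_ (le_inf (Subgroup.map_le_range _ _) (map_pslImage_le ι))
  rintro _ ⟨⟨g, rfl⟩, hg⟩
  refine ⟨g, ?_, rfl⟩
  rcases Nat.even_or_odd (Fintype.card F) with he | ho
  · have hK : Even (Fintype.card K) := by
      rw [← hm] at he
      exact (Nat.even_pow.1 he).1
    rw [pslImage_eq_top_of_even hK]
    trivial
  · induction g using ProjGenLinGroup.induction_on with | mk A =>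
    have hodd : Odd m := h.resolve_left (Nat.not_even_iff_odd.2 ho)
    exact mk_mem_pslImage.2 (((isSquare_map_iff ι ho hm _).1 ((pgl_map_mk_mem_iff ι A).1 hg)).resolve_left
      (Nat.not_even_iff_odd.2 hodd))

theorem nonempty_pslSub_equiv_psl {m : ℕ} (hm : Fintype.card K ^ m = Fintype.card F)
    (h : Even (Fintype.card F) ∨ Odd m) :
    Nonempty (pslSub ι ≃* ProjectiveSpecialLinearGroup (Fin 2) K) :=
  ⟨((comapEquivInf (pglSub ι)).trans (MulEquiv.subgroupCongr (pglSub_inf_pslImage ι hm h))).trans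
    ((Subgroup.equivMapOfInjective _ _ (pglMap_injective ι)).symm.trans pslEquiv.symm)⟩

theorem nonempty_pslSub_equiv_pgl (hodd : Odd (Fintype.card F)) {m : ℕ}
    (hm : Fintype.card K ^ m = Fintype.card F) (he : Even m) :
    Nonempty (pslSub ι ≃* ProjGenLinGroup (Fin 2) K) :=
  ⟨((comapEquivInf (pglSub ι)).trans (MulEquiv.subgroupCongr
      (inf_eq_left.2 (pglSub_le_pslImage ι hodd hm he)))).trans
    (MonoidHom.ofInjective (pglMap_injective ι)).symm⟩

include ι in
/-- `PGL₂(K)` does not embed in `PSL₂(F)` when the degree is odd. -/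
theorem even_of_pgl_embedding (hodd : Odd (Fintype.card F)) {m : ℕ}
    (hm : Fintype.card K ^ m = Fintype.card F) (f : ProjGenLinGroup (Fin 2) K →* PSL)
    (hf : Function.Injective f) : Even m := by
  classical
  by_contra hne
  rw [Nat.not_even_iff_odd] at hne
  obtain ⟨j, rfl⟩ := hne
  obtain ⟨p, hp⟩ := CharP.exists F
  have : Fact p.Prime := ⟨CharP.char_is_prime F p⟩
  have : CharP K p := (RingHom.charP_iff_charP ι p).2 hp
  let ιK : K →+* AlgebraicClosure K := algebraMap K _
  have : CharP (AlgebraicClosure K) p := charP_of_injective_ringHom ιK.injective p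
  obtain ⟨Φ, hΦ⟩ := exists_frob (F := K) (L := AlgebraicClosure K) p
  have hs : Fintype.card K % 2 = 1 := by
    rw [← hm, Nat.odd_pow_iff (by omega), Nat.odd_iff] at hodd; exact hodd
  have hs1 := Fintype.one_lt_card (α := K)
  obtain ⟨e, he, he4, x, y, hxy⟩ : ∃ e, (e = Fintype.card K - 1 ∨ e = Fintype.card K + 1) ∧ 4 ∣ e ∧
      ∃ x y, IsPair ιK Φ x y e := by
    by_cases h4 : 4 ∣ Fintype.card K - 1
    · exact ⟨_, Or.inl rfl, h4, exists_isPair_split⟩
    · exact ⟨_, Or.inr rfl, by omega, exists_isPair_nonsplit hΦ⟩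
  have := isCyclic_fixStab (ι := ιK) hxy.1
  obtain ⟨g, hg⟩ := IsCyclic.exists_generator (α := fixStab ιK x y)
  have hord : orderOf (f g) = e := by
    rw [orderOf_injective f hf, Subgroup.orderOf_coe, orderOf_eq_card_of_forall_mem_zpowers hg,
      card_fixStab hΦ hxy]
  obtain ⟨n, -, hn⟩ := FiniteField.card F p
  have hd := two_mul_dvd_sq_sub_one hs
  have hdc : 2 * e ∣ Fintype.card K ^ 2 - 1 := by rcases he with rfl | rfl; exacts [hd.1, hd.2]
  have hmod : Fintype.card F ≡ Fintype.card K [MOD 2 * e] := by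
    rw [← hm, pow_succ]
    simpa using (pow_modEq_even (j := j) hdc (by omega)).mul_right (Fintype.card K)
  have hq1 := Fintype.one_lt_card (α := F)
  have hq2 : Fintype.card F % 2 = 1 := Nat.odd_iff.1 hodd
  have h2e : ∀ c, e ∣ c / 2 → c % 2 = 0 → 2 * e ∣ c := fun c hc h2 => by
    obtain ⟨k, hk⟩ := hc
    exact ⟨k, by rw [mul_assoc, ← hk]; omega⟩
  rcases psl_pow_trichotomy p (f g) with h | h | h <;>
    have hdv := orderOf_dvd_of_pow_eq_one h <;> rw [hord] at hdv
  · rcases (Nat.dvd_prime (Fact.out : p.Prime)).1 hdv with e1 | e1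
    · omega
    · have : 2 ∣ p := e1 ▸ (Dvd.dvd.trans (by norm_num) he4)
      have := (Nat.prime_dvd_prime_iff_eq Nat.prime_two (Fact.out : p.Prime)).1 this
      omega
  · rw [gcd_eq_two hodd] at hdv
    have hdd := h2e _ hdv (by omega)
    have h1 := ((Nat.modEq_iff_dvd' hq1.le).2 hdd).trans hmod
    have h2 := (Nat.modEq_iff_dvd' (by omega : 1 ≤ Fintype.card K)).1 h1
    have := Nat.le_of_dvd (by omega) h2
    omega
  · rw [gcd_eq_two hodd] at hdv
    have hdd := h2e _ hdv (by omega)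
    have h2 : 2 * e ∣ Fintype.card K + 1 := by
      rw [Nat.dvd_iff_mod_eq_zero] at hdd ⊢
      rw [← (hmod.add_right 1 : Nat.ModEq _ _ _), hdd]
    have := Nat.le_of_dvd (by omega) h2
    omega

end CfsgLib.PSL2
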