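import Cfsg.Agent.Lib.PSL2.Quaternion
import Cfsg.Agent.Lib.PSL2.Dihedral
import Cfsg.Agent.Lib.PSL2.Recognition

/-!
Klein four-subgroups of `PSL₂(q)`, `q` odd, and their normalisers `A₄` and `S₄`.
-/

set_option autoImplicit false
set_option linter.unusedSectionVars false

open Matrix

namespace CfsgLib.PSL2

section Pmk

variable {F : Type*} [Field F]

/-- The class in `PGL₂` of an invertible matrix. -/
def pmk (A : Matrix (Fin 2) (Fin 2) F) (h : A.det ≠ 0) : ProjGenLinGroup (Fin 2) F :=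
  ProjGenLinGroup.mk (GeneralLinearGroup.mkOfDetNeZero A h)

theorem pmk_mul (A B : Matrix (Fin 2) (Fin 2) F) (hA : A.det ≠ 0) (hB : B.det ≠ 0) :
    pmk A hA * pmk B hB = pmk (A * B) (by rw [det_mul]; exact mul_ne_zero hA hB) := by
  rw [pmk, pmk, pmk, ← map_mul]
  exact congrArg _ (Units.ext rfl)

theorem pmk_eq_iff {A B : Matrix (Fin 2) (Fin 2) F} {hA : A.det ≠ 0} {hB : B.det ≠ 0} :
    pmk A hA = pmk B hB ↔ ∃ c : F, c • A = B := by
  rw [pmk, pmk, ProjGenLinGroup.mk_eq_mk_iff]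
  constructor
  · rintro ⟨u, hu⟩
    refine ⟨u, ?_⟩
    have := congrArg Units.val hu
    rw [Units.val_mul, GeneralLinearGroup.coe_scalar, Matrix.scalar_apply] at this
    rw [← Matrix.smul_eq_mul_diagonal] at this
    exact this
  · rintro ⟨c, hc⟩
    have hc0 : c ≠ 0 := by
      rintro rfl
      rw [zero_smul] at hc
      exact hB (by rw [← hc]; simp)
    refine ⟨Units.mk0 c hc0, Units.ext ?_⟩
    rw [Units.val_mul, GeneralLinearGroup.coe_scalar, Matrix.scalar_apply, ← Matrix.smul_eq_mul_diagonal]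
    exact hc

theorem pmk_eq_one_iff {A : Matrix (Fin 2) (Fin 2) F} {hA : A.det ≠ 0} :
    pmk A hA = 1 ↔ ∃ c : F, A = c • 1 := by
  rw [show (1 : ProjGenLinGroup (Fin 2) F) = pmk 1 (by simp) from by
    rw [pmk, ← map_one (ProjGenLinGroup.mk (n := Fin 2) (R := F))]; exact congrArg _ (Units.ext rfl),
    pmk_eq_iff]
  constructor
  · rintro ⟨c, hc⟩
    have hc0 : c ≠ 0 := fun e => by rw [e, zero_smul] at hc; exact one_ne_zero hc.symm
    exact ⟨c⁻¹, by rw [← hc, inv_smul_smul₀ hc0]⟩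
  · rintro ⟨c, rfl⟩
    have hc0 : c ≠ 0 := fun e => by rw [e, zero_smul] at hA; simp at hA
    exact ⟨c⁻¹, inv_smul_smul₀ hc0 _⟩

theorem pmk_surjective (g : ProjGenLinGroup (Fin 2) F) : ∃ A hA, pmk A hA = g := by
  induction g using ProjGenLinGroup.induction_on with | mk A =>
  refine ⟨(A : Matrix (Fin 2) (Fin 2) F), A.det_ne_zero, ?_⟩
  show ProjGenLinGroup.mk _ = _
  exact congrArg _ (Units.ext rfl)

theorem pmk_mem_pslImage {A : Matrix (Fin 2) (Fin 2) F} {hA : A.det ≠ 0} :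
    pmk A hA ∈ pslImage F ↔ IsSquare A.det := by
  rw [pmk, mk_mem_pslImage]
  rfl

end Pmk

namespace QPair

variable {F : Type*} [Field F] {I J : Matrix (Fin 2) (Fin 2) F} (h2 : (2 : F) ≠ 0) (h : QPair I J)
include h2 h

theorem det_ne_left : I.det ≠ 0 := by rw [h.det_eq_one h2]; exact one_ne_zero

theorem det_ne_right : J.det ≠ 0 := by rw [h.symm.det_eq_one h2]; exact one_ne_zero

/-- First involution. -/
def ei : ProjGenLinGroup (Fin 2) F := pmk I (h.det_ne_left h2)

/-- Second involution. -/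
def ej : ProjGenLinGroup (Fin 2) F := pmk J (h.det_ne_right h2)

/-- Third involution. -/
def ek : ProjGenLinGroup (Fin 2) F := pmk (I * J) (h.mulPair.det_ne_right h2)

theorem ei_mul_self : h.ei h2 * h.ei h2 = 1 := by
  rw [ei, pmk_mul, pmk_eq_one_iff]
  exact ⟨-1, by rw [h.hI]; simp⟩

theorem ej_mul_self : h.ej h2 * h.ej h2 = 1 := by
  rw [ej, pmk_mul, pmk_eq_one_iff]
  exact ⟨-1, by rw [h.hJ]; simp⟩

theorem ei_mul_ej : h.ei h2 * h.ej h2 = h.ek h2 := by
  rw [ei, ej, ek, pmk_mul]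

theorem ej_mul_ei : h.ej h2 * h.ei h2 = h.ek h2 := by
  rw [ei, ej, ek, pmk_mul, pmk_eq_iff]
  exact ⟨-1, by rw [h.hIJ]; simp⟩

theorem ei_ne_one : h.ei h2 ≠ 1 := by
  rw [ei, Ne, pmk_eq_one_iff]
  rintro ⟨c, hc⟩
  exact h.not_scalar h2 c hc

theorem ej_ne_one : h.ej h2 ≠ 1 := by
  rw [ej, Ne, pmk_eq_one_iff]
  rintro ⟨c, hc⟩
  exact h.symm.not_scalar h2 c hc

theorem ek_ne_one : h.ek h2 ≠ 1 := by
  rw [ek, Ne, pmk_eq_one_iff]
  rintro ⟨c, hc⟩
  exact h.mulPair.symm.not_scalar h2 c hc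

theorem ei_ne_ej : h.ei h2 ≠ h.ej h2 := by
  intro e
  apply h.ek_ne_one h2
  rw [← h.ei_mul_ej h2, ← e, h.ei_mul_self h2]

theorem ek_mul_self : h.ek h2 * h.ek h2 = 1 := by
  nth_rewrite 2 [← h.ej_mul_ei h2]
  rw [← h.ei_mul_ej h2, ← mul_assoc, mul_assoc (h.ei h2), h.ej_mul_self h2, mul_one, h.ei_mul_self h2]

theorem ei_mul_ek : h.ei h2 * h.ek h2 = h.ej h2 := by
  rw [← h.ei_mul_ej h2, ← mul_assoc, h.ei_mul_self h2, one_mul]

theorem ej_mul_ek : h.ej h2 * h.ek h2 = h.ei h2 := by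
  rw [← h.ej_mul_ei h2, ← mul_assoc, h.ej_mul_self h2, one_mul]

theorem ek_mul_ei : h.ek h2 * h.ei h2 = h.ej h2 := by
  rw [← h.ej_mul_ei h2, mul_assoc, h.ei_mul_self h2, mul_one]

theorem ek_mul_ej : h.ek h2 * h.ej h2 = h.ei h2 := by
  rw [← h.ei_mul_ej h2, mul_assoc, h.ej_mul_self h2, mul_one]

/-- The Klein four-group of a quaternion pair. -/
def kleinV : Subgroup (ProjGenLinGroup (Fin 2) F) where
  carrier := {g | g = 1 ∨ g = h.ei h2 ∨ g = h.ej h2 ∨ g = h.ek h2}
  one_mem' := Or.inl rfl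
  mul_mem' := by
    rintro a b (rfl | rfl | rfl | rfl) (rfl | rfl | rfl | rfl) <;>
      simp [h.ei_mul_self h2, h.ej_mul_self h2, h.ek_mul_self h2, h.ei_mul_ej h2, h.ej_mul_ei h2,
        h.ei_mul_ek h2, h.ek_mul_ei h2, h.ej_mul_ek h2, h.ek_mul_ej h2]
  inv_mem' := by
    rintro a (rfl | rfl | rfl | rfl)
    · exact Or.inl inv_one
    · exact Or.inr (Or.inl (inv_eq_of_mul_eq_one_right (h.ei_mul_self h2)))
    · exact Or.inr (Or.inr (Or.inl (inv_eq_of_mul_eq_one_right (h.ej_mul_self h2))))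
    · exact Or.inr (Or.inr (Or.inr (inv_eq_of_mul_eq_one_right (h.ek_mul_self h2))))

/-- Labels of the three involutions. -/
def lab : Fin 3 → ProjGenLinGroup (Fin 2) F := ![h.ei h2, h.ej h2, h.ek h2]

theorem lab_ne_one (a : Fin 3) : h.lab h2 a ≠ 1 := by
  fin_cases a <;> simp [lab, h.ei_ne_one h2, h.ej_ne_one h2, h.ek_ne_one h2]

theorem lab_mem (a : Fin 3) : h.lab h2 a ∈ h.kleinV h2 := by
  fin_cases a
  · exact Or.inr (Or.inl rfl)
  · exact Or.inr (Or.inr (Or.inl rfl))
  · exact Or.inr (Or.inr (Or.inr rfl))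

theorem lab_injective : Function.Injective (h.lab h2) := by
  have h12 := h.ei_ne_ej h2
  have h13 : h.ei h2 ≠ h.ek h2 := fun e => h.ej_ne_one h2 (by
    rw [← h.ei_mul_ek h2, ← e, h.ei_mul_self h2])
  have h23 : h.ej h2 ≠ h.ek h2 := fun e => h.ei_ne_one h2 (by
    rw [← h.ej_mul_ek h2, ← e, h.ej_mul_self h2])
  intro a b hab
  fin_cases a <;> fin_cases b <;>
    first
      | rfl
      | (simp [lab] at hab; first
          | exact absurd hab h12 | exact absurd hab.symm h12 | exact absurd hab h13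
          | exact absurd hab.symm h13 | exact absurd hab h23 | exact absurd hab.symm h23)

theorem exists_lab {g : ProjGenLinGroup (Fin 2) F} (hg : g ∈ h.kleinV h2) (h1 : g ≠ 1) :
    ∃ a, h.lab h2 a = g := by
  rcases hg with rfl | rfl | rfl | rfl
  · exact absurd rfl h1
  · exact ⟨0, rfl⟩
  · exact ⟨1, rfl⟩
  · exact ⟨2, rfl⟩

theorem card_kleinV : Nat.card (h.kleinV h2) = 4 := by
  let f : Option (Fin 3) → h.kleinV h2 := fun o => o.elim 1 fun a => ⟨h.lab h2 a, h.lab_mem h2 a⟩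
  have hb : Function.Bijective f := by
    constructor
    · rintro (_ | a) (_ | b) e
      · rfl
      · exact absurd (congrArg Subtype.val e).symm (h.lab_ne_one h2 b)
      · exact absurd (congrArg Subtype.val e) (h.lab_ne_one h2 a)
      · exact congrArg some (h.lab_injective h2 (congrArg Subtype.val e))
    · rintro ⟨g, hg⟩
      rcases eq_or_ne g 1 with rfl | h1
      · exact ⟨none, rfl⟩
      · obtain ⟨a, ha⟩ := h.exists_lab h2 hg h1
        exact ⟨some a, Subtype.ext ha⟩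
  rw [← Nat.card_eq_of_bijective f hb, Nat.card_eq_fintype_card, Fintype.card_option, Fintype.card_fin]

theorem mul_self_kleinV {g : ProjGenLinGroup (Fin 2) F} (hg : g ∈ h.kleinV h2) : g * g = 1 := by
  rcases hg with rfl | rfl | rfl | rfl
  · exact one_mul 1
  · exact h.ei_mul_self h2
  · exact h.ej_mul_self h2
  · exact h.ek_mul_self h2

theorem commute_kleinV {g g' : ProjGenLinGroup (Fin 2) F} (hg : g ∈ h.kleinV h2)
    (hg' : g' ∈ h.kleinV h2) : g * g' = g' * g := by
  have e := h.mul_self_kleinV h2 (mul_mem hg hg')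
  rw [mul_eq_one_iff_eq_inv] at e
  rw [e, _root_.mul_inv_rev, inv_eq_of_mul_eq_one_right (h.mul_self_kleinV h2 hg),
    inv_eq_of_mul_eq_one_right (h.mul_self_kleinV h2 hg')]

theorem isKleinFour : IsKleinFour (h.kleinV h2) where
  card_four := h.card_kleinV h2
  exponent_two := by
    have : Finite (h.kleinV h2) := Nat.finite_of_card_ne_zero (by rw [h.card_kleinV h2]; norm_num)
    have hne : Nontrivial (h.kleinV h2) :=
      Finite.one_lt_card_iff_nontrivial.1 (by rw [h.card_kleinV h2]; norm_num)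
    refine (Nat.prime_two.eq_one_or_self_of_dvd _ ?_).resolve_left ?_
    · exact Monoid.exponent_dvd_of_forall_pow_eq_one fun g => Subtype.ext (by
        rw [sq]; exact h.mul_self_kleinV h2 g.2)
    · exact fun e => not_subsingleton _ (Monoid.exp_eq_one_iff.1 e)

theorem kleinV_le_pslImage : h.kleinV h2 ≤ pslImage F := by
  rintro g (rfl | rfl | rfl | rfl)
  · exact one_mem _
  · exact pmk_mem_pslImage.2 (by rw [h.det_eq_one h2]; exact IsSquare.one)
  · exact pmk_mem_pslImage.2 (by rw [h.symm.det_eq_one h2]; exact IsSquare.one)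
  · exact pmk_mem_pslImage.2 (by rw [h.mulPair.symm.det_eq_one h2]; exact IsSquare.one)

/-- The Klein four-group is self-centralising in `PGL₂`. -/
theorem mem_kleinV_of_commute {g : ProjGenLinGroup (Fin 2) F} (hi : g * h.ei h2 = h.ei h2 * g)
    (hj : g * h.ej h2 = h.ej h2 * g) : g ∈ h.kleinV h2 := by
  obtain ⟨A, hA, rfl⟩ := pmk_surjective g
  rw [ei, pmk_mul, pmk_mul, pmk_eq_iff] at hi
  rw [ej, pmk_mul, pmk_mul, pmk_eq_iff] at hj
  obtain ⟨a, ha⟩ := hi
  obtain ⟨b, hb⟩ := hj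
  have hsq : ∀ (X : Matrix (Fin 2) (Fin 2) F) (c : F), X.det = 1 → c • (A * X) = X * A →
      c = 1 ∨ c = -1 := by
    intro X c hX hc
    have e := congrArg Matrix.det hc
    rw [det_smul, det_mul, det_mul, hX, Fintype.card_fin, mul_one, one_mul] at e
    exact sq_eq_one_iff.1 (mul_right_cancel₀ hA (e.trans (one_mul _).symm))
  have fin : ∀ (X : Matrix (Fin 2) (Fin 2) F) (hX : X.det ≠ 0), A * X * I = I * (A * X) →
      A * X * J = J * (A * X) → pmk A hA * pmk X hX = 1 := by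
    intro X hX hXI hXJ
    rw [pmk_mul, pmk_eq_one_iff]
    exact h.commutant h2 hXI hXJ
  have hJI : J * I = -(I * J) := by rw [h.hIJ, neg_neg]
  rcases hsq I a (h.det_eq_one h2) ha with rfl | rfl <;>
    rcases hsq J b (h.symm.det_eq_one h2) hb with rfl | rfl <;>
    simp only [one_smul, neg_smul] at ha hb
  · refine Or.inl (pmk_eq_one_iff.2 (h.commutant h2 ha hb))
  · refine Or.inr (Or.inl ?_)
    have e : pmk A hA * h.ei h2 = 1 := fin I _ (by rw [← mul_assoc I, ← ha])
      (by rw [← mul_assoc J, ← hb, neg_mul, mul_assoc, mul_assoc, h.hIJ, mul_neg])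
    rw [mul_eq_one_iff_eq_inv, inv_eq_of_mul_eq_one_right (h.ei_mul_self h2)] at e
    exact e
  · refine Or.inr (Or.inr (Or.inl ?_))
    have e : pmk A hA * h.ej h2 = 1 := fin J _
      (by rw [← mul_assoc I, ← ha, neg_mul, mul_assoc, mul_assoc, hJI, mul_neg])
      (by rw [← mul_assoc J, ← hb])
    rw [mul_eq_one_iff_eq_inv, inv_eq_of_mul_eq_one_right (h.ej_mul_self h2)] at e
    exact e
  · refine Or.inr (Or.inr (Or.inr ?_))
    have e : pmk A hA * h.ek h2 = 1 := fin (I * J) _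
      (by
        rw [← mul_assoc I, ← ha, neg_mul, mul_assoc, mul_assoc I, hJI]
        noncomm_ring)
      (by
        rw [← mul_assoc J, ← hb, neg_mul, mul_assoc A, mul_assoc A J (I * J), ← mul_assoc J I, hJI,
          neg_mul, mul_neg, neg_neg])
    rw [mul_eq_one_iff_eq_inv, inv_eq_of_mul_eq_one_right (h.ek_mul_self h2)] at e
    exact e

theorem det_sElt : (1 + I).det = 2 := by
  rw [det_one_add, h.trace_eq_zero h2, h.det_eq_one h2]
  norm_num

theorem det_rElt : (1 + (I + J + I * J)).det = 4 := by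
  have htr : (I + J + I * J).trace = 0 := by
    rw [trace_add, trace_add, h.trace_eq_zero h2, h.symm.trace_eq_zero h2, h.trace_mul_eq_zero h2]
    simp
  have hsq : (I + J + I * J) * (I + J + I * J) = (-3 : F) • 1 := by
    have e1 := h.hIJ
    have e2 := h.mulPair.hIJ
    have e3 : J * (I * J) = -(I * J * J) := by
      rw [← mul_assoc, show J * I = -(I * J) by rw [e1, neg_neg], neg_mul]
    have e4 := h.mulPair.hJ
    calc (I + J + I * J) * (I + J + I * J) =
        I * I + J * J + I * J * (I * J) + (I * J + J * I) + (I * (I * J) + I * J * I) +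
          (J * (I * J) + I * J * J) := by noncomm_ring
      _ = _ := by
          rw [h.hI, h.hJ, e4, e3, e2, show I * J + J * I = 0 by rw [e1, neg_add_cancel]]
          rw [neg_add_cancel, neg_add_cancel, add_zero, add_zero, add_zero]
          module
  have hd := trace_mul_self (I + J + I * J)
  rw [hsq, htr, zero_smul, zero_sub, ← neg_smul] at hd
  have := smul_one_ext hd
  rw [det_one_add, htr]
  linear_combination this

/-- The element fixing `ei` and exchanging `ej`, `ek`. -/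
def sElt : ProjGenLinGroup (Fin 2) F := pmk (1 + I) (by rw [h.det_sElt h2]; exact h2)

/-- The element permuting the three involutions cyclically. -/
def rElt : ProjGenLinGroup (Fin 2) F :=
  pmk (1 + (I + J + I * J)) (by
    rw [h.det_rElt h2]
    intro e
    exact mul_ne_zero h2 h2 (by linear_combination e))

theorem sElt_lab : ∀ a, h.sElt h2 * h.lab h2 a = h.lab h2 (Equiv.swap 1 2 a) * h.sElt h2 := by
  have hJI : J * I = -(I * J) := by rw [h.hIJ, neg_neg]
  intro a
  fin_cases a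
  · show pmk _ _ * pmk I _ = pmk I _ * pmk _ _
    rw [pmk_mul, pmk_mul, pmk_eq_iff]
    exact ⟨1, by rw [one_smul, add_mul, mul_add, one_mul, mul_one]⟩
  · show pmk _ _ * pmk J _ = pmk (I * J) _ * pmk _ _
    rw [pmk_mul, pmk_mul, pmk_eq_iff]
    refine ⟨1, ?_⟩
    rw [one_smul, add_mul, one_mul, mul_add, mul_one, mul_assoc I J I, hJI, mul_neg, ← mul_assoc,
      h.hI, neg_mul, one_mul, neg_neg, add_comm]
  · show pmk _ _ * pmk (I * J) _ = pmk J _ * pmk _ _
    rw [pmk_mul, pmk_mul, pmk_eq_iff]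
    refine ⟨-1, ?_⟩
    rw [neg_one_smul, add_mul, one_mul, ← mul_assoc, h.hI, neg_one_mul, mul_add, mul_one, hJI]
    abel

theorem rElt_lab : ∀ a, h.rElt h2 * h.lab h2 a = h.lab h2 (a + 1) * h.rElt h2 := by
  have hJI : J * I = -(I * J) := by rw [h.hIJ, neg_neg]
  have hKI : I * J * I = J := by
    rw [mul_assoc, hJI, mul_neg, ← mul_assoc, h.hI]; simp
  have hIK : I * (I * J) = -J := by rw [← mul_assoc, h.hI]; simp
  have hKJ : I * J * J = -I := by rw [mul_assoc, h.hJ]; simp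
  have hJK : J * (I * J) = I := by rw [← mul_assoc, hJI, neg_mul, hKJ, neg_neg]
  have hKK := h.mulPair.hJ
  intro a
  fin_cases a
  · show pmk _ _ * pmk I _ = pmk J _ * pmk _ _
    rw [pmk_mul, pmk_mul, pmk_eq_iff]
    refine ⟨1, ?_⟩
    simp only [one_smul, add_mul, mul_add, one_mul, mul_one, h.hI, h.hJ, hJI, hKI, hJK]
    abel
  · show pmk _ _ * pmk J _ = pmk (I * J) _ * pmk _ _
    rw [pmk_mul, pmk_mul, pmk_eq_iff]
    refine ⟨1, ?_⟩
    simp only [one_smul, add_mul, mul_add, one_mul, mul_one, h.hJ, hKI, hKJ, hKK]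
    abel
  · show pmk _ _ * pmk (I * J) _ = pmk I _ * pmk _ _
    rw [pmk_mul, pmk_mul, pmk_eq_iff]
    refine ⟨1, ?_⟩
    simp only [one_smul, add_mul, mul_add, one_mul, mul_one, hIK, hJK, hKK, h.hI]
    abel

/-- The normaliser of the Klein four-group. -/
def normV : Subgroup (ProjGenLinGroup (Fin 2) F) :=
  Subgroup.normalizer (h.kleinV h2 : Set (ProjGenLinGroup (Fin 2) F))

theorem mem_normV_of_lab {g : ProjGenLinGroup (Fin 2) F} (σ : Equiv.Perm (Fin 3))
    (hg : ∀ a, g * h.lab h2 a = h.lab h2 (σ a) * g) : g ∈ h.normV h2 := by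
  rw [normV, Subgroup.mem_normalizer_iff]
  intro x
  constructor
  · intro hx
    rcases eq_or_ne x 1 with rfl | h1
    · simp
    obtain ⟨a, rfl⟩ := h.exists_lab h2 hx h1
    rw [hg, mul_inv_cancel_right]
    exact h.lab_mem h2 _
  · intro hx
    rcases eq_or_ne x 1 with rfl | h1
    · exact one_mem _
    obtain ⟨a, ha⟩ := h.exists_lab h2 hx (fun e => h1 (conj_eq_one_iff.1 e))
    have h' := hg (σ.symm a)
    rw [Equiv.apply_symm_apply, ha, inv_mul_cancel_right] at h'
    rw [← mul_left_cancel h']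
    exact h.lab_mem h2 _

/-- Labels as an equivalence with the three involutions. -/
noncomputable def labEquiv : Fin 3 ≃ {x : ProjGenLinGroup (Fin 2) F // x ∈ h.kleinV h2 ∧ x ≠ 1} :=
  Equiv.ofBijective (fun a => ⟨h.lab h2 a, h.lab_mem h2 a, h.lab_ne_one h2 a⟩)
    ⟨fun _ _ e => h.lab_injective h2 (congrArg Subtype.val e), fun x => by
      obtain ⟨a, ha⟩ := h.exists_lab h2 x.2.1 x.2.2
      exact ⟨a, Subtype.ext ha⟩⟩

theorem exists_perm (g : h.normV h2) :
    ∃ σ : Equiv.Perm (Fin 3), ∀ a,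
      (g : ProjGenLinGroup (Fin 2) F) * h.lab h2 a = h.lab h2 (σ a) * g := by
  have key : ∀ a, ∃ b, (g : ProjGenLinGroup (Fin 2) F) * h.lab h2 a = h.lab h2 b * g := by
    intro a
    obtain ⟨b, hb⟩ := h.exists_lab h2 ((Subgroup.mem_normalizer_iff.1 g.2 _).1 (h.lab_mem h2 a))
      (fun e => h.lab_ne_one h2 a (conj_eq_one_iff.1 e))
    exact ⟨b, by rw [hb, inv_mul_cancel_right]⟩
  choose σ hσ using key
  have hinj : Function.Injective σ := fun a b e => h.lab_injective h2 (mul_left_cancel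
    (by rw [hσ a, hσ b, e] : (g : ProjGenLinGroup (Fin 2) F) * h.lab h2 a = g * h.lab h2 b))
  exact ⟨Equiv.ofBijective σ (Finite.injective_iff_bijective.1 hinj), hσ⟩

/-- The action of the normaliser on the three involutions. -/
noncomputable def normHom : h.normV h2 →* Equiv.Perm (Fin 3) :=
  MonoidHom.mk' (fun g => (h.exists_perm h2 g).choose) fun g g' => by
    refine Equiv.ext fun a => h.lab_injective h2 (mul_right_cancel (b :=
      ((g * g' : h.normV h2) : ProjGenLinGroup (Fin 2) F)) ?_)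
    rw [← (h.exists_perm h2 (g * g')).choose_spec, Subgroup.coe_mul, mul_assoc,
      (h.exists_perm h2 g').choose_spec, ← mul_assoc, (h.exists_perm h2 g).choose_spec, mul_assoc]
    rfl

theorem normHom_spec (g : h.normV h2) (a : Fin 3) :
    (g : ProjGenLinGroup (Fin 2) F) * h.lab h2 a = h.lab h2 (h.normHom h2 g a) * g :=
  (h.exists_perm h2 g).choose_spec a

theorem normHom_eq {g : h.normV h2} {σ : Equiv.Perm (Fin 3)}
    (hg : ∀ a, (g : ProjGenLinGroup (Fin 2) F) * h.lab h2 a = h.lab h2 (σ a) * g) :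
    h.normHom h2 g = σ :=
  Equiv.ext fun a => h.lab_injective h2 (mul_right_cancel ((h.normHom_spec h2 g a).symm.trans (hg a)))

theorem mem_ker_normHom {g : h.normV h2} :
    g ∈ (h.normHom h2).ker ↔ (g : ProjGenLinGroup (Fin 2) F) ∈ h.kleinV h2 := by
  rw [MonoidHom.mem_ker]
  constructor
  · intro hg
    have e : ∀ a, (g : ProjGenLinGroup (Fin 2) F) * h.lab h2 a = h.lab h2 a * g := fun a => by
      rw [h.normHom_spec h2 g a, hg]; rfl
    exact h.mem_kleinV_of_commute h2 (e 0) (e 1)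
  · intro hg
    refine h.normHom_eq h2 fun a => ?_
    rw [Equiv.Perm.one_apply, h.commute_kleinV h2 hg (h.lab_mem h2 a)]

theorem kleinV_le_normV : h.kleinV h2 ≤ h.normV h2 := Subgroup.le_normalizer

/-- `sElt` and `rElt` in the normaliser. -/
theorem sElt_mem : h.sElt h2 ∈ h.normV h2 := h.mem_normV_of_lab h2 _ (h.sElt_lab h2)

theorem rElt_mem : h.rElt h2 ∈ h.normV h2 :=
  h.mem_normV_of_lab h2 (Equiv.addRight 1) (h.rElt_lab h2)

theorem normHom_sElt : h.normHom h2 ⟨_, h.sElt_mem h2⟩ = Equiv.swap 1 2 :=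
  h.normHom_eq h2 (h.sElt_lab h2)

theorem normHom_rElt : h.normHom h2 ⟨_, h.rElt_mem h2⟩ = Equiv.addRight 1 :=
  h.normHom_eq h2 (h.rElt_lab h2)

/-- Every element of the normaliser is a product `v rᵃ sᵇ`. -/
theorem exists_decomp (g : h.normV h2) :
    ∃ (a b : ℕ) (v : h.normV h2), v ∈ (h.normHom h2).ker ∧
      g = v * (⟨_, h.rElt_mem h2⟩ ^ a * ⟨_, h.sElt_mem h2⟩ ^ b) := by
  have key : ∀ σ : Equiv.Perm (Fin 3), ∃ a < 3, ∃ b < 2,
      σ = (Equiv.addRight (1 : Fin 3)) ^ a * (Equiv.swap (1 : Fin 3) 2) ^ b := by decide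
  obtain ⟨a, -, b, -, hab⟩ := key (h.normHom h2 g)
  refine ⟨a, b, g * (⟨_, h.rElt_mem h2⟩ ^ a * ⟨_, h.sElt_mem h2⟩ ^ b)⁻¹, ?_, (inv_mul_cancel_right _ _).symm⟩
  rw [MonoidHom.mem_ker, map_mul, map_inv, map_mul, map_pow, map_pow, h.normHom_rElt h2,
    h.normHom_sElt h2, ← hab, mul_inv_cancel]

theorem card_normV : Nat.card (h.normV h2) = 24 := by
  have hs : Function.Surjective (h.normHom h2) := by
    intro σ
    have key : ∀ σ : Equiv.Perm (Fin 3), ∃ a < 3, ∃ b < 2,
        σ = (Equiv.addRight (1 : Fin 3)) ^ a * (Equiv.swap (1 : Fin 3) 2) ^ b := by decide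
    obtain ⟨a, -, b, -, rfl⟩ := key σ
    exact ⟨⟨_, h.rElt_mem h2⟩ ^ a * ⟨_, h.sElt_mem h2⟩ ^ b, by
      rw [map_mul, map_pow, map_pow, h.normHom_rElt h2, h.normHom_sElt h2]⟩
  rw [← (h.normHom h2).ker.card_mul_index, Subgroup.index_ker, MonoidHom.range_eq_top.2 hs,
    Subgroup.card_top, Nat.card_perm, Nat.card_fin,
    show (h.normHom h2).ker = (h.kleinV h2).subgroupOf (h.normV h2) from
      Subgroup.ext fun g => h.mem_ker_normHom h2,
    Nat.card_congr (Subgroup.subgroupOfEquivOfLe (h.kleinV_le_normV h2)).toEquiv, h.card_kleinV h2]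
  rfl

theorem finite_normV : Finite (h.normV h2) :=
  Nat.finite_of_card_ne_zero (by rw [h.card_normV h2]; norm_num)

theorem orderOf_normV (g : h.normV h2) : orderOf g ≠ 6 := by
  intro hg
  have key : ∀ a : Equiv.Perm (Fin 3), a ^ 3 = 1 → a ≠ 1 → ∀ b : Equiv.Perm (Fin 3), b ^ 2 = 1 →
      a * b = b * a → b = 1 := by decide
  have key' : ∀ a : Equiv.Perm (Fin 3), a ^ 3 = 1 → a ≠ 1 → ∀ c, a c ≠ c := by decide
  have ha3 : (h.normHom h2 (g ^ 2)) ^ 3 = 1 := by
    rw [← map_pow, ← pow_mul, show 2 * 3 = orderOf g by rw [hg], pow_orderOf_eq_one, map_one]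
  have ha1 : h.normHom h2 (g ^ 2) ≠ 1 := by
    intro e
    have hv := (h.mem_ker_normHom h2).1 e
    have e4 : g ^ 4 = 1 := Subtype.ext (by
      rw [show g ^ 4 = g ^ 2 * g ^ 2 by rw [← pow_add]]
      exact h.mul_self_kleinV h2 hv)
    have := Nat.le_of_dvd (by norm_num) (orderOf_dvd_of_pow_eq_one e4)
    omega
  have hb2 : (h.normHom h2 (g ^ 3)) ^ 2 = 1 := by
    rw [← map_pow, ← pow_mul, show 3 * 2 = orderOf g by rw [hg], pow_orderOf_eq_one, map_one]
  have hmove := key' _ ha3 ha1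
  have hb1 := key _ ha3 ha1 _ hb2 (by rw [← map_mul, ← map_mul, ← pow_add, ← pow_add])
  have hv := (h.mem_ker_normHom h2).1 hb1
  have hv1 : ((g ^ 3 : h.normV h2) : ProjGenLinGroup (Fin 2) F) ≠ 1 := by
    intro e
    have := Nat.le_of_dvd (by norm_num) (orderOf_dvd_of_pow_eq_one (Subtype.ext e : g ^ 3 = 1))
    omega
  obtain ⟨a, ha⟩ := h.exists_lab h2 hv hv1
  refine hmove a (h.lab_injective h2 ?_)
  have e := h.normHom_spec h2 (g ^ 2) a
  rw [ha, ← Subgroup.coe_mul, ← pow_add] at e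
  refine (mul_right_cancel (b := ((g ^ 2 : h.normV h2) : ProjGenLinGroup (Fin 2) F)) ?_).symm
  rw [← e, ha, ← Subgroup.coe_mul, ← pow_add]

theorem normV_equiv_symm : Nonempty (h.normV h2 ≃* Equiv.Perm (Fin 4)) := by
  have := h.finite_normV h2
  exact nonempty_mulEquiv_symm_four (h.card_normV h2) (h.orderOf_normV h2)

theorem rElt_mem_pslImage : h.rElt h2 ∈ pslImage F :=
  pmk_mem_pslImage.2 ⟨2, by rw [h.det_rElt h2]; norm_num⟩

theorem sElt_mem_pslImage_iff : h.sElt h2 ∈ pslImage F ↔ IsSquare (2 : F) := by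
  rw [sElt, pmk_mem_pslImage, h.det_sElt h2]

theorem normV_le_pslImage (hsq : IsSquare (2 : F)) : h.normV h2 ≤ pslImage F := by
  intro g hg
  obtain ⟨a, b, v, hv, e⟩ := h.exists_decomp h2 ⟨g, hg⟩
  have e' := congrArg Subtype.val e
  change g = _ at e'
  rw [e', Subgroup.coe_mul, Subgroup.coe_mul, SubmonoidClass.coe_pow, SubmonoidClass.coe_pow]
  exact mul_mem (h.kleinV_le_pslImage h2 ((h.mem_ker_normHom h2).1 hv))
    (mul_mem (pow_mem (h.rElt_mem_pslImage h2) a) (pow_mem ((h.sElt_mem_pslImage_iff h2).2 hsq) b))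

theorem card_normV_inf [Fintype F] (hsq : ¬ IsSquare (2 : F)) :
    Nat.card ↥(h.normV h2 ⊓ pslImage F) = 12 := by
  have hodd : Odd (Fintype.card F) := by
    rw [← Nat.not_even_iff_odd]
    intro he
    exact hsq (FiniteField.isSquare_of_char_two (FiniteField.even_card_iff_char_two.2 (Nat.even_iff.1 he)) _)
  classical
  have e := card_inf_pslImage (h.normV h2)
    fun _ => ⟨_, h.sElt_mem h2, fun hm => hsq ((h.sElt_mem_pslImage_iff h2).1 hm)⟩
  rw [gcd_eq_two hodd, h.card_normV h2] at e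
  omega

omit h2 in
theorem kleinV_conj (h2 : (2 : F) ≠ 0) {I' J' : Matrix (Fin 2) (Fin 2) F} (h' : QPair I' J') :
    ∃ g : ProjGenLinGroup (Fin 2) F,
      (h.kleinV h2).map (MulAut.conj g).toMonoidHom = h'.kleinV h2 := by
  obtain ⟨k, hk, hkI, hkJ⟩ := h.conj h2 h'
  have e : ∀ (X Y : Matrix (Fin 2) (Fin 2) F) hX hY, k * X = Y * k →
      MulAut.conj (pmk k hk) (pmk X hX) = pmk Y hY := by
    intro X Y hX hY hXY
    rw [MulAut.conj_apply, mul_inv_eq_iff_eq_mul, pmk_mul, pmk_mul, pmk_eq_iff]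
    exact ⟨1, by rw [one_smul, hXY]⟩
  have hi : MulAut.conj (pmk k hk) (h.ei h2) = h'.ei h2 := e I I' _ _ hkI
  have hj : MulAut.conj (pmk k hk) (h.ej h2) = h'.ej h2 := e J J' _ _ hkJ
  have hk' : MulAut.conj (pmk k hk) (h.ek h2) = h'.ek h2 := by
    rw [← h.ei_mul_ej h2, ← h'.ei_mul_ej h2, map_mul, hi, hj]
  refine ⟨pmk k hk, le_antisymm ?_ ?_⟩
  · rintro _ ⟨x, hx, rfl⟩
    rcases hx with rfl | rfl | rfl | rfl
    · exact Or.inl (map_one _)
    · exact Or.inr (Or.inl hi)
    · exact Or.inr (Or.inr (Or.inl hj))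
    · exact Or.inr (Or.inr (Or.inr hk'))
  · rintro x (rfl | rfl | rfl | rfl)
    · exact one_mem _
    · exact ⟨_, Or.inr (Or.inl rfl), hi⟩
    · exact ⟨_, Or.inr (Or.inr (Or.inl rfl)), hj⟩
    · exact ⟨_, Or.inr (Or.inr (Or.inr rfl)), hk'⟩

end QPair

section Klein

variable {F : Type*} [Field F] [Fintype F]

theorem two_ne_zero_of_odd (hodd : Odd (Fintype.card F)) : (2 : F) ≠ 0 := by
  intro e
  have : ringChar F = 2 := by
    rcases (Nat.dvd_prime Nat.prime_two).1 (ringChar.dvd (R := F) (x := 2) (by simpa using e)) with h | h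
    · exact absurd h CharP.ringChar_ne_one
    · exact h
  exact (Nat.not_even_iff_odd.2 hodd) (Nat.even_iff.2 (FiniteField.even_card_iff_char_two.1 this))

/-- An involution of `PSL₂` lifts to a square root of `-1`. -/
theorem exists_lift_involution (h2 : (2 : F) ≠ 0) {x : ProjGenLinGroup (Fin 2) F}
    (hx : x ∈ pslImage F) (hx1 : x ≠ 1) (hxx : x * x = 1) :
    ∃ (A : Matrix (Fin 2) (Fin 2) F) (hA : A.det ≠ 0), A.det = 1 ∧ A * A = -1 ∧ pmk A hA = x := by
  obtain ⟨S, rfl⟩ := hx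
  have hmem : S * S ∈ Subgroup.center (SpecialLinearGroup (Fin 2) F) := by
    rw [← SpecialLinearGroup.toPGL_ker, MonoidHom.mem_ker, map_mul]
    exact hxx
  refine ⟨S.1, by rw [S.2]; exact one_ne_zero, S.2, ?_, (by
    show ProjGenLinGroup.mk _ = ProjGenLinGroup.mk _
    exact congrArg _ (Units.ext rfl))⟩
  rcases CfsgLib.SpecLin.SLTwo.mem_center_iff'.1 hmem with e | e
  · exfalso
    refine hx1 ?_
    have hS := mem_center_of_sq_eq_one h2 (show S ^ 2 = 1 from Subtype.ext (by rw [sq]; exact e))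
    rw [← SpecialLinearGroup.toPGL_ker, MonoidHom.mem_ker] at hS
    exact hS
  · exact e

/-- Every Klein four-subgroup of `PSL₂` comes from a quaternion pair. -/
theorem exists_qpair_of_klein (h2 : (2 : F) ≠ 0) {W : Subgroup (ProjGenLinGroup (Fin 2) F)}
    (hWle : W ≤ pslImage F) (hW : IsKleinFour W) :
    ∃ (I J : Matrix (Fin 2) (Fin 2) F) (h : QPair I J), W = h.kleinV h2 := by
  have hc : Nat.card W = 4 := hW.card_four
  have hne : W ≠ ⊥ := fun e => by rw [e, Subgroup.card_bot] at hc; omega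
  obtain ⟨x, hx, hx1⟩ := (Subgroup.bot_or_exists_ne_one W).resolve_left hne
  obtain ⟨y, hy, hy1, hxy⟩ : ∃ y ∈ W, y ≠ 1 ∧ y ≠ x := by
    by_contra hno
    push Not at hno
    have hsub : (W : Set (ProjGenLinGroup (Fin 2) F)) ⊆ {1, x} := fun z hz => by
      by_cases hz1 : z = 1
      · exact Or.inl hz1
      · exact Or.inr (hno z hz hz1)
    have h := Set.ncard_le_ncard hsub
    rw [← Nat.card_coe_set_eq, Set.ncard_pair hx1.symm] at h
    change Nat.card W ≤ 2 at h
    omega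
  have hsq : ∀ z ∈ W, z * z = 1 := fun z hz =>
    congrArg Subtype.val (IsKleinFour.mul_self (⟨z, hz⟩ : W))
  obtain ⟨I, hI0, hIdet, hII, rfl⟩ := exists_lift_involution h2 (hWle hx) hx1 (hsq x hx)
  obtain ⟨J, hJ0, hJdet, hJJ, rfl⟩ := exists_lift_involution h2 (hWle hy) hy1 (hsq y hy)
  have hIJ : I * J = -(J * I) := by
    have hcomm : pmk I hI0 * pmk J hJ0 = pmk J hJ0 * pmk I hI0 := by
      have e := hsq _ (mul_mem hx hy)
      rw [mul_eq_one_iff_eq_inv, _root_.mul_inv_rev, inv_eq_of_mul_eq_one_right (hsq _ hx),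
        inv_eq_of_mul_eq_one_right (hsq _ hy)] at e
      exact e
    rw [pmk_mul, pmk_mul, pmk_eq_iff] at hcomm
    obtain ⟨c, hc'⟩ := hcomm
    have e := congrArg Matrix.det hc'
    rw [det_smul, det_mul, det_mul, hIdet, hJdet, Fintype.card_fin, mul_one, mul_one] at e
    rcases sq_eq_one_iff.1 e with rfl | rfl
    · exfalso
      rw [one_smul] at hc'
      have hsq1 : (I * J) * (I * J) = 1 := by
        rw [mul_assoc, ← mul_assoc J, ← hc', ← mul_assoc, ← mul_assoc, hII, mul_assoc, hJJ]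
        simp
      obtain ⟨S, hS⟩ : ∃ S : SpecialLinearGroup (Fin 2) F, (S : Matrix (Fin 2) (Fin 2) F) = I * J :=
        ⟨⟨I * J, by rw [det_mul, hIdet, hJdet, one_mul]⟩, rfl⟩
      have hcen := mem_center_of_sq_eq_one h2 (show S ^ 2 = 1 from Subtype.ext (by
        rw [sq]; show (S : Matrix (Fin 2) (Fin 2) F) * S = 1; rw [hS]; exact hsq1))
      rcases CfsgLib.SpecLin.SLTwo.mem_center_iff'.1 hcen with e' | e' <;> rw [hS] at e'
      · refine hxy (pmk_eq_iff.2 ⟨-1, ?_⟩).symm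
        calc (-1 : F) • I = I * (J * J) := by rw [hJJ]; simp
          _ = J := by rw [← mul_assoc, e', one_mul]
      · refine hxy (pmk_eq_iff.2 ⟨1, ?_⟩).symm
        calc (1 : F) • I = -(I * (J * J)) := by rw [hJJ]; simp
          _ = J := by rw [← mul_assoc, e']; simp
    · rw [neg_one_smul] at hc'
      rw [← hc', neg_neg]
  refine ⟨I, J, ⟨hII, hJJ, hIJ⟩, ?_⟩
  have hfin : Finite W := Nat.finite_of_card_ne_zero (by omega)
  refine (Subgroup.eq_of_le_of_card_ge ?_ (by rw [hc, QPair.card_kleinV])).symm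
  rintro g (rfl | rfl | rfl | rfl)
  · exact one_mem _
  · exact hx
  · exact hy
  · rw [← QPair.ei_mul_ej]
    exact mul_mem hx hy

/-- All Klein four-subgroups of `PSL₂` are conjugate under `PGL₂`. -/
theorem klein_conj (h2 : (2 : F) ≠ 0) {I J : Matrix (Fin 2) (Fin 2) F} (h : QPair I J)
    {W : Subgroup (ProjGenLinGroup (Fin 2) F)} (hWle : W ≤ pslImage F) (hW : IsKleinFour W) :
    ∃ g, W = (h.kleinV h2).map (MulAut.conj g).toMonoidHom := by
  obtain ⟨I', J', h', rfl⟩ := exists_qpair_of_klein h2 hWle hW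
  obtain ⟨g, hg⟩ := h.kleinV_conj h2 h'
  exact ⟨g, hg.symm⟩

theorem map_conj_le_pslImage {V : Subgroup (ProjGenLinGroup (Fin 2) F)} (hV : V ≤ pslImage F)
    (g : ProjGenLinGroup (Fin 2) F) : V.map (MulAut.conj g).toMonoidHom ≤ pslImage F := by
  rintro _ ⟨v, hv, rfl⟩
  exact pslImage_normal.conj_mem v (hV hv) g

theorem isKleinFour_map {G G' : Type*} [Group G] [Group G'] (f : G →* G') (hf : Function.Injective f)
    {V : Subgroup G} (hV : IsKleinFour V) : IsKleinFour (V.map f) where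
  card_four := by rw [Subgroup.card_map_of_injective hf, hV.card_four]
  exponent_two := by
    rw [← Monoid.exponent_eq_of_mulEquiv (Subgroup.equivMapOfInjective V f hf), hV.exponent_two]

theorem conj_map_map {G : Type*} [Group G] (V : Subgroup G) (g g' : G) :
    (V.map (MulAut.conj g).toMonoidHom).map (MulAut.conj g').toMonoidHom =
      V.map (MulAut.conj (g' * g)).toMonoidHom := by
  rw [Subgroup.map_map]
  congr 1
  ext x
  simp [mul_assoc]

theorem mem_normalizer_iff_map_eq {G : Type*} [Group G] (V : Subgroup G) (g : G) :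
    g ∈ Subgroup.normalizer (V : Set G) ↔ V.map (MulAut.conj g).toMonoidHom = V := by
  rw [Subgroup.mem_normalizer_iff]
  constructor
  · intro hg
    ext x
    constructor
    · rintro ⟨v, hv, rfl⟩
      exact (hg v).1 hv
    · intro hx
      refine ⟨g⁻¹ * x * g, (hg _).2 ?_, ?_⟩
      · rwa [show g * (g⁻¹ * x * g) * g⁻¹ = x by group]
      · show g * (g⁻¹ * x * g) * g⁻¹ = x
        group
  · intro hg x
    constructor
    · intro hx
      rw [← hg]
      exact ⟨x, hx, rfl⟩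
    · intro hx
      rw [← hg] at hx
      obtain ⟨v, hv, e⟩ := hx
      rwa [← show v = x from mul_left_cancel (mul_right_cancel e)]

theorem card_kleins (hodd : Odd (Fintype.card F)) :
    12 * Nat.card {W : Subgroup (ProjGenLinGroup (Fin 2) F) // W ≤ pslImage F ∧ IsKleinFour W} =
      Nat.card (ProjectiveSpecialLinearGroup (Fin 2) F) := by
  have h2 := two_ne_zero_of_odd hodd
  obtain ⟨I, J, h⟩ := exists_qpair h2
  let V := h.kleinV h2
  let f : ProjGenLinGroup (Fin 2) F ⧸ h.normV h2 →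
      {W : Subgroup (ProjGenLinGroup (Fin 2) F) // W ≤ pslImage F ∧ IsKleinFour W} :=
    Quotient.lift (fun g => ⟨V.map (MulAut.conj g).toMonoidHom,
      map_conj_le_pslImage (h.kleinV_le_pslImage h2) g,
      isKleinFour_map _ (MulEquiv.injective _) (h.isKleinFour h2)⟩) (by
        intro a b hab
        have hmem : a⁻¹ * b ∈ h.normV h2 := QuotientGroup.leftRel_apply.1 hab
        refine Subtype.ext ?_
        show V.map _ = V.map _
        conv_rhs => rw [show b = a * (a⁻¹ * b) by group, ← conj_map_map]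
        rw [(mem_normalizer_iff_map_eq V _).1 hmem])
  have hb : Function.Bijective f := by
    constructor
    · intro a b
      induction a using QuotientGroup.induction_on with | H a =>
      induction b using QuotientGroup.induction_on with | H b =>
      intro e
      rw [QuotientGroup.eq]
      refine (mem_normalizer_iff_map_eq V _).2 ?_
      have e' : V.map (MulAut.conj a).toMonoidHom = V.map (MulAut.conj b).toMonoidHom :=
        congrArg Subtype.val e
      rw [← conj_map_map, ← e', conj_map_map, inv_mul_cancel]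
      ext x
      simp
    · rintro ⟨W, hWle, hW⟩
      obtain ⟨g, hg⟩ := klein_conj h2 h hWle hW
      exact ⟨QuotientGroup.mk g, Subtype.ext hg.symm⟩
  rw [← Nat.card_eq_of_bijective f hb, ← Subgroup.index_eq_card]
  have h1 := (h.normV h2).card_mul_index
  have h3 := (pslImage F).card_mul_index
  rw [h.card_normV h2] at h1
  rw [index_pslImage_odd hodd, ← Nat.card_congr pslEquiv.toEquiv] at h3
  omega

end Klein

end CfsgLib.PSL2
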