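import Cfsg.Agent.Lib.PSL2.MaxSubfield

/-!
Overgroups of `A₄` in `PSL₂(q)`, and maximality of `A₄`, `S₄`, `A₅`.
-/

set_option autoImplicit false
set_option linter.unusedSectionVars false

open Matrix OnePoint

namespace CfsgLib.PSL2

open CfsgLib.PermSmall.Moebius

/-- A three-cycle of `A₄`. -/
def altFourA : alternatingGroup (Fin 4) :=
  ⟨Equiv.swap 0 1 * Equiv.swap 1 2, Equiv.Perm.mem_alternatingGroup.2 (by decide)⟩

/-- Another three-cycle of `A₄`. -/
def altFourB : alternatingGroup (Fin 4) :=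
  ⟨Equiv.swap 0 1 * Equiv.swap 1 3, Equiv.Perm.mem_alternatingGroup.2 (by decide)⟩

/-- A double transposition. -/
def altFourI : alternatingGroup (Fin 4) :=
  ⟨Equiv.swap 0 1 * Equiv.swap 2 3, Equiv.Perm.mem_alternatingGroup.2 (by decide)⟩

/-- Another double transposition. -/
def altFourJ : alternatingGroup (Fin 4) :=
  ⟨Equiv.swap 0 2 * Equiv.swap 1 3, Equiv.Perm.mem_alternatingGroup.2 (by decide)⟩

theorem altFour_facts : altFourA ^ 3 = 1 ∧ altFourB ^ 3 = 1 ∧ altFourA * altFourB ≠ altFourB * altFourA ∧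
    altFourI ^ 2 = 1 ∧ altFourJ ^ 2 = 1 ∧ (altFourI * altFourJ) ^ 2 = 1 ∧ altFourI ≠ 1 ∧ altFourJ ≠ 1 ∧
    altFourI * altFourJ ≠ 1 := by
  decide

theorem not_alt_four_dihedral {k : ℕ} (f : alternatingGroup (Fin 4) →* DihedralGroup k)
    (hf : Function.Injective f) : False := by
  obtain ⟨hA, hB, hne, -⟩ := altFour_facts
  have hrot : ∀ a : alternatingGroup (Fin 4), a ^ 3 = 1 → ∃ i, f a = DihedralGroup.r i := by
    intro a ha
    rcases h : f a with i | i
    · exact ⟨i, rfl⟩
    · have e := congrArg f ha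
      rw [map_pow, map_one, h, pow_succ, sq, DihedralGroup.sr_mul_self, one_mul] at e
      rw [DihedralGroup.one_def] at e
      cases e
  obtain ⟨i, hi⟩ := hrot _ hA
  obtain ⟨j, hj⟩ := hrot _ hB
  exact hne (hf (by rw [map_mul, map_mul, hi, hj, DihedralGroup.r_mul_r, DihedralGroup.r_mul_r, add_comm]))

theorem not_alt_four_cyclic {C : Type*} [Group C] [IsCyclic C] (f : alternatingGroup (Fin 4) →* C)
    (hf : Function.Injective f) : False := by
  obtain ⟨-, -, hne, -⟩ := altFour_facts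
  let _ := IsCyclic.commGroup (α := C)
  exact hne (hf (by rw [map_mul, map_mul, mul_comm]))

variable {F : Type*} [Field F] [Fintype F]

local notation "PSL" => ProjectiveSpecialLinearGroup (Fin 2) F

/-- For odd `q`, `A₄` fixes no point of the line. -/
theorem not_alt_four_fix [DecidableEq F] (h2 : (2 : F) ≠ 0)
    (f : alternatingGroup (Fin 4) →* Equiv.Perm (OnePoint F)) (hf : Function.Injective f)
    (hr : ∀ g, f g ∈ (glHom F).range) {x : OnePoint F} (hx : ∀ g, f g x = x) : False := by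
  obtain ⟨-, -, -, hI, hJ, hK, hI1, hJ1, hK1⟩ := altFour_facts
  obtain ⟨k, hk, rfl⟩ := exists_map_infty x
  have key : ∀ a, a ^ 2 = 1 → a ≠ 1 → ∃ b, f a = k * affinePerm (-1) b * k⁻¹ := by
    intro a ha ha1
    obtain ⟨t, b, htb⟩ := conj_affine (hr a) hk (hx a)
    have e := congrArg f ha
    rw [map_pow, map_one, htb, conj_pow, conj_eq_one_iff, sq, affinePerm_mul, ← affinePerm_one] at e
    obtain ⟨ht, hb⟩ := affinePerm_inj e
    rcases sq_eq_one_iff.1 (show (t : F) ^ 2 = 1 by rw [sq, ← Units.val_mul, ht, Units.val_one]) with h | h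
    · exfalso
      refine ha1 (hf ?_)
      rw [h, one_mul, ← two_mul, mul_eq_zero] at hb
      rw [map_one, htb, show t = 1 from Units.ext h, hb.resolve_left h2, affinePerm_one, mul_one,
        mul_inv_cancel]
    · exact ⟨b, by rw [htb, show t = -1 from Units.ext (by rw [h]; simp)]⟩
  obtain ⟨b, hb⟩ := key _ hI hI1
  obtain ⟨c, hc⟩ := key _ hJ hJ1
  obtain ⟨d, hd⟩ := key _ hK hK1
  rw [map_mul, hb, hc, show k * affinePerm (-1) b * k⁻¹ * (k * affinePerm (-1) c * k⁻¹) =
    k * (affinePerm (-1) b * affinePerm (-1) c) * k⁻¹ by group, affinePerm_mul] at hd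
  obtain ⟨h1, -⟩ := affinePerm_inj (mul_left_cancel (mul_right_cancel hd))
  have := congrArg Units.val h1
  simp at this
  exact h2 (by linear_combination this)

/-- The overgroups of `A₄` in `PSL₂(q)`, `q` odd. -/
theorem alt_four_overgroup (p : ℕ) [Fact p.Prime] [CharP F p] (h2 : (2 : F) ≠ 0) {M : Subgroup PSL}
    (f : alternatingGroup (Fin 4) →* M) (hf : Function.Injective f) :
    Nonempty (M ≃* alternatingGroup (Fin 4)) ∨ Nonempty (M ≃* Equiv.Perm (Fin 4)) ∨
      Nonempty (M ≃* alternatingGroup (Fin 5)) ∨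
      ∃ S : Subfield F, (Nonempty (M ≃* ProjectiveSpecialLinearGroup (Fin 2) S) ∨
        Nonempty (M ≃* ProjGenLinGroup (Fin 2) S)) := by
  classical
  rcases dickson_psl p M with ⟨x, hx⟩ | ⟨k, -, hshape⟩ | h | h | h | ⟨S, -, h⟩
  · exact (not_alt_four_fix h2 ((pglPerm F).comp
      (ProjectiveSpecialLinearGroup.toPGL.comp (M.subtype.comp f)))
      ((pglPerm_injective.comp ProjectiveSpecialLinearGroup.toPGL_injective).comp
        (M.subtype_injective.comp hf)) (fun g => pglPerm_mem_range _) fun g => hx _ (f g).2).elim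
  · rcases hshape with ⟨hc, -⟩ | ⟨⟨e⟩⟩
    · exact (not_alt_four_cyclic f hf).elim
    · exact (not_alt_four_dihedral (e.toMonoidHom.comp f) (e.injective.comp hf)).elim
  · exact Or.inl h
  · exact Or.inr (Or.inl h)
  · exact Or.inr (Or.inr (Or.inl h))
  · exact Or.inr (Or.inr (Or.inr ⟨S, h⟩))

theorem subfield_of_card_prime {q : ℕ} (hq : q.Prime) (hF : Fintype.card F = q) (S : Subfield F)
    [Fintype S] : Fintype.card S = q := by
  obtain ⟨m, hm, e⟩ := exists_degree S.subtype
  rw [hF] at e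
  have hm1 : m = 1 := (Nat.Prime.pow_eq_iff hq).1 e |>.2
  rwa [hm1, pow_one] at e

/-- A subgroup isomorphic to `PSL₂(q)` or `PGL₂(q)` is everything. -/
theorem eq_top_of_model {K : Type*} [Field K] [Fintype K] (hK : Fintype.card K = Fintype.card F)
    {M : Subgroup PSL} (h : Nonempty (M ≃* ProjectiveSpecialLinearGroup (Fin 2) K) ∨
      Nonempty (M ≃* ProjGenLinGroup (Fin 2) K)) : M = ⊤ := by
  classical
  have h1 : Nat.card (ProjectiveSpecialLinearGroup (Fin 2) K) = Nat.card PSL := by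
    refine Nat.eq_of_mul_eq_mul_left (Nat.gcd_pos_of_pos_left (Fintype.card F - 1) Nat.two_pos) ?_
    rw [card_psl (F := F), ← hK, card_psl (F := K)]
  refine Subgroup.eq_top_of_card_eq _ (le_antisymm (Nat.le_of_dvd Nat.card_pos M.card_subgroup_dvd_card) ?_)
  rcases h with ⟨⟨φ⟩⟩ | ⟨⟨φ⟩⟩ <;> rw [Nat.card_congr φ.toEquiv]
  · exact h1.ge
  · exact h1.ge.trans card_psl_le_pgl

/-- Pulling an embedding back along an inclusion. -/
theorem exists_alt_four_hom {H M : Subgroup PSL} (hle : H ≤ M)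
    (g : alternatingGroup (Fin 4) →* H) (hg : Function.Injective g) :
    ∃ f : alternatingGroup (Fin 4) →* M, Function.Injective f :=
  ⟨(Subgroup.inclusion hle).comp g, (Subgroup.inclusion_injective hle).comp hg⟩

theorem isCoatom_of_overgroups {H : Subgroup PSL} (hH : H ≠ ⊤)
    (h : ∀ M : Subgroup PSL, H ≤ M → M ≠ ⊤ → Nat.card M ≤ Nat.card H) : IsCoatom H :=
  ⟨hH, fun M hM => by
    by_contra hne
    exact hM.ne (Subgroup.eq_of_le_of_card_ge hM.le (h M hM.le hne))⟩

/-- The standard `A₄ ≤ A₅`. -/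
def altFourToFive : alternatingGroup (Fin 4) →* alternatingGroup (Fin 5) :=
  ((Equiv.Perm.extendDomainHom (finSuccAboveEquiv (4 : Fin 5))).comp (Subgroup.subtype _)).codRestrict _
    fun g => Equiv.Perm.mem_alternatingGroup.2 (by
      show Equiv.Perm.sign (Equiv.Perm.extendDomain (g : Equiv.Perm (Fin 4)) _) = 1
      rw [Equiv.Perm.sign_extendDomain]
      exact Equiv.Perm.mem_alternatingGroup.1 g.2)

theorem altFourToFive_injective : Function.Injective altFourToFive := fun a b h =>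
  Subtype.ext (Equiv.Perm.extendDomainHom_injective _ (congrArg Subtype.val h))

theorem psl_card_odd (hodd : Odd (Fintype.card F)) : 2 * Nat.card PSL =
    (Fintype.card F + 1) * (Fintype.card F * (Fintype.card F - 1)) := by
  have h := card_psl (F := F)
  rwa [gcd_eq_two hodd] at h

theorem five_dvd_psl (hodd : Odd (Fintype.card F)) (h5 : Fintype.card F % 5 = 1 ∨ Fintype.card F % 5 = 4) :
    5 ∣ Nat.card PSL := by
  refine (Nat.Coprime.dvd_mul_left (show Nat.Coprime 5 2 by norm_num)).1 ?_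
  rw [psl_card_odd hodd]
  rcases h5 with h | h
  · exact ((show 5 ∣ Fintype.card F - 1 by omega).mul_left _).mul_left _
  · exact (show 5 ∣ Fintype.card F + 1 by omega).mul_right _

theorem mod_five_of_dvd_psl (hodd : Odd (Fintype.card F)) (h5 : 5 ∣ Nat.card PSL) :
    Fintype.card F % 5 = 0 ∨ Fintype.card F % 5 = 1 ∨ Fintype.card F % 5 = 4 := by
  have h : 5 ∣ (Fintype.card F + 1) * (Fintype.card F * (Fintype.card F - 1)) :=
    psl_card_odd hodd ▸ h5.mul_left 2
  have := Fintype.one_lt_card (α := F)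
  rcases (Nat.prime_five.dvd_mul).1 h with h | h
  · omega
  rcases (Nat.prime_five.dvd_mul).1 h with h | h <;> omega

theorem lt_card_psl (hodd : Odd (Fintype.card F)) {b : ℕ} (hb : b ≤ Fintype.card F) (c : ℕ) (h2 : 2 ≤ b)
    (hc : 2 * c < (b + 1) * (b * (b - 1))) : c < Nat.card PSL := by
  have h := psl_card_odd (F := F) hodd
  have hm : (b + 1) * (b * (b - 1)) ≤ (Fintype.card F + 1) * (Fintype.card F * (Fintype.card F - 1)) := by
    gcongr
  omega

end CfsgLib.PSL2
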