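import Cfsg.Agent.Lib.PSL2.Projective
import Cfsg.Agent.Lib.SpecLin.SLTwoTrace

/-!
`PGL₂(F)` and `PSL₂(F)` acting on the projective line over an extension field; rationality.
-/

set_option autoImplicit false
set_option linter.unusedSectionVars false

open OnePoint Matrix

namespace CfsgLib.PSL2

open CfsgLib.PermSmall.Moebius

variable {F L : Type*} [Field F] [Field L] [DecidableEq F] [DecidableEq L] (ι : F →+* L)

/-- Fractional linear maps of `PGL₂(F)` on the projective line over an extension field. -/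
noncomputable def lineHom : ProjGenLinGroup (Fin 2) F →* Equiv.Perm (OnePoint L) :=
  ProjGenLinGroup.lift ((glHom L).comp (GeneralLinearGroup.map ι)) (by
    ext u : 1
    rw [MonoidHom.comp_apply, MonoidHom.comp_apply, MonoidHom.one_apply, ← MonoidHom.mem_ker, glHom_ker]
    refine GeneralLinearGroup.map_center_le ι ?_
    rw [GeneralLinearGroup.center_eq_range_scalar]
    exact ⟨u, rfl⟩)

theorem lineHom_mk (A : GL (Fin 2) F) (x : OnePoint L) :
    lineHom ι (ProjGenLinGroup.mk A) x = A.map ι • x := rfl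

theorem lineHom_mem_range (g : ProjGenLinGroup (Fin 2) F) : lineHom ι g ∈ (glHom L).range := by
  induction g using ProjGenLinGroup.induction_on with | mk A => exact ⟨A.map ι, rfl⟩

theorem lineHom_mk_map (A : GL (Fin 2) F) (z : OnePoint F) :
    lineHom ι (ProjGenLinGroup.mk A) (z.map ι) = (A • z).map ι := by
  rw [lineHom_mk, OnePoint.map_smul]

theorem map_onePoint_injective : Function.Injective (OnePoint.map ι : OnePoint F → OnePoint L) := by
  intro a b h
  cases a <;> cases b <;> simp at h ⊢
  exact ι.injective h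

theorem lineHom_injective : Function.Injective (lineHom ι) := by
  rw [injective_iff_map_eq_one]
  intro g hg
  induction g using ProjGenLinGroup.induction_on with | mk A =>
  rw [ProjGenLinGroup.mk_eq_one, ← glHom_ker, MonoidHom.mem_ker]
  refine Equiv.ext fun z => map_onePoint_injective ι ?_
  rw [glHom_apply, ← lineHom_mk_map, hg, Equiv.Perm.one_apply, Equiv.Perm.one_apply]

/-- `PSL₂(F)` on the projective line over an extension field. -/
noncomputable def pslLineHom : ProjectiveSpecialLinearGroup (Fin 2) F →* Equiv.Perm (OnePoint L) :=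
  (lineHom ι).comp ProjectiveSpecialLinearGroup.toPGL

theorem pslLineHom_injective : Function.Injective (pslLineHom ι) :=
  (lineHom_injective ι).comp ProjectiveSpecialLinearGroup.toPGL_injective

theorem pslLineHom_mk (A : SpecialLinearGroup (Fin 2) F) (x : OnePoint L) :
    pslLineHom ι (QuotientGroup.mk A) x = (SpecialLinearGroup.toGL A).map ι • x := rfl

theorem pslLineHom_mem_range (g : ProjectiveSpecialLinearGroup (Fin 2) F) :
    pslLineHom ι g ∈ (glHom L).range :=
  lineHom_mem_range ι _

section Pairs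

theorem exists_glHom_pair {x y : OnePoint F} (hxy : x ≠ y) :
    ∃ A : GL (Fin 2) F, A • (∞ : OnePoint F) = x ∧ A • ((0 : F) : OnePoint F) = y := by
  obtain ⟨_, ⟨B, rfl⟩, hB⟩ := exists_map_infty x
  rw [glHom_apply] at hB
  obtain ⟨a, ha⟩ : ∃ a : F, B⁻¹ • y = (a : OnePoint F) := by
    cases hc : B⁻¹ • y with
    | infty => exact absurd (by rw [← hB, ← hc, smul_inv_smul]) hxy
    | coe a => exact ⟨a, rfl⟩
  obtain ⟨C, hC⟩ := affinePerm_mem_glHom (1 : Fˣ) a
  refine ⟨B * C, ?_, ?_⟩
  · rw [mul_smul, ← glHom_apply C, hC, affinePerm_infty, hB]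
  · rw [mul_smul, ← glHom_apply C, hC, affinePerm_coe, mul_zero, zero_add, ← ha, smul_inv_smul]

end Pairs

section Finite

variable [Fintype F]

theorem exists_frob (p : ℕ) [Fact p.Prime] [CharP F p] [CharP L p] :
    ∃ φ : L →+* L, ∀ z, φ z = z ^ Fintype.card F := by
  obtain ⟨n, -, hn⟩ := FiniteField.card F p
  have : ExpChar L p := ExpChar.prime Fact.out
  exact ⟨iterateFrobenius L p n, fun z => by rw [iterateFrobenius_def, hn]⟩

variable {φ : L →+* L} (hφ : ∀ z, φ z = z ^ Fintype.card F)
include hφ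

theorem frob_comp : φ.comp ι = ι :=
  RingHom.ext fun a => by rw [RingHom.comp_apply, hφ, ← map_pow, FiniteField.pow_card]

theorem frob_lineHom (g : ProjGenLinGroup (Fin 2) F) (z : OnePoint L) :
    lineHom ι g (z.map φ) = (lineHom ι g z).map φ := by
  induction g using ProjGenLinGroup.induction_on with | mk A =>
  rw [lineHom_mk, lineHom_mk, OnePoint.map_smul]
  congr 1
  ext i j
  exact (RingHom.congr_fun (frob_comp ι hφ) (A i j)).symm

theorem frob_fix_iff (z : OnePoint L) : z.map φ = z ↔ ∃ w : OnePoint F, w.map ι = z := by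
  constructor
  · intro h
    cases z with
    | infty => exact ⟨∞, rfl⟩
    | coe a =>
      rw [OnePoint.map_some, OnePoint.coe_eq_coe, hφ] at h
      classical
      suffices ha : a ∈ (Finset.univ : Finset F).image ι by
        obtain ⟨w, -, hw⟩ := Finset.mem_image.1 ha
        exact ⟨(w : OnePoint F), by rw [OnePoint.map_some, hw]⟩
      by_contra hn
      have hq := Fintype.one_lt_card (α := F)
      have hsub : (insert a ((Finset.univ : Finset F).image ι)).val ⊆
          (Polynomial.X ^ Fintype.card F - Polynomial.X : Polynomial L).roots := by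
        intro z hz
        rw [Finset.mem_val, Finset.mem_insert, Finset.mem_image] at hz
        rw [Polynomial.mem_roots (FiniteField.X_pow_card_sub_X_ne_zero _ hq)]
        rcases hz with rfl | ⟨b, -, rfl⟩
        · simp [h]
        · simp [← map_pow, FiniteField.pow_card]
      have h1 := Polynomial.card_le_degree_of_subset_roots hsub
      rw [Finset.card_insert_of_notMem hn, Finset.card_image_of_injective _ ι.injective,
        Finset.card_univ, FiniteField.X_pow_card_sub_X_natDegree_eq _ hq] at h1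
      omega
  · rintro ⟨w, rfl⟩
    cases w with
    | infty => rfl
    | coe a =>
      rw [OnePoint.map_some, OnePoint.map_some, ← RingHom.comp_apply, frob_comp ι hφ]

/-- A unique fixed point is rational. -/
theorem rational_of_unique_fix {g : ProjGenLinGroup (Fin 2) F} {x : OnePoint L}
    (hx : lineHom ι g x = x) (hu : ∀ z, lineHom ι g z = z → z = x) :
    ∃ w : OnePoint F, w.map ι = x :=
  (frob_fix_iff ι hφ x).1 (hu _ (by rw [frob_lineHom ι hφ, hx]))

/-- The second fixed point is rational with the first. -/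
theorem rational_second {g : ProjGenLinGroup (Fin 2) F} (hg : g ≠ 1) {x : OnePoint F}
    {y : OnePoint L} (hx : lineHom ι g (x.map ι) = x.map ι) (hy : lineHom ι g y = y)
    (hyx : y ≠ x.map ι) : ∃ w : OnePoint F, w.map ι = y := by
  rw [← frob_fix_iff ι hφ]
  rcases fix_le_two_perm (lineHom_mem_range ι g) ((map_ne_one_iff _ (lineHom_injective ι)).2 hg) hx hy
    (show lineHom ι g (y.map φ) = y.map φ by rw [frob_lineHom ι hφ, hy]) with h | h | h
  · exact absurd h.symm hyx
  · exact absurd (map_onePoint_injective φ (h.symm.trans ((frob_fix_iff ι hφ _).2 ⟨x, rfl⟩).symm)) hyx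
  · exact h.symm

omit hφ in
/-- Split semisimple elements. -/
theorem pow_card_sub_one_eq_one {g : ProjGenLinGroup (Fin 2) F} {x y : OnePoint F} (hxy : x ≠ y)
    (hx : lineHom ι g (x.map ι) = x.map ι) (hy : lineHom ι g (y.map ι) = y.map ι) :
    g ^ (Fintype.card F - 1) = 1 := by
  induction g using ProjGenLinGroup.induction_on with | mk A =>
  rw [lineHom_mk_map] at hx hy
  obtain ⟨B, hB, hB0⟩ := exists_glHom_pair hxy
  obtain ⟨t, b, htb⟩ := conj_affine (σ := glHom F A) ⟨A, rfl⟩ (k := glHom F B) ⟨B, rfl⟩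
    (by rw [glHom_apply, glHom_apply, hB]; exact map_onePoint_injective ι hx)
  have h0 := Equiv.congr_fun htb y
  rw [glHom_apply, map_onePoint_injective ι hy, Equiv.Perm.mul_apply, Equiv.Perm.mul_apply,
    ← map_inv, glHom_apply B⁻¹, ← hB0, inv_smul_smul, glHom_apply, affinePerm_coe, mul_zero,
    zero_add] at h0
  have hb : (0 : F) = b := OnePoint.coe_eq_coe.1 (smul_left_cancel B h0)
  rw [← map_pow, ProjGenLinGroup.mk_eq_one, ← glHom_ker, MonoidHom.mem_ker, map_pow, htb, conj_pow,
    conj_eq_one_iff, ← hb]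
  have hpow : ∀ n : ℕ, affinePerm t (0 : F) ^ n = affinePerm (t ^ n) 0 := by
    intro n
    induction n with
    | zero => simp [affinePerm_one]
    | succ n ih => rw [pow_succ, ih, affinePerm_mul, ← pow_succ, mul_zero, add_zero]
  rw [hpow, show t ^ (Fintype.card F - 1) = 1 from Units.ext (by
    rw [Units.val_pow_eq_pow_val, FiniteField.pow_card_sub_one_eq_one _ t.ne_zero, Units.val_one]),
    affinePerm_one]

/-- Non-split semisimple elements. -/
theorem pow_card_add_one_eq_one {g : ProjGenLinGroup (Fin 2) F} {x : OnePoint L}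
    (hx : lineHom ι g x = x) (hirr : ¬ ∃ w : OnePoint F, w.map ι = x) :
    g ^ (Fintype.card F + 1) = 1 := by
  rcases eq_or_ne g 1 with rfl | hg
  · exact one_pow _
  set σ := lineHom ι g with hσ
  have hyx : x.map φ ≠ x := fun h => hirr ((frob_fix_iff ι hφ x).1 h)
  have hy : σ (x.map φ) = x.map φ := by rw [hσ, frob_lineHom ι hφ, hx]
  have hyy : (x.map φ).map φ = x := by
    rcases fix_le_two_perm (lineHom_mem_range ι g) ((map_ne_one_iff _ (lineHom_injective ι)).2 hg) hx hy
      (show σ ((x.map φ).map φ) = (x.map φ).map φ by rw [hσ, frob_lineHom ι hφ, ← hσ, hy]) with h | h | h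
    · exact absurd h.symm hyx
    · exact h.symm
    · exact absurd (map_onePoint_injective φ h.symm) hyx
  obtain ⟨B, hB, hB0⟩ := exists_glHom_pair (F := L) hyx.symm
  obtain ⟨t, b, htb⟩ := conj_affine (σ := σ) (lineHom_mem_range ι g) (k := glHom L B) ⟨B, rfl⟩
    (by rw [glHom_apply, hB, hx])
  have h0 := Equiv.congr_fun htb (x.map φ)
  rw [hy, Equiv.Perm.mul_apply, Equiv.Perm.mul_apply, ← map_inv, glHom_apply B⁻¹, ← hB0,
    inv_smul_smul, glHom_apply, affinePerm_coe, mul_zero, zero_add] at h0
  obtain rfl : (0 : L) = b := OnePoint.coe_eq_coe.1 (smul_left_cancel B h0)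
  have hfr : ∀ w : OnePoint L, σ (B.map φ • w.map φ) = B.map φ • (affinePerm t 0 w).map φ := by
    intro w
    rw [← OnePoint.map_smul, hσ, frob_lineHom ι hφ, ← hσ, ← OnePoint.map_smul, htb]
    congr 1
    simp only [Equiv.Perm.mul_apply]
    rw [← map_inv, glHom_apply B⁻¹, inv_smul_smul, glHom_apply]
  set J := B⁻¹ * B.map φ with hJ
  have hJw : ∀ w : OnePoint L, B • J • w = B.map φ • w := fun w => by rw [hJ, mul_smul, smul_inv_smul]
  have hJi : J • (∞ : OnePoint L) = ((0 : L) : OnePoint L) := by
    apply smul_left_cancel B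
    rw [hJw, show (∞ : OnePoint L) = (∞ : OnePoint L).map φ from rfl, ← OnePoint.map_smul, hB, hB0]
  have hJ0 : J • ((0 : L) : OnePoint L) = ∞ := by
    apply smul_left_cancel B
    rw [hJw, show ((0 : L) : OnePoint L) = ((0 : L) : OnePoint L).map φ by simp [OnePoint.map_some],
      ← OnePoint.map_smul, hB0, hyy, hB]
  rw [smul_infty_eq_ite] at hJi
  split_ifs at hJi with hc
  · exact absurd hJi.symm (OnePoint.coe_ne_infty _)
  rw [OnePoint.coe_eq_coe, div_eq_zero_iff, or_iff_left hc] at hJi
  have hJ11 : J 1 1 = 0 := by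
    rw [smul_some_eq_ite] at hJ0
    split_ifs at hJ0 with h
    · rw [mul_zero, zero_add] at h; exact h
    · exact absurd hJ0 (OnePoint.coe_ne_infty _)
  have hJc : ∀ z : L, z ≠ 0 → J • (z : OnePoint L) = ((J 0 1 / (J 1 0 * z) : L) : OnePoint L) := by
    intro z hz
    rw [smul_some_eq_ite, hJ11, hJi, if_neg (by simp [hc, hz])]
    simp
  have ht0 : φ (t : L) ≠ 0 := by simp [t.ne_zero]
  have key := hfr ((1 : L) : OnePoint L)
  simp only [affinePerm_coe, mul_one, add_zero, OnePoint.map_some, map_one] at key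
  rw [← hJw, ← hJw, hJc 1 one_ne_zero, hJc _ ht0, htb, Equiv.Perm.mul_apply, Equiv.Perm.mul_apply,
    ← map_inv, glHom_apply B⁻¹, inv_smul_smul, glHom_apply, affinePerm_coe, add_zero] at key
  have key' := OnePoint.coe_eq_coe.1 (smul_left_cancel B key)
  have hs : J 0 1 ≠ 0 := by
    intro e
    apply J.det_ne_zero
    rw [Matrix.det_fin_two, hJi, e]
    ring
  have ht1 : t ^ (Fintype.card F + 1) = 1 := by
    apply Units.ext
    rw [Units.val_pow_eq_pow_val, pow_succ', ← hφ, Units.val_one]
    field_simp at key'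
    linear_combination key'
  apply lineHom_injective ι
  rw [map_pow, ← hσ, map_one, htb, conj_pow, conj_eq_one_iff]
  have hpow : ∀ n : ℕ, affinePerm t (0 : L) ^ n = affinePerm (t ^ n) 0 := by
    intro n
    induction n with
    | zero => simp [affinePerm_one]
    | succ n ih => rw [pow_succ, ih, affinePerm_mul, ← pow_succ, mul_zero, add_zero]
  rw [hpow, ht1, affinePerm_one]

end Finite

/-- Semisimple elements of `SL₂(q)`. -/
theorem sl_pow_trichotomy {F : Type*} [Field F] [Fintype F] (p : ℕ) [Fact p.Prime] [CharP F p]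
    (A : SpecialLinearGroup (Fin 2) F) :
    A ^ p ∈ Subgroup.center (SpecialLinearGroup (Fin 2) F) ∨ A ^ (Fintype.card F - 1) = 1 ∨
      A ^ (Fintype.card F + 1) = 1 := by
  classical
  by_cases h : (A : Matrix (Fin 2) (Fin 2) F).trace ^ 2 = 4
  · exact Or.inl (CfsgLib.SpecLin.SLTwo.pow_char_mem_center p h)
  by_cases hr : ∃ r : F, r * r - (A : Matrix (Fin 2) (Fin 2) F).trace * r + 1 = 0
  · obtain ⟨r, hr⟩ := hr
    exact Or.inr (Or.inl (CfsgLib.SpecLin.SLTwo.pow_card_sub_one_of_root h hr))
  · push Not at hr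
    exact Or.inr (Or.inr (CfsgLib.SpecLin.SLTwo.pow_card_add_one_of_no_root hr))

theorem mem_center_of_sq_eq_one {F : Type*} [Field F] {B : SpecialLinearGroup (Fin 2) F}
    (h2 : (2 : F) ≠ 0) (h : B ^ 2 = 1) : B ∈ Subgroup.center (SpecialLinearGroup (Fin 2) F) := by
  have hB : (B : Matrix (Fin 2) (Fin 2) F) * B = 1 := by
    exact congrArg Subtype.val (show B * B = 1 by rw [← sq, h])
  rw [CfsgLib.SpecLin.SLTwo.sq_eq _ B.prop] at hB
  rcases eq_or_ne (B : Matrix (Fin 2) (Fin 2) F).trace 0 with ht | ht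
  · rw [ht, zero_smul] at hB
    have h00 := congrFun (congrFun hB 0) 0
    simp at h00
    exact absurd (by linear_combination -h00) h2
  · suffices hs : (B : Matrix (Fin 2) (Fin 2) F) = (2 / (B : Matrix (Fin 2) (Fin 2) F).trace) •
        (1 : Matrix (Fin 2) (Fin 2) F) by
      refine Subgroup.mem_center_iff.2 fun w => Subtype.ext ?_
      change (w : Matrix (Fin 2) (Fin 2) F) * B = B * w
      rw [hs]
      simp
    have h' : (B : Matrix (Fin 2) (Fin 2) F).trace • (B : Matrix (Fin 2) (Fin 2) F) =
        (2 : F) • (1 : Matrix (Fin 2) (Fin 2) F) := by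
      rw [two_smul]
      exact sub_eq_iff_eq_add.1 hB
    calc (B : Matrix (Fin 2) (Fin 2) F)
        = (B : Matrix (Fin 2) (Fin 2) F).trace⁻¹ • ((B : Matrix (Fin 2) (Fin 2) F).trace • (B : Matrix (Fin 2) (Fin 2) F)) := by
          rw [inv_smul_smul₀ ht]
      _ = _ := by rw [h', smul_smul, mul_comm, div_eq_mul_inv]

/-- Element orders in `PSL₂(q)`. -/
theorem psl_pow_trichotomy {F : Type*} [Field F] [Fintype F] (p : ℕ) [Fact p.Prime] [CharP F p]
    (g : ProjectiveSpecialLinearGroup (Fin 2) F) :
    g ^ p = 1 ∨ g ^ ((Fintype.card F - 1) / Nat.gcd 2 (Fintype.card F - 1)) = 1 ∨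
      g ^ ((Fintype.card F + 1) / Nat.gcd 2 (Fintype.card F - 1)) = 1 := by
  obtain ⟨A, rfl⟩ := QuotientGroup.mk_surjective g
  have h1 : ∀ m, A ^ m ∈ Subgroup.center (SpecialLinearGroup (Fin 2) F) →
      (QuotientGroup.mk A : ProjectiveSpecialLinearGroup (Fin 2) F) ^ m = 1 := fun m hm => by
    rw [← QuotientGroup.mk_pow, QuotientGroup.eq_one_iff]
    exact hm
  rcases Nat.even_or_odd (Fintype.card F) with he | ho
  · have hd : Nat.gcd 2 (Fintype.card F - 1) = 1 := by
      have := Fintype.one_lt_card (α := F)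
      rw [Nat.gcd_rec, show (Fintype.card F - 1) % 2 = 1 by rcases he with ⟨k, hk⟩; omega]
      simp
    rw [hd, Nat.div_one, Nat.div_one]
    rcases sl_pow_trichotomy p A with h | h | h
    · exact Or.inl (h1 _ h)
    · exact Or.inr (Or.inl (h1 _ (h ▸ one_mem _)))
    · exact Or.inr (Or.inr (h1 _ (h ▸ one_mem _)))
  · have h2 : (2 : F) ≠ 0 := by
      intro e
      have : ringChar F = 2 := by
        have := ringChar.dvd (R := F) (x := 2) (by simpa using e)
        rcases (Nat.dvd_prime Nat.prime_two).1 this with h | h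
        · exact absurd h (CharP.ringChar_ne_one)
        · exact h
      exact (Nat.not_even_iff_odd.2 ho) (Nat.even_iff.2 (FiniteField.even_card_iff_char_two.1 this))
    have hd : Nat.gcd 2 (Fintype.card F - 1) = 2 :=
      Nat.gcd_eq_left (by rcases ho with ⟨k, hk⟩; omega)
    rw [hd]
    rcases sl_pow_trichotomy p A with h | h | h
    · exact Or.inl (h1 _ h)
    · refine Or.inr (Or.inl (h1 _ (mem_center_of_sq_eq_one h2 ?_)))
      rw [← pow_mul, Nat.div_mul_cancel (by rcases ho with ⟨k, hk⟩; omega), h]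
    · refine Or.inr (Or.inr (h1 _ (mem_center_of_sq_eq_one h2 ?_)))
      rw [← pow_mul, Nat.div_mul_cancel (by rcases ho with ⟨k, hk⟩; omega), h]

end CfsgLib.PSL2
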