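import Cfsg.Agent.Lib.PSL2.MaxClassify
import Cfsg.Agent.Lib.InvChar.RankFourQuotient
import Mathlib.LinearAlgebra.Projectivization.PSL.PSL2

/-!
Solvability of the proper subgroups of `PSL₂(q)`.
-/

set_option autoImplicit false
set_option linter.unusedSectionVars false

open Matrix OnePoint

namespace CfsgLib.PSL2

open CfsgLib.PermSmall.Moebius

theorem isSolvable_of_hom_abelian {G A : Type*} [Group G] [CommGroup A] (χ : G →* A)
    (h : ∀ a b, χ a = 1 → χ b = 1 → a * b = b * a) : Group.IsSolvable G :=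
  have : Group.IsSolvable χ.ker :=
    Group.isSolvable_of_comm fun a b => Subtype.ext (h a b a.2 b.2)
  Group.isSolvable_of_ker_le_range χ.ker.subtype χ (Subgroup.range_subtype _).ge

theorem isSolvable_dihedral (k : ℕ) : Group.IsSolvable (DihedralGroup k) := by
  let χ : DihedralGroup k →* ℤˣ :=
    { toFun := fun g => match g with | DihedralGroup.r _ => 1 | DihedralGroup.sr _ => -1
      map_one' := rfl
      map_mul' := fun a b => by
        rcases a with i | i <;> rcases b with j | j <;> rfl }
  refine isSolvable_of_hom_abelian χ fun a b ha hb => ?_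
  rcases a with i | i <;> rcases b with j | j
  · rw [DihedralGroup.r_mul_r, DihedralGroup.r_mul_r, add_comm]
  all_goals first | exact absurd (show (-1 : ℤˣ) = 1 from ha) (by decide) | exact absurd (show (-1 : ℤˣ) = 1 from hb) (by decide)

variable {F : Type*} [Field F] [DecidableEq F]

/-- A group of fractional linear maps fixing a point is metabelian. -/
theorem isSolvable_of_fix {H : Type*} [Group H] (f : H →* Equiv.Perm (OnePoint F))
    (hf : Function.Injective f) (hr : ∀ g, f g ∈ (glHom F).range) {x : OnePoint F}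
    (hx : ∀ g, f g x = x) : Group.IsSolvable H := by
  obtain ⟨k, hk, rfl⟩ := exists_map_infty x
  have hrep : ∀ g, ∃ t b, f g = k * affinePerm t b * k⁻¹ := fun g => conj_affine (hr g) hk (hx g)
  choose t b htb using hrep
  have huniq : ∀ g t' b', f g = k * affinePerm t' b' * k⁻¹ → t g = t' ∧ b g = b' := fun g t' b' e =>
    affinePerm_inj (mul_left_cancel (mul_right_cancel ((htb g).symm.trans e)))
  let χ : H →* Fˣ := MonoidHom.mk' t fun g h => (huniq (g * h) (t g * t h) (t g * b h + b g) (by
    rw [map_mul, htb g, htb h, show k * affinePerm (t g) (b g) * k⁻¹ * (k * affinePerm (t h) (b h) * k⁻¹) =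
      k * (affinePerm (t g) (b g) * affinePerm (t h) (b h)) * k⁻¹ by group, affinePerm_mul])).1
  refine isSolvable_of_hom_abelian χ fun g h hg hh => hf ?_
  rw [map_mul, map_mul, htb g, htb h, show t g = 1 from hg, show t h = 1 from hh,
    show k * affinePerm 1 (b g) * k⁻¹ * (k * affinePerm 1 (b h) * k⁻¹) =
      k * (affinePerm 1 (b g) * affinePerm 1 (b h)) * k⁻¹ by group,
    show k * affinePerm 1 (b h) * k⁻¹ * (k * affinePerm 1 (b g) * k⁻¹) =
      k * (affinePerm 1 (b h) * affinePerm 1 (b g)) * k⁻¹ by group, affinePerm_mul, affinePerm_mul]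
  simp [add_comm]

variable [Fintype F]

local notation "PSL" => ProjectiveSpecialLinearGroup (Fin 2) F

/-- Proper subgroups are solvable unless they are `A₅` or subfield groups. -/
theorem isSolvable_or_big (p : ℕ) [Fact p.Prime] [CharP F p] (H : Subgroup PSL) :
    Group.IsSolvable H ∨ 5 ∣ Nat.card PSL ∧ Nat.card H = 60 ∨
      ∃ S : Subfield F, 4 ≤ Nat.card S ∧ (Nonempty (H ≃* ProjectiveSpecialLinearGroup (Fin 2) S) ∨
          Nonempty (H ≃* ProjGenLinGroup (Fin 2) S)) := by
  rcases dickson_psl p H with ⟨x, hx⟩ | ⟨k, -, hs⟩ | ⟨⟨e⟩⟩ | ⟨⟨e⟩⟩ | ⟨⟨e⟩⟩ | ⟨S, -, hiso⟩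
  · refine Or.inl (isSolvable_of_fix ((pglPerm F).comp (ProjectiveSpecialLinearGroup.toPGL.comp H.subtype))
      ((pglPerm_injective.comp ProjectiveSpecialLinearGroup.toPGL_injective).comp H.subtype_injective)
      (fun g => pglPerm_mem_range _) fun g => hx g g.2)
  · refine Or.inl ?_
    rcases hs with ⟨hc, -⟩ | ⟨⟨e⟩⟩
    · let _ := IsCyclic.commGroup (α := H)
      exact Group.isSolvable_of_comm mul_comm
    · have := isSolvable_dihedral k
      exact Group.isSolvable_of_isSolvable_injective (f := e.toMonoidHom) e.injective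
  · exact Or.inl (CfsgLib.InvCharRankFour.isSolvable_of_dvd_two_three (i := 2) (j := 1)
      (by rw [Nat.card_congr e.toEquiv, card_alt_four]; norm_num))
  · exact Or.inl (CfsgLib.InvCharRankFour.isSolvable_of_dvd_two_three (i := 3) (j := 1)
      (by rw [Nat.card_congr e.toEquiv, Nat.card_perm, Nat.card_fin]; norm_num [Nat.factorial]))
  · have hc : Nat.card H = 60 := by rw [Nat.card_congr e.toEquiv, card_alt_five]
    exact Or.inr (Or.inl ⟨Nat.dvd_trans (by rw [hc]; norm_num) H.card_subgroup_dvd_card, hc⟩)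
  · classical
    by_cases h4 : 4 ≤ Nat.card S
    · exact Or.inr (Or.inr ⟨S, h4, hiso⟩)
    refine Or.inl (CfsgLib.InvCharRankFour.isSolvable_of_dvd_two_three (i := 3) (j := 1) ?_)
    have hS : Nat.card S = 2 ∨ Nat.card S = 3 := by
      have := Finite.one_lt_card (α := S)
      omega
    rw [Nat.card_eq_fintype_card] at hS
    have hd : Nat.card (ProjectiveSpecialLinearGroup (Fin 2) S) ∣ 24 ∧
        Nat.card (ProjGenLinGroup (Fin 2) S) ∣ 24 := by
      have h1 := card_psl (F := S)
      have h2 := card_pgl (F := S)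
      refine ⟨Nat.dvd_trans (dvd_mul_left _ (Nat.gcd 2 (Fintype.card S - 1))) ?_, ?_⟩
      · rw [h1]; rcases hS with e | e <;> rw [e] <;> norm_num
      · rw [h2]; rcases hS with e | e <;> rw [e] <;> norm_num
    rcases hiso with ⟨⟨φ⟩⟩ | ⟨⟨φ⟩⟩ <;> rw [Nat.card_congr φ.toEquiv]
    exacts [hd.1, hd.2]

theorem psl_not_solvable {K : Type*} [Field K] [Fintype K] (h4 : 4 ≤ Fintype.card K) :
    ¬ Group.IsSolvable (ProjectiveSpecialLinearGroup (Fin 2) K) ∧
      IsSimpleGroup (ProjectiveSpecialLinearGroup (Fin 2) K) ∧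
      ¬ IsMulCommutative (ProjectiveSpecialLinearGroup (Fin 2) K) := by
  have := ProjectiveSpecialLinearGroup.rank_two_simple (F := K) (by rwa [Nat.card_eq_fintype_card])
  have hnc : ¬ IsMulCommutative (ProjectiveSpecialLinearGroup (Fin 2) K) := by
    intro hc
    let _ : CommGroup (ProjectiveSpecialLinearGroup (Fin 2) K) :=
      { (inferInstance : Group (ProjectiveSpecialLinearGroup (Fin 2) K)) with mul_comm := hc.is_comm.comm }
    have hp := IsSimpleGroup.prime_card (α := ProjectiveSpecialLinearGroup (Fin 2) K)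
    have h4' := four_dvd_psl h4
    have h := (Nat.dvd_prime hp).1 h4'
    have hbig := card_le_psl h4
    omega
  refine ⟨fun hs => ?_, this, hnc⟩
  exact hnc ⟨⟨IsSimpleGroup.comm_iff_isSolvable.2 hs⟩⟩

theorem minimal_simple_core (p : ℕ) [Fact p.Prime] [CharP F p] {n : ℕ}
    (hn : Fintype.card F = p ^ n) (h : (n.Prime ∧ p = 2) ∨ (n.Prime ∧ n ≠ 2 ∧ p = 3) ∨
      (n = 1 ∧ (p = 5 ∨ (5 < p ∧ (p % 5 = 2 ∨ p % 5 = 3))))) (H : Subgroup PSL) (hH : H ≠ ⊤) :
    Group.IsSolvable H := by
  rcases isSolvable_or_big p H with hs | ⟨h5, hc⟩ | ⟨S, hS4, hiso⟩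
  · exact hs
  · exfalso
    refine hH (Subgroup.eq_top_of_card_eq _ ?_)
    rw [hc]
    rcases h with ⟨hr, rfl⟩ | ⟨hr, hr2, rfl⟩ | ⟨rfl, hp⟩
    · have h := card_psl (F := F)
      have he : Even (Fintype.card F) := by rw [hn]; exact even_two.pow_of_ne_zero hr.ne_zero
      rw [gcd_eq_one he, one_mul, hn] at h
      rcases hr.eq_two_or_odd' with rfl | ⟨l, rfl⟩
      · norm_num [-Nat.card_eq_fintype_card] at h; omega
      · exfalso
        have hmod : 2 ^ (2 * l + 1) % 5 = 2 ∨ 2 ^ (2 * l + 1) % 5 = 3 := by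
          clear h hn hr
          induction l with
          | zero => simp
          | succ l ih =>
            rw [show 2 * (l + 1) + 1 = 2 * l + 1 + 2 by ring, pow_add, Nat.mul_mod]
            rcases ih with e | e <;> rw [e] <;> norm_num
        rw [h] at h5
        generalize 2 ^ (2 * l + 1) = Q at hmod h5
        rcases (Nat.prime_five.dvd_mul).1 h5 with h' | h'
        · omega
        rcases (Nat.prime_five.dvd_mul).1 h' with h'' | h'' <;> omega
    · exfalso
      have ho : Odd (Fintype.card F) := by rw [hn]; exact (by decide : Odd 3).pow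
      obtain ⟨l, rfl⟩ := hr.odd_of_ne_two hr2
      have hmod : 3 ^ (2 * l + 1) % 5 = 2 ∨ 3 ^ (2 * l + 1) % 5 = 3 := by
        clear hn hr hr2
        induction l with
        | zero => simp
        | succ l ih =>
          rw [show 2 * (l + 1) + 1 = 2 * l + 1 + 2 by ring, pow_add, Nat.mul_mod]
          rcases ih with e | e <;> rw [e] <;> norm_num
      have := mod_five_of_dvd_psl ho h5
      rw [hn] at this
      generalize 3 ^ (2 * l + 1) = Q at hmod this
      omega
    · have ho : Odd (Fintype.card F) := by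
        rw [hn, pow_one]
        exact (Fact.out : p.Prime).odd_of_ne_two (by omega)
      have hm := mod_five_of_dvd_psl ho h5
      rw [hn, pow_one] at hm
      rcases hp with rfl | ⟨hp5, hp⟩
      · have := psl_card_odd (F := F) ho
        rw [hn] at this
        norm_num [-Nat.card_eq_fintype_card] at this
        omega
      · omega
  · exfalso
    classical
    obtain ⟨m, hm0, hm⟩ := exists_degree S.subtype
    rw [Nat.card_eq_fintype_card] at hS4
    have hSd : Fintype.card S ∣ p ^ n := hn ▸ hm ▸ dvd_pow_self _ (by omega)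
    obtain ⟨a, -, ha⟩ := (Nat.dvd_prime_pow Fact.out).1 hSd
    rw [ha, hn, ← pow_mul] at hm
    have h2p := (Fact.out : p.Prime).two_le
    have ham := Nat.pow_right_injective h2p hm
    refine hH (eq_top_of_model (K := S) ?_ hiso)
    rw [ha, hn]
    have ha1 : a ∣ n := ⟨m, ham.symm⟩
    rcases h with ⟨hr, rfl⟩ | ⟨hr, -, rfl⟩ | ⟨rfl, -⟩
    · rcases (Nat.dvd_prime hr).1 ha1 with rfl | rfl
      · rw [ha] at hS4; norm_num at hS4
      · rfl
    · rcases (Nat.dvd_prime hr).1 ha1 with rfl | rfl
      · rw [ha] at hS4; norm_num at hS4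
      · rfl
    · rw [Nat.dvd_one.1 ha1]

/-- The converse: numerical conditions from minimal simplicity. -/
theorem minimal_simple_cases (p : ℕ) [Fact p.Prime] [CharP F p] {n : ℕ} (hn : Fintype.card F = p ^ n)
    (hnc : ¬ IsMulCommutative PSL) (hsimple : IsSimpleGroup PSL)
    (hsol : ∀ H : Subgroup PSL, H ≠ ⊤ → Group.IsSolvable H) :
    (n.Prime ∧ p = 2) ∨ (n.Prime ∧ n ≠ 2 ∧ p = 3) ∨
      (n = 1 ∧ (p = 5 ∨ (5 < p ∧ (p % 5 = 2 ∨ p % 5 = 3)))) := by
  have hpp : p.Prime := Fact.out
  have hq := Fintype.one_lt_card (α := F)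
  have h4 : 4 ≤ Fintype.card F := by
    by_contra hlt
    have hs : Group.IsSolvable PSL := CfsgLib.InvCharRankFour.isSolvable_of_dvd_two_three (i := 3) (j := 1) (by
      refine Nat.dvd_trans (dvd_mul_left _ (Nat.gcd 2 (Fintype.card F - 1))) ?_
      rw [card_psl]
      rcases (show Fintype.card F = 2 ∨ Fintype.card F = 3 by omega) with e | e <;> rw [e] <;> norm_num)
    exact hnc ⟨⟨IsSimpleGroup.comm_iff_isSolvable.2 hs⟩⟩
  have hA5 : Odd (Fintype.card F) → (Fintype.card F % 5 = 1 ∨ Fintype.card F % 5 = 4) →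
      9 ≤ Fintype.card F → False := by
    intro ho h5 h9
    obtain ⟨r, hr⟩ := exists_root_of_five (five_dvd_psl ho h5)
    obtain ⟨f, hf⟩ := exists_alt_five_psl hr
    have hne : f.range ≠ ⊤ := fun e => by
      have h60 : Nat.card f.range = 60 := by
        rw [← Nat.card_congr (MonoidHom.ofInjective hf).toEquiv, card_alt_five]
      rw [e, Subgroup.card_top] at h60
      have := lt_card_psl ho (b := 9) h9 60 (by norm_num) (by norm_num)
      omega
    have := hsol _ hne
    have hs : Group.IsSolvable (alternatingGroup (Fin 5)) :=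
      Group.isSolvable_of_isSolvable_injective (f := (MonoidHom.ofInjective hf).toMonoidHom)
        (MonoidHom.ofInjective hf).injective
    obtain ⟨a, b, hab⟩ : ∃ a b : alternatingGroup (Fin 5), a * b ≠ b * a :=
      ⟨icoX, icoY, by decide⟩
    exact hab (IsSimpleGroup.comm_iff_isSolvable.2 hs a b)
  have hsub : ∀ r, r.Prime → r ∣ n → n / r = 1 ∧ (p = 2 ∨ p = 3) := by
    intro r hr hrn
    obtain ⟨l, rfl⟩ := hrn
    have hl : l ≠ 0 := by rintro rfl; simp at hn; omega
    have : Fintype (GaloisField p l) := Fintype.ofFinite _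
    have hK : Fintype.card (GaloisField p l) = p ^ l := by
      rw [← Nat.card_eq_fintype_card, GaloisField.card p l hl]
    have hKr : Fintype.card (GaloisField p l) ^ r = Fintype.card F := by
      rw [hK, hn, ← pow_mul, mul_comm l r]
    obtain ⟨ι⟩ := exists_fieldHom hKr
    have hlt : p ^ l < 4 := by
      by_contra hge
      push Not at hge
      rw [← hK] at hge
      have := hsol _ (pslSub_ne_top ι hr hKr)
      refine (psl_not_solvable hge).1 ?_
      rcases hr.eq_two_or_odd' with rfl | ho
      · rcases Nat.even_or_odd (Fintype.card F) with he | ho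
        · obtain ⟨e⟩ := nonempty_pslSub_equiv_psl ι hKr (Or.inl he)
          exact Group.isSolvable_of_isSolvable_injective (f := e.symm.toMonoidHom) e.symm.injective
        · obtain ⟨e⟩ := nonempty_pslSub_equiv_pgl ι ho hKr even_two
          exact Group.isSolvable_of_isSolvable_injective
            (f := e.symm.toMonoidHom.comp ProjectiveSpecialLinearGroup.toPGL)
            (e.symm.injective.comp ProjectiveSpecialLinearGroup.toPGL_injective)
      · obtain ⟨e⟩ := nonempty_pslSub_equiv_psl ι hKr (Or.inr ho)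
        exact Group.isSolvable_of_isSolvable_injective (f := e.symm.toMonoidHom) e.symm.injective
    have hl1 : l = 1 := by
      by_contra hne
      have := Nat.pow_le_pow_right hpp.pos (show 2 ≤ l by omega)
      have := Nat.pow_le_pow_left hpp.two_le 2
      omega
    subst hl1
    rw [pow_one] at hlt
    have := hpp.two_le
    exact ⟨by rw [mul_one, Nat.div_self hr.pos], by omega⟩
  have hn0 : n ≠ 0 := by rintro rfl; simp at hn; omega
  rcases eq_or_ne n 1 with rfl | hn1
  · refine Or.inr (Or.inr ⟨rfl, ?_⟩)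
    rw [pow_one] at hn
    rcases eq_or_ne p 5 with h5 | h5
    · exact Or.inl h5
    refine Or.inr ⟨by
      rcases (show p = 4 ∨ 5 < p by omega) with e | e
      · subst e; norm_num at hpp
      · exact e, ?_⟩
    have hp50 : p % 5 ≠ 0 := fun e => h5
      ((Nat.prime_dvd_prime_iff_eq Nat.prime_five hpp).1 (Nat.dvd_of_mod_eq_zero e)).symm
    have ho : Odd p := hpp.odd_of_ne_two (by omega)
    by_contra hcon
    have hp9 : 9 ≤ p := by
      rcases (show p = 4 ∨ p = 6 ∨ p = 8 ∨ 9 ≤ p by omega) with e | e | e | e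
      · subst e; norm_num at hpp
      · subst e; norm_num at hpp
      · subst e; norm_num at hpp
      · exact e
    exact hA5 (hn ▸ ho) (by omega) (by omega)
  obtain ⟨r, hr, hrn⟩ : ∃ r, r.Prime ∧ r ∣ n := ⟨n.minFac, Nat.minFac_prime hn1, Nat.minFac_dvd n⟩
  obtain ⟨hdiv, hp⟩ := hsub r hr hrn
  have hnr : n = r := by
    obtain ⟨l, rfl⟩ := hrn
    rw [Nat.mul_div_cancel_left _ hr.pos] at hdiv
    rw [hdiv, mul_one]
  subst hnr
  rcases hp with rfl | rfl
  · exact Or.inl ⟨hr, rfl⟩
  · refine Or.inr (Or.inl ⟨hr, ?_, rfl⟩)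
    rintro rfl
    norm_num at hn
    exact hA5 (by rw [hn]; decide) (by omega) (by omega)

end CfsgLib.PSL2
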