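import Cfsg.Agent.Lib.PSL2.KleinPsl
import Cfsg.Agent.Lib.PSL2.MaxDihedral
import Cfsg.Agent.Lib.Recognition.Icosahedral

/-!
`A₅` inside `PSL₂(q)`.
-/

set_option autoImplicit false
set_option linter.unusedSectionVars false

open Matrix

namespace CfsgLib.PSL2

/-- The five-cycle generator. -/
def icoY : alternatingGroup (Fin 5) :=
  ⟨finRotate 5, Equiv.Perm.mem_alternatingGroup.2 (by decide)⟩

/-- The three-cycle generator. -/
def icoX : alternatingGroup (Fin 5) :=
  ⟨Equiv.swap 0 1 * Equiv.swap 0 3, Equiv.Perm.mem_alternatingGroup.2 (by decide)⟩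

theorem icoX_pow : icoX ^ 3 = 1 := by decide
theorem icoY_pow : icoY ^ 5 = 1 := by decide
theorem icoXY_pow : (icoX * icoY) ^ 2 = 1 := by decide
theorem icoX_ne : icoX ≠ 1 := by decide
theorem icoY_ne : icoY ≠ 1 := by decide
theorem icoXY_ne : icoX * icoY ≠ 1 := by decide

theorem ico_generates : Subgroup.closure ({icoX, icoY} : Set (alternatingGroup (Fin 5))) = ⊤ := by
  set H := Subgroup.closure ({icoX, icoY} : Set (alternatingGroup (Fin 5)))
  have hx : icoX ∈ H := Subgroup.subset_closure (by simp)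
  have hy : icoY ∈ H := Subgroup.subset_closure (by simp)
  have hd : ∀ (g : alternatingGroup (Fin 5)) (n : ℕ) [Fact n.Prime], g ∈ H → g ^ n = 1 → g ≠ 1 →
      n ∣ Nat.card H := fun g n _ hg h h1 => by
    rw [← orderOf_eq_prime h h1, ← Subgroup.orderOf_mk g hg]
    exact orderOf_dvd_natCard _
  have : Fact (Nat.Prime 2) := ⟨Nat.prime_two⟩
  have : Fact (Nat.Prime 3) := ⟨Nat.prime_three⟩
  have : Fact (Nat.Prime 5) := ⟨Nat.prime_five⟩
  have h30 : 30 ∣ Nat.card H :=
    Nat.Coprime.mul_dvd_of_dvd_of_dvd (m := 6) (n := 5) (by norm_num)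
      (Nat.Coprime.mul_dvd_of_dvd_of_dvd (m := 2) (n := 3) (by norm_num)
        (hd _ 2 (mul_mem hx hy) icoXY_pow icoXY_ne) (hd _ 3 hx icoX_pow icoX_ne))
      (hd _ 5 hy icoY_pow icoY_ne)
  have h60 : Nat.card (alternatingGroup (Fin 5)) = 60 := card_alt_five
  have hdvd := H.card_subgroup_dvd_card
  rw [h60] at hdvd
  refine Subgroup.eq_top_of_card_eq _ ?_
  rw [h60]
  obtain ⟨k, hk⟩ := h30
  have hk2 : k ∣ 2 := Nat.dvd_of_mul_dvd_mul_left (show 0 < 30 by norm_num) (hk ▸ hdvd)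
  rcases (Nat.dvd_prime Nat.prime_two).1 hk2 with rfl | rfl
  · exfalso
    have hi : H.index = 2 := by
      have := H.card_mul_index
      rw [hk, h60] at this
      omega
    have hn := Subgroup.normal_of_index_eq_two hi
    rcases hn.eq_bot_or_eq_top with e | e
    · rw [e, Subgroup.card_bot] at hk; omega
    · rw [e, Subgroup.index_top] at hi; omega
  · exact hk

/-- A non-trivial pair with the icosahedral relations generates a copy of `A₅`. -/
theorem exists_hom_alt_five {G : Type*} [Group G] {x y : G} (hx : x ^ 3 = 1) (hy : y ^ 5 = 1)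
    (hxy : (x * y) ^ 2 = 1) (hne : y ≠ 1) :
    ∃ f : alternatingGroup (Fin 5) →* G, Function.Injective f ∧ f icoX = x ∧ f icoY = y := by
  let Γ := Subgroup.closure ({(x, icoX), (y, icoY)} : Set (G × alternatingGroup (Fin 5)))
  let a : Γ := ⟨(x, icoX), Subgroup.subset_closure (by simp)⟩
  let b : Γ := ⟨(y, icoY), Subgroup.subset_closure (by simp)⟩
  have hgen : Subgroup.closure ({a, b} : Set Γ) = ⊤ := by
    rw [← Subgroup.closure_closure_coe_preimage
      (k := ({(x, icoX), (y, icoY)} : Set (G × alternatingGroup (Fin 5))))]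
    congr 1
    ext ⟨z, hz⟩
    simp [a, b]
  obtain ⟨hfin, hcard⟩ := CfsgLib.Icosahedral.finite_card_le_sixty (x := a) (y := b)
    (Subtype.ext (Prod.ext (by simpa [a] using hx) (by simpa [a] using icoX_pow)))
    (Subtype.ext (Prod.ext (by simpa [b] using hy) (by simpa [b] using icoY_pow)))
    (Subtype.ext (Prod.ext (by simpa [a, b] using hxy) (by simpa [a, b] using icoXY_pow))) hgen
  let π : Γ →* alternatingGroup (Fin 5) := (MonoidHom.snd G _).comp Γ.subtype
  have hsurj : Function.Surjective π := by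
    rw [← MonoidHom.range_eq_top, eq_top_iff, ← ico_generates, Subgroup.closure_le]
    rintro _ (rfl | rfl)
    · exact ⟨a, rfl⟩
    · exact ⟨b, rfl⟩
  have hbij : Function.Bijective π := by
    have := Fintype.ofFinite Γ
    refine (Nat.bijective_iff_surjective_and_card π).2 ⟨hsurj, le_antisymm ?_ ?_⟩
    · rw [card_alt_five]; exact hcard
    · exact Nat.card_le_card_of_surjective π hsurj
  let e := MulEquiv.ofBijective π hbij
  let f : alternatingGroup (Fin 5) →* G :=
    ((MonoidHom.fst G _).comp Γ.subtype).comp e.symm.toMonoidHom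
  have hea : e.symm icoX = a := e.symm_apply_eq.2 rfl
  have heb : e.symm icoY = b := e.symm_apply_eq.2 rfl
  have hfx : f icoX = x := by simp [f, hea, a]
  have hfy : f icoY = y := by simp [f, heb, b]
  refine ⟨f, ?_, hfx, hfy⟩
  rw [← MonoidHom.ker_eq_bot_iff]
  refine (f.normal_ker.eq_bot_or_eq_top).resolve_right fun h => hne ?_
  rw [← hfy, MonoidHom.mem_ker.1 (h ▸ Subgroup.mem_top icoY)]

variable {F : Type*} [Field F]

local notation "SL2" => SpecialLinearGroup (Fin 2) F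
local notation "M2" => Matrix (Fin 2) (Fin 2) F

theorem sl_pow_three {A : M2} (hd : A.det = 1) (ht : A.trace = 1) : A ^ 3 = -1 := by
  have h := CfsgLib.SpecLin.SLTwo.sq_eq A hd
  rw [ht, one_smul] at h
  rw [pow_succ, sq, h, sub_mul, h, one_mul]
  abel

theorem sl_pow_five {A : M2} (hd : A.det = 1) {r : F} (hr : r ^ 2 + r - 1 = 0) (ht : A.trace = r) :
    A ^ 5 = 1 := by
  have h : A * A = r • A - (1 : F) • 1 := by
    rw [one_smul, ← ht]; exact CfsgLib.SpecLin.SLTwo.sq_eq A hd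
  have h3 : A ^ 3 = (r ^ 2 - 1) • A - r • (1 : M2) := by
    rw [pow_succ, sq, h, sub_mul, smul_mul_assoc, h]
    simp only [smul_mul_assoc, one_mul]
    match_scalars <;> ring
  have h5 : A ^ 5 = A ^ 3 * (A * A) := by rw [pow_succ, pow_succ, mul_assoc]
  rw [h5, h3, h]
  simp only [sub_mul, mul_sub, smul_mul_assoc, mul_smul_comm, one_mul, mul_one, h]
  match_scalars
  · linear_combination (r ^ 2 - r - 1) * hr
  · linear_combination -(r - 1) * hr

/-- An element of order five has trace a root of `X² + X - 1`. -/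
theorem trace_of_pow_five {A : M2} (hd : A.det = 1) (hs : ∀ s : F, A ≠ s • 1) (h5 : A ^ 5 = 1) :
    A.trace ^ 2 + A.trace - 1 = 0 := by
  set r := A.trace
  have h : A * A = r • A - (1 : F) • 1 := by
    rw [one_smul]; exact CfsgLib.SpecLin.SLTwo.sq_eq A hd
  have h3 : A ^ 3 = (r ^ 2 - 1) • A - r • (1 : M2) := by
    rw [pow_succ, sq, h, sub_mul, smul_mul_assoc, h]
    simp only [smul_mul_assoc, one_mul]
    match_scalars <;> ring
  have hA5 : A ^ 5 = A ^ 3 * (A * A) := by rw [pow_succ, pow_succ, mul_assoc]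
  have key : (r ^ 4 - 3 * r ^ 2 + 1) • A = (1 + (r ^ 3 - 2 * r)) • (1 : M2) := by
    have hA : A ^ 5 = (r ^ 4 - 3 * r ^ 2 + 1) • A - (r ^ 3 - 2 * r) • (1 : M2) := by
      rw [hA5, h3, h]
      simp only [sub_mul, mul_sub, smul_mul_assoc, mul_smul_comm, one_mul, mul_one, h]
      match_scalars <;> ring
    rw [h5] at hA
    rw [add_smul _ (r ^ 3 - 2 * r), one_smul]
    exact eq_add_of_sub_eq hA.symm
  have h0 : r ^ 4 - 3 * r ^ 2 + 1 = 0 := by
    by_contra hne
    refine hs ((r ^ 4 - 3 * r ^ 2 + 1)⁻¹ * (1 + (r ^ 3 - 2 * r))) ?_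
    rw [← smul_smul, ← key, inv_smul_smul₀ hne]
  rw [h0, zero_smul] at key
  have h1 : 1 + (r ^ 3 - 2 * r) = 0 := (smul_eq_zero.1 key.symm).resolve_right one_ne_zero
  rcases mul_eq_zero.1 (show (r ^ 2 + r - 1) * (r ^ 2 - r - 1) = 0 by linear_combination h0) with e | e
  · exact e
  · linear_combination e + r * (h1 - (r + 1) * e)

theorem exists_root_of_five [Fintype F] (h : 5 ∣ Nat.card (ProjectiveSpecialLinearGroup (Fin 2) F)) :
    ∃ r : F, r ^ 2 + r - 1 = 0 := by
  have : Fact (Nat.Prime 5) := ⟨Nat.prime_five⟩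
  obtain ⟨g, hg⟩ := exists_prime_orderOf_dvd_card' 5 h
  obtain ⟨M, rfl⟩ := QuotientGroup.mk_surjective g
  have h5 : M ^ 5 ∈ Subgroup.center SL2 := by
    rw [← QuotientGroup.eq_one_iff, QuotientGroup.mk_pow]
    exact orderOf_dvd_iff_pow_eq_one.1 hg.dvd
  have hc2 : (M ^ 5) ^ 2 = 1 := by
    rcases CfsgLib.SpecLin.SLTwo.mem_center_iff'.1 h5 with e | e <;>
      refine Subtype.ext ?_ <;> rw [sq] <;>
      change ((M ^ 5 : SL2) : M2) * (M ^ 5 : SL2) = (1 : M2) <;> rw [e] <;> simp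
  let N := M ^ 6
  have hN5 : N ^ 5 = 1 := by
    rw [← pow_mul, show 6 * 5 = 5 * 2 * 3 from rfl, pow_mul, pow_mul, hc2, one_pow]
  have hNg : (QuotientGroup.mk N : ProjectiveSpecialLinearGroup (Fin 2) F) = QuotientGroup.mk M := by
    show (QuotientGroup.mk (M ^ 6) : ProjectiveSpecialLinearGroup (Fin 2) F) = _
    rw [pow_succ, QuotientGroup.mk_mul, (QuotientGroup.eq_one_iff _).2 h5, one_mul]
  refine ⟨(N : M2).trace, trace_of_pow_five N.2 (fun s hs => ?_) ?_⟩
  · rw [← hNg, (QuotientGroup.eq_one_iff _).2 (CfsgLib.SpecLin.SLTwo.mem_center_of_scalar hs),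
      orderOf_one] at hg
    omega
  · exact (N.coe_pow 5).symm.trans (congrArg (fun S : SL2 => (S : M2)) hN5)

/-- `A₅ ≤ PSL₂(F)` as soon as `X² + X - 1` has a root. -/
theorem exists_alt_five_psl [Fintype F] {r : F} (hr : r ^ 2 + r - 1 = 0) :
    ∃ f : alternatingGroup (Fin 5) →* ProjectiveSpecialLinearGroup (Fin 2) F, Function.Injective f := by
  obtain ⟨a, b, hab⟩ : ∃ a b : F, a ^ 2 + b ^ 2 - r * a * b + r * b - a + 1 = 0 := by
    by_cases h4 : r ^ 2 = 4
    · refine ⟨-1, -1, ?_⟩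
      have h2r : r = -3 := by linear_combination hr - h4
      have h5 : (5 : F) = 0 := by linear_combination h4 - (r - 3) * h2r
      linear_combination 2 * h5 - 2 * h2r
    · have hD : (4 : F) - r ^ 2 ≠ 0 := sub_ne_zero.2 (Ne.symm h4)
      set a0 := (2 - r ^ 2) / (4 - r ^ 2) with ha0
      set b0 := -r / (4 - r ^ 2) with hb0
      have e1 : 2 * a0 - r * b0 - 1 = 0 := by rw [ha0, hb0]; field_simp; ring
      have e2 : -r * a0 + 2 * b0 + r = 0 := by rw [ha0, hb0]; field_simp; ring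
      obtain ⟨u, v, huv⟩ := CfsgLib.SpecLin.SLTwo.exists_form_eq (-r)
        (Or.inr (by rw [neg_sq]; exact h4))
        (-(a0 ^ 2 + b0 ^ 2 - r * a0 * b0 + r * b0 - a0 + 1))
      exact ⟨a0 + u, b0 + v, by linear_combination huv + u * e1 + v * e2⟩
  let A : SL2 := ⟨!![a, b; b + (1 - a) * r, 1 - a], by
    rw [Matrix.det_fin_two_of]; linear_combination -hab⟩
  let B : SL2 := ⟨!![0, -1; 1, r], by rw [Matrix.det_fin_two_of]; ring⟩
  have hB5 : B ^ 5 = 1 := Subtype.ext (by
    exact (B.coe_pow 5).trans (sl_pow_five B.2 hr (by simp [B, Matrix.trace_fin_two])))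
  have hA3 : A ^ 3 ∈ Subgroup.center SL2 := by
    rw [CfsgLib.SpecLin.SLTwo.mem_center_iff']
    exact Or.inr ((A.coe_pow 3).trans (sl_pow_three A.2 (by simp [A, Matrix.trace_fin_two])))
  have hAB : (QuotientGroup.mk (A * B) : ProjectiveSpecialLinearGroup (Fin 2) F) ^ 2 = 1 :=
    CfsgLib.SpecLin.SLTwo.sq_eq_one_of_trace_eq_zero (by
      show ((A : M2) * (B : M2)).trace = 0
      simp [A, B, Matrix.trace_fin_two])
  have hne : (QuotientGroup.mk B : ProjectiveSpecialLinearGroup (Fin 2) F) ≠ 1 := by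
    rw [Ne, QuotientGroup.eq_one_iff, CfsgLib.SpecLin.SLTwo.mem_center_iff']
    rintro (e | e) <;>
      · have := congrFun (congrFun e 1) 0
        simp [B] at this
  obtain ⟨f, hf, -, -⟩ := exists_hom_alt_five
    (x := (QuotientGroup.mk A : ProjectiveSpecialLinearGroup (Fin 2) F)) (y := QuotientGroup.mk B)
    (by rw [← QuotientGroup.mk_pow]; exact (QuotientGroup.eq_one_iff _).2 hA3)
    (by rw [← QuotientGroup.mk_pow, hB5, QuotientGroup.mk_one])
    (by rw [← QuotientGroup.mk_mul]; exact hAB) hne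
  exact ⟨f, hf⟩

end CfsgLib.PSL2
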