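import Cfsg.Agent.Lib.PSL2.MinimalSimple

/-!
The maximal subgroups of `PGL₂(q)`.
-/

set_option autoImplicit false
set_option linter.unusedSectionVars false

open Matrix

namespace CfsgLib.PSL2

variable {F : Type*} [Field F] [Fintype F]

local notation "PGL" => ProjGenLinGroup (Fin 2) F
local notation "PSL" => ProjectiveSpecialLinearGroup (Fin 2) F

theorem card_pslImage : Nat.card (pslImage F) = Nat.card PSL :=
  (Nat.card_congr pslEquiv.toEquiv).symm

theorem two_mul_card_psl_eq_pgl (hodd : Odd (Fintype.card F)) : 2 * Nat.card PSL = Nat.card PGL := by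
  rw [psl_card_odd hodd, card_pgl]

theorem not_le_pslImage (hodd : Odd (Fintype.card F)) {M : Subgroup PGL} (hM : IsCoatom M)
    (hML : ¬ pslImage F ≤ M) : ¬ M ≤ pslImage F := by
  intro hle
  rcases hle.eq_or_lt with h | h
  · exact hML h.ge
  · have h2 := index_pslImage_odd (F := F) hodd
    rw [hM.2 _ h, Subgroup.index_top] at h2
    omega

theorem eq_of_le_coatom {G : Type*} [Group G] {M T : Subgroup G} (hM : IsCoatom M) (hle : M ≤ T)
    (hT : T ≠ ⊤) : M = T := by
  rcases hle.eq_or_lt with h | h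
  · exact h
  · exact absurd (hM.2 _ h) hT

theorem index_comap_dvd {G G' : Type*} [Group G] [Group G'] (L : Subgroup G') [L.Normal] (f : G →* G') :
    (L.comap f).index ∣ L.index := by
  rw [Subgroup.index_comap]
  exact Subgroup.relIndex_dvd_index_of_normal _ _

/-- A homomorphic image of an alternating group lies in a normal subgroup of index at most two. -/
theorem alternatingGroup_range_le {α : Type*} [Fintype α] [DecidableEq α] {G : Type*} [Group G]
    {L : Subgroup G} [L.Normal] (hL : L.index ∣ 2) (f : alternatingGroup α →* G) : f.range ≤ L := by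
  have h : alternatingGroup α ≤ (L.comap f).map (alternatingGroup α).subtype := by
    refine le_of_eq_of_le Equiv.Perm.closure_three_cycles_eq_alternating.symm ?_
    rw [Subgroup.closure_le]
    intro σ hσ
    refine ⟨⟨σ, Equiv.Perm.IsThreeCycle.mem_alternatingGroup hσ⟩, ?_, rfl⟩
    refine three_cycle_mem ((index_comap_dvd L f).trans hL) (Subtype.ext ?_)
    show σ ^ 3 = 1
    rw [← Equiv.Perm.IsThreeCycle.orderOf hσ, pow_orderOf_eq_one]
  rintro _ ⟨s, rfl⟩
  obtain ⟨t, ht, hts⟩ := h s.2
  rw [← show t = s from Subtype.ext hts]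
  exact ht

theorem le_pslImage_of_alt {α : Type*} [Fintype α] [DecidableEq α] {M : Subgroup PGL}
    (e : M ≃* alternatingGroup α) : M ≤ pslImage F := fun g hg =>
  alternatingGroup_range_le index_pslImage_dvd_two (M.subtype.comp e.symm.toMonoidHom)
    ⟨e ⟨g, hg⟩, by simp⟩

/-- A maximal subgroup defined over a proper subfield is a subfield subgroup of odd prime index. -/
theorem pgl_coatom_defined_over (p : ℕ) [Fact p.Prime] [CharP F p] (hodd : Odd (Fintype.card F))
    {M : Subgroup PGL} (hM : IsCoatom M) (hnle : ¬ M ≤ pslImage F) {K' : Type*} [Field K'] [Fintype K']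
    (j₀ : K' →+* F) {m : ℕ} (hm : Fintype.card K' ^ m = Fintype.card F) (hm1 : 1 < m) {k : PGL}
    (hle : M ≤ (pglSub j₀).map (MulAut.conj k).toMonoidHom) :
    ∃ (K : Type) (_ : Field K) (_ : Fintype K) (j : K →+* F) (r : ℕ) (k : PGL), r.Prime ∧ Odd r ∧
        Fintype.card K ^ r = Fintype.card F ∧ M = (pglSub j).map (MulAut.conj k).toMonoidHom := by
  obtain ⟨r, hr, l, hl⟩ : ∃ r, r.Prime ∧ r ∣ m :=
    ⟨m.minFac, Nat.minFac_prime (by omega), Nat.minFac_dvd m⟩
  have : CharP K' p := (RingHom.charP_iff_charP j₀ p).2 inferInstance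
  obtain ⟨a, -, ha⟩ := FiniteField.card K' p
  have hl0 : l ≠ 0 := by rintro rfl; rw [mul_zero] at hl; omega
  have : Fintype (GaloisField p (a * l)) := Fintype.ofFinite _
  have hK : Fintype.card (GaloisField p (a * l)) = Fintype.card K' ^ l := by
    rw [← Nat.card_eq_fintype_card, GaloisField.card p _ (Nat.mul_ne_zero a.ne_zero hl0), ha, pow_mul]
  have hKr : Fintype.card (GaloisField p (a * l)) ^ r = Fintype.card F := by
    rw [hK, ← pow_mul, mul_comm l r, ← hl, hm]
  obtain ⟨j⟩ := exists_fieldHom hKr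
  have hle' := hle.trans (Subgroup.map_mono (pglSub_le_of_pow j j₀ hK.symm))
  have hne : (pglSub j).map (MulAut.conj k).toMonoidHom ≠ ⊤ := by
    intro et
    have hcj := congrArg (fun H : Subgroup PGL => Nat.card H) et
    simp only [Subgroup.card_top] at hcj
    rw [Subgroup.card_map_of_injective (MulEquiv.injective _), card_pglSub, card_pgl, card_pgl] at hcj
    have hlt : Fintype.card (GaloisField p (a * l)) < Fintype.card F := by
      rw [← hKr]; exact lt_self_pow₀ Fintype.one_lt_card hr.one_lt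
    have h1 := Fintype.one_lt_card (α := GaloisField p (a * l))
    generalize Fintype.card (GaloisField p (a * l)) = s at hcj hlt h1
    generalize Fintype.card F = q at hcj hlt
    have : (s + 1) * (s * (s - 1)) < (q + 1) * (q * (q - 1)) :=
      Nat.mul_lt_mul_of_lt_of_le (by omega) (Nat.mul_le_mul hlt.le (by omega))
        (Nat.mul_pos (by omega) (by omega))
    omega
  have heq' := eq_of_le_coatom hM hle' hne
  rcases hr.eq_two_or_odd' with rfl | hrodd
  · exact absurd (heq'.le.trans
      (map_conj_le_pslImage (pglSub_le_pslImage j hodd hKr even_two) _)) hnle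
  · exact ⟨_, inferInstance, inferInstance, j, r, _, hr, hrodd, hKr, heq'⟩

/-- The structure of the maximal subgroups of `PGL₂(q)` for odd `q`. -/
theorem pgl_coatom_cases [DecidableEq F] (p : ℕ) [Fact p.Prime] [CharP F p]
    (hodd : Odd (Fintype.card F)) (h5 : 5 ≤ Fintype.card F)
    {L : Type*} [Field L] [DecidableEq L] [IsAlgClosed L] [CharP L p] {ι : F →+* L} {Φ : L →+* L}
    (hΦ : ∀ z, Φ z = z ^ Fintype.card F)
    {M : Subgroup PGL} (hM : IsCoatom M) (hML : ¬ pslImage F ≤ M) :
    (∃ x : OnePoint F, M = pglPointStab x) ∨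
    (∃ x y e, IsPair ι Φ x y e ∧ M = pairStab ι x y ∧ ¬ (Fintype.card F = 5 ∧ e = Fintype.card F - 1)) ∨
    (Fintype.card F = p ∧ ¬ IsSquare (2 : F) ∧ ∃ (h2 : (2 : F) ≠ 0) (I J : Matrix (Fin 2) (Fin 2) F)
        (h : QPair I J) (g : PGL), M = (h.normV h2).map (MulAut.conj g).toMonoidHom) ∨
    (∃ (K : Type) (_ : Field K) (_ : Fintype K) (j : K →+* F) (r : ℕ) (k : PGL), r.Prime ∧ Odd r ∧
        Fintype.card K ^ r = Fintype.card F ∧ M = (pglSub j).map (MulAut.conj k).toMonoidHom) := by
  have h2 := two_ne_zero_of_odd hodd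
  have hnle := not_le_pslImage hodd hM hML
  have hMbot : M ≠ ⊥ := fun e => hnle (by rw [e]; exact bot_le)
  have hbig : 30 ≤ Nat.card PSL := card_le_psl (by omega)
  have hpgl := two_mul_card_psl_eq_pgl (F := F) hodd
  have hp2 : p ≠ 2 := by
    rintro rfl
    obtain ⟨n, -, hn⟩ := FiniteField.card F 2
    rw [hn, Nat.odd_pow_iff n.ne_zero] at hodd
    exact absurd hodd (by decide)
  have htop : ∀ T : Subgroup PGL, Nat.card T < Nat.card PGL → T ≠ ⊤ := by
    intro T hT e
    rw [e, Subgroup.card_top] at hT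
    omega
  have hpair : ∀ (C : Subgroup PGL) [IsCyclic C], C ≠ ⊥ → ¬ p ∣ Nat.card C →
      (∀ g ∈ M, ∀ c ∈ C, g * c * g⁻¹ ∈ C) →
      ∃ x y e, IsPair ι Φ x y e ∧ M = pairStab ι x y ∧ ¬ (Fintype.card F = 5 ∧ e = Fintype.card F - 1) := by
    intro C _ hC hpC hn
    obtain ⟨x, y, e, he, -, hle⟩ := exists_pair_of_normalized hΦ p (C := C) (H := M) (ι := ι) hC
      (fun c hc hcp => by
        rcases (Nat.dvd_prime Fact.out).1 (orderOf_dvd_of_pow_eq_one hcp) with e | e
        · exact orderOf_eq_one_iff.1 e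
        · exact absurd (e ▸ (Subgroup.orderOf_mk c hc ▸ orderOf_dvd_natCard _)) hpC) hn
    have hlt : 2 * e < Nat.card PGL := by
      have he' : e ≤ Fintype.card F + 1 := by rcases he with ⟨-, ⟨-, he⟩ | ⟨-, -, -, he⟩⟩ <;> omega
      rw [card_pgl]
      have h4 : 5 * 4 ≤ Fintype.card F * (Fintype.card F - 1) := Nat.mul_le_mul h5 (by omega)
      nlinarith
    have heq := eq_of_le_coatom hM hle (htop _ (by rw [(pairStab_dihedral hΦ he).1]; exact hlt))
    refine ⟨x, y, e, he, heq, ?_⟩
    rintro ⟨h5', he4⟩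
    obtain ⟨I, J, h⟩ := exists_qpair h2
    obtain ⟨σ⟩ := h.normV_equiv_symm h2
    let f : Equiv.Perm (Fin 4) →* PGL := (h.normV h2).subtype.comp σ.symm.toMonoidHom
    have hf : Function.Injective f := (h.normV h2).subtype_injective.comp σ.symm.injective
    let C' := (Subgroup.zpowers (finRotate 4)).map f
    let N := (Subgroup.normalizer (Subgroup.zpowers (finRotate 4) : Set (Equiv.Perm (Fin 4)))).map f
    have hC'c : Nat.card C' = 4 := by
      rw [Subgroup.card_map_of_injective hf, Nat.card_zpowers, orderOf_exception_elements.2.2.1]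
    have hNc : Nat.card N = 8 := by
      rw [Subgroup.card_map_of_injective hf,
        card_normalizer_zpowers (finRotate 4) (n := 4) (by decide) (by norm_num)]
      decide +kernel
    have : IsCyclic C' := (Subgroup.equivMapOfInjective _ f hf).isCyclic.1 inferInstance
    have hp5 : ¬ p ∣ 4 := fun h => hp2 ((Nat.prime_dvd_prime_iff_eq Fact.out Nat.prime_two).1
      ((Fact.out : p.Prime).dvd_of_dvd_pow (n := 2) h))
    obtain ⟨x₁, y₁, e₁, he₁, hC₁, hN₁⟩ := exists_pair_of_normalized hΦ p (C := C') (H := N) (ι := ι)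
      (fun e => by rw [e, Subgroup.card_bot] at hC'c; omega)
      (fun c hc hcp => by
        rcases (Nat.dvd_prime Fact.out).1 (orderOf_dvd_of_pow_eq_one hcp) with e | e
        · exact orderOf_eq_one_iff.1 e
        · exact absurd (e ▸ (Subgroup.orderOf_mk c hc ▸ orderOf_dvd_natCard _)) (hC'c ▸ hp5))
      (by
        rintro _ ⟨g, hg, rfl⟩ _ ⟨c, hc, rfl⟩
        exact ⟨g * c * g⁻¹, (Subgroup.mem_normalizer_iff.1 hg c).1 hc, by simp⟩)
    obtain rfl : e₁ = e := by
      have h4d : 4 ∣ e₁ := hC'c ▸ card_fixStab hΦ he₁ ▸ Subgroup.card_dvd_of_le hC₁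
      rcases he₁ with ⟨-, ⟨-, h1⟩ | ⟨-, -, -, h1⟩⟩
      · omega
      · rw [h1, h5'] at h4d; norm_num at h4d
    have hNeq : N = pairStab ι x₁ y₁ :=
      Subgroup.eq_of_le_of_card_ge hN₁ (by rw [(pairStab_dihedral hΦ he₁).1, hNc]; omega)
    obtain ⟨g, -, hgx, hgy⟩ := exists_pair_conj hΦ he he₁
    have hle' : M ≤ f.range.map (MulAut.conj g⁻¹).toMonoidHom := by
      intro a ha
      rw [heq] at ha
      refine ⟨g * a * g⁻¹, Subgroup.map_le_range f _ (show g * a * g⁻¹ ∈ N by
        rw [hNeq]
        have hgx' : lineHom ι g⁻¹ x₁ = x := by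
          rw [map_inv, Equiv.Perm.coe_inv, Equiv.symm_apply_eq, hgx]
        have hgy' : lineHom ι g⁻¹ y₁ = y := by
          rw [map_inv, Equiv.Perm.coe_inv, Equiv.symm_apply_eq, hgy]
        rcases ha with ⟨h1, h2⟩ | ⟨h1, h2⟩
        · refine Or.inl ⟨?_, ?_⟩ <;> simp only [map_mul, Equiv.Perm.mul_apply]
          · rw [hgx', h1, hgx]
          · rw [hgy', h2, hgy]
        · refine Or.inr ⟨?_, ?_⟩ <;> simp only [map_mul, Equiv.Perm.mul_apply]
          · rw [hgx', h1, hgy]
          · rw [hgy', h2, hgx]), by simp [mul_assoc]⟩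
    have hc24 : Nat.card (f.range.map (MulAut.conj g⁻¹).toMonoidHom) = 24 := by
      rw [Subgroup.card_map_of_injective (MulEquiv.injective _),
        ← Nat.card_congr (MonoidHom.ofInjective hf).toEquiv, Nat.card_perm, Nat.card_fin]; rfl
    have hMeq := eq_of_le_coatom hM hle' (htop _ (by rw [hc24]; omega))
    rw [← hMeq, heq, (pairStab_dihedral hΦ he).1] at hc24
    omega
  rcases dickson p M.subtype M.subtype_injective with
    ⟨x, hx⟩ | h | ⟨C, hi, hC, -⟩ | ⟨⟨e⟩⟩ | ⟨⟨e⟩⟩ | ⟨⟨e⟩⟩ | ⟨S, hS, hiso⟩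
  · refine Or.inl ⟨x, eq_of_le_coatom hM (fun g hg => mem_pglPointStab.2 (hx ⟨g, hg⟩)) fun e => ?_⟩
    have h := index_pglPointStab x
    rw [e, Subgroup.index_top] at h
    omega
  · have : IsCyclic M := h.1
    refine Or.inr (Or.inl (hpair M hMbot (fun hd => ?_)
      fun g hg c hc => mul_mem (mul_mem hg hc) (inv_mem hg)))
    obtain ⟨c, hc⟩ := exists_prime_orderOf_dvd_card' (G := M) p hd
    rw [h.2.1 c (orderOf_dvd_iff_pow_eq_one.1 hc.dvd), orderOf_one] at hc
    exact (Fact.out : p.Prime).ne_one hc.symm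
  · have hn := Subgroup.normal_of_index_eq_two hi
    let D := C.map M.subtype
    have hDc : Nat.card D = Nat.card C := Subgroup.card_map_of_injective M.subtype_injective
    by_cases hC1 : C = ⊥
    · have hMc : Nat.card M = 2 := by
        have h' := hi
        rw [hC1, Subgroup.index_bot] at h'
        exact h'
      have : IsCyclic M := isCyclic_of_prime_card (p := 2) hMc
      exact Or.inr (Or.inl (hpair M hMbot
        (fun hd => hp2 ((Nat.prime_dvd_prime_iff_eq Fact.out Nat.prime_two).1 (hMc ▸ hd)))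
        fun g hg c hc => mul_mem (mul_mem hg hc) (inv_mem hg)))
    have : IsCyclic C := hC.1
    have : IsCyclic D := (Subgroup.equivMapOfInjective C _ M.subtype_injective).isCyclic.1 inferInstance
    refine Or.inr (Or.inl (hpair D
      (fun e => hC1 (by rwa [Subgroup.map_eq_bot_iff_of_injective C M.subtype_injective] at e))
      (fun hd => ?_) ?_))
    · obtain ⟨c, hc⟩ := exists_prime_orderOf_dvd_card' (G := C) p (hDc ▸ hd)
      rw [hC.2.1 c (orderOf_dvd_iff_pow_eq_one.1 hc.dvd), orderOf_one] at hc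
      exact (Fact.out : p.Prime).ne_one hc.symm
    · rintro g hg _ ⟨c, hc, rfl⟩
      exact ⟨(⟨g, hg⟩ : M) * c * (⟨g, hg⟩ : M)⁻¹, hn.conj_mem c hc _, rfl⟩
  · exact absurd (le_pslImage_of_alt e) hnle
  · let f : Equiv.Perm (Fin 4) →* PGL := M.subtype.comp e.symm.toMonoidHom
    have hf : Function.Injective f := M.subtype_injective.comp e.symm.injective
    have hfr : f.range = M := by
      rw [MonoidHom.range_comp, MonoidHom.range_eq_top.2 e.symm.surjective, ← MonoidHom.range_eq_map,
        Subgroup.range_subtype]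
    have h4 : Nat.card (Fin 4) = 4 := Nat.card_fin 4
    have hchar := alternatingGroup.characteristic_kleinFour h4
    have : ((alternatingGroup.kleinFour (Fin 4)).map
        (alternatingGroup (Fin 4)).subtype).Normal := inferInstance
    obtain ⟨n, -, hn⟩ := FiniteField.card F p
    have := n.pos
    let j₀ : ZMod p →+* F := ZMod.castHom dvd_rfl F
    have hj₀ : Fintype.card (ZMod p) ^ (n : ℕ) = Fintype.card F := by rw [ZMod.card, hn]
    have h2p : (2 : ZMod p) ≠ 0 := fun e => h2 (by rw [← map_ofNat j₀ 2, e, map_zero])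
    obtain ⟨I₀, J₀, h₀⟩ := exists_qpair h2p
    obtain ⟨g, hg⟩ := exists_conj_le_normV_of_klein h2 _
      (isKleinFour_map _ (Subgroup.subtype_injective _) (alternatingGroup.kleinFour_isKleinFour h4))
      f hf ((Subgroup.map_mono (Subgroup.map_subtype_le _)).trans
        (alternating_map_le index_pslImage_dvd_two f)) (h₀.map j₀)
    rw [hfr] at hg
    have hc : Nat.card (((h₀.map j₀).normV h2).map (MulAut.conj g).toMonoidHom) = 24 := by
      rw [Subgroup.card_map_of_injective (MulEquiv.injective _), (h₀.map j₀).card_normV h2]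
    have heq := eq_of_le_coatom hM hg (htop _ (by rw [hc]; omega))
    have hsq : ¬ IsSquare (2 : F) := fun hsq => hnle (heq.le.trans
      (map_conj_le_pslImage ((h₀.map j₀).normV_le_pslImage h2 hsq) g))
    rcases Nat.lt_or_ge 1 (n : ℕ) with hn1 | hn1
    · exact Or.inr (Or.inr (Or.inr (pgl_coatom_defined_over p hodd hM hnle j₀ hj₀ hn1
        (hg.trans (Subgroup.map_mono (normV_le_pglSub j₀ h2 h₀))))))
    · exact Or.inr (Or.inr (Or.inl ⟨by rw [hn, show (n : ℕ) = 1 by omega, pow_one], hsq, h2, _, _,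
        h₀.map j₀, g, heq⟩))
  · exact absurd (le_pslImage_of_alt e) hnle
  · classical
    obtain ⟨m, hm0, hm⟩ := exists_degree S.subtype
    rcases Nat.lt_or_ge 1 m with hm1 | hm1
    swap
    · exfalso
      rw [show m = 1 by omega, pow_one] at hm
      have hcS : Nat.card (ProjectiveSpecialLinearGroup (Fin 2) S) = Nat.card PSL := by
        refine Nat.eq_of_mul_eq_mul_left (Nat.gcd_pos_of_pos_left (Fintype.card F - 1) Nat.two_pos) ?_
        rw [card_psl (F := F), ← hm, card_psl (F := S)]
      have hMc : Nat.card M = Nat.card PSL := by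
        rcases hiso with ⟨⟨φ⟩⟩ | ⟨⟨φ⟩⟩ <;> rw [Nat.card_congr φ.toEquiv]
        · exact hcS
        · exfalso
          refine hM.1 (Subgroup.eq_top_of_card_eq _ ?_)
          rw [Nat.card_congr φ.toEquiv, card_pgl, card_pgl, hm]
      have hn : M.Normal := Subgroup.normal_of_index_eq_two (by
        have h := M.card_mul_index
        rw [hMc, ← hpgl] at h
        exact Nat.eq_of_mul_eq_mul_left Nat.card_pos (h.trans (mul_comm _ _)))
      obtain ⟨-, hs, -⟩ := psl_not_solvable (K := F) (by omega)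
      have hn' : (M.comap (ProjectiveSpecialLinearGroup.toPGL (n := Fin 2) (R := F))).Normal := inferInstance
      rcases hn'.eq_bot_or_eq_top with h | h
      · have hinf : M ⊓ pslImage F = ⊥ := by
          rw [inf_comm, ← range_toPGL, ← Subgroup.map_comap_eq, h, Subgroup.map_bot]
        have hle : Nat.card M ≤ 2 := by
          have h1 := (pslImage F).relIndex_dvd_index_of_normal M
          rw [← Subgroup.inf_relIndex_right, inf_comm, hinf, Subgroup.relIndex_bot_left,
            index_pslImage_odd hodd] at h1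
          exact Nat.le_of_dvd Nat.two_pos h1
        omega
      · refine hML ?_
        rw [← range_toPGL, MonoidHom.range_eq_map, Subgroup.map_le_iff_le_comap, h]
    obtain ⟨_, ⟨B, rfl⟩, hB⟩ := hS
    have hle : M ≤ (pglSub S.subtype).map (MulAut.conj (ProjGenLinGroup.mk B)).toMonoidHom := by
      intro x hx
      obtain ⟨A, hA⟩ := hB ⟨x, hx⟩
      refine ⟨ProjGenLinGroup.map S.subtype (ProjGenLinGroup.mk A), ⟨_, rfl⟩, pglPerm_injective ?_⟩
      have e : ∀ C : GL (Fin 2) F, pglPerm F (ProjGenLinGroup.mk C) = CfsgLib.PermSmall.Moebius.glHom F C := fun C =>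
        Equiv.ext fun z => by rw [pglPerm_mk]; rfl
      show pglPerm F (ProjGenLinGroup.mk B * ProjGenLinGroup.map S.subtype (ProjGenLinGroup.mk A) *
        (ProjGenLinGroup.mk B)⁻¹) = _
      rw [map_mul, map_mul, map_inv, ProjGenLinGroup.map_mk, e, e]
      exact hA.symm
    exact Or.inr (Or.inr (Or.inr (pgl_coatom_defined_over p hodd hM hnle S.subtype hm hm1 hle)))

end CfsgLib.PSL2
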