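import Cfsg.Agent.Lib.PSL2.MinimalSimple
import Cfsg.Agent.Lib.PSL2.Involution
import Cfsg.Agent.Classical.SLGen

/-!
Dickson's generation theorem: two transvections generate `SL₂(F_p(λ))`.
-/

set_option autoImplicit false
set_option linter.unusedSectionVars false

open Matrix OnePoint

namespace CfsgLib.PSL2

open CfsgLib.PermSmall.Moebius

variable {F : Type*} [Field F] [Fintype F]

local notation "PGL" => ProjGenLinGroup (Fin 2) F
local notation "PSL" => ProjectiveSpecialLinearGroup (Fin 2) F
local notation "SL2" => SpecialLinearGroup (Fin 2) F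
local notation "M2" => Matrix (Fin 2) (Fin 2) F

theorem sl_coe_mul (A B : SL2) : ((A * B : SL2) : M2) = (A : M2) * (B : M2) := rfl

theorem sl_coe_inv (A : SL2) : ((A⁻¹ : SL2) : M2) = adjugate (A : M2) := rfl

/-- A subgroup of `SL₂` onto `PSL₂` is everything, in odd characteristic. -/
theorem eq_top_of_map_eq_top (h2 : (2 : F) ≠ 0) {G : Subgroup SL2}
    (h : G.map (QuotientGroup.mk' (Subgroup.center SL2)) = ⊤) : G = ⊤ := by
  have : NeZero (2 : F) := ⟨h2⟩
  refine Cfsg.Agent.Classical.sl_subgroup_eq_top_of_transvection_mem G fun i j hij c => ?_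
  have hsq : SpecialLinearGroup.transvection hij (c / 2) * SpecialLinearGroup.transvection hij (c / 2) =
      SpecialLinearGroup.transvection hij c := by
    refine Subtype.ext ?_
    rw [sl_coe_mul, SpecialLinearGroup.transvection_coe, SpecialLinearGroup.transvection_coe,
      add_mul, one_mul, mul_add, mul_one, single_mul_single_of_ne _ _ _ _ hij.symm, add_zero, add_assoc,
      ← single_add, add_halves]
  rw [← hsq]
  set T := SpecialLinearGroup.transvection hij (c / 2)
  obtain ⟨g, hg, hgT⟩ : (QuotientGroup.mk T : PSL) ∈ G.map (QuotientGroup.mk' _) := by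
    rw [h]; trivial
  have hz := QuotientGroup.eq.1 hgT
  have hsq1 : (g⁻¹ * T) * (g⁻¹ * T) = 1 := by
    refine Subtype.ext ?_
    rcases CfsgLib.SpecLin.SLTwo.mem_center_iff'.1 hz with e | e <;>
      show ((g⁻¹ * T : SL2) : M2) * (g⁻¹ * T : SL2) = (1 : M2) <;> rw [e] <;> simp
  have hc : g * (g⁻¹ * T) = (g⁻¹ * T) * g := (Subgroup.mem_center_iff.1 hz g)
  have : T * T = g * g := by
    have e : T = g * (g⁻¹ * T) := by group
    generalize g⁻¹ * T = z at hsq1 hc e
    rw [e, show g * z * (g * z) = g * (z * g) * z by group, ← hc,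
      show g * (g * z) * z = g * g * (z * z) by group, hsq1, mul_one]
  rw [this]
  exact mul_mem hg hg

theorem lower_pow (X : SL2) (hX : (X : M2) = !![1, 0; 1, 1]) (k : ℕ) :
    ((X ^ k : SL2) : M2) = !![1, 0; (k : F), 1] := by
  induction k with
  | zero => ext i j; fin_cases i <;> fin_cases j <;> simp
  | succ k ih =>
    rw [pow_succ, sl_coe_mul, ih, hX]
    ext i j; fin_cases i <;> fin_cases j <;> simp [Matrix.mul_apply, Fin.sum_univ_two]

/-- Squared traces of a group defined over a subfield lie in the subfield. -/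
theorem trace_sq_mem {K : Type*} [Field K] (j : K →+* F) {g : PGL} (A : SL2)
    (h : ProjectiveSpecialLinearGroup.toPGL (QuotientGroup.mk A : PSL) ∈
      ((ProjGenLinGroup.map j : ProjGenLinGroup (Fin 2) K →* PGL).range).map
        (MulAut.conj g).toMonoidHom) : (A : M2).trace ^ 2 ∈ j.fieldRange := by
  obtain ⟨W, rfl⟩ := ProjGenLinGroup.mk_surjective g
  obtain ⟨_, ⟨b, rfl⟩, hb⟩ := h
  induction b using ProjGenLinGroup.induction_on with | mk B =>
  change ProjGenLinGroup.mk W * ProjGenLinGroup.map j (ProjGenLinGroup.mk B) *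
    (ProjGenLinGroup.mk W)⁻¹ = ProjectiveSpecialLinearGroup.toPGL _ at hb
  rw [ProjGenLinGroup.map_mk, ProjectiveSpecialLinearGroup.toPGL_mk, ← map_inv, ← map_mul, ← map_mul] at hb
  have hb' : ProjGenLinGroup.mk (W * GeneralLinearGroup.map j B * W⁻¹) =
      ProjGenLinGroup.mk (SpecialLinearGroup.toGL A) := hb
  rw [ProjGenLinGroup.mk_eq_mk_iff] at hb'
  obtain ⟨u, hu⟩ := hb'
  have e := congrArg Units.val hu
  rw [Units.val_mul, GeneralLinearGroup.coe_scalar, Matrix.scalar_apply,
    ← Matrix.smul_eq_mul_diagonal] at e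
  set M := (W : M2) * (GeneralLinearGroup.map j B : GL (Fin 2) F) * ((W⁻¹ : GL (Fin 2) F) : M2)
  have e' : (u : F) • M = (A : M2) := e
  have hWW : ((W⁻¹ : GL (Fin 2) F) : M2) * W = 1 := by
    rw [← Units.val_mul, inv_mul_cancel, Units.val_one]
  have htr : M.trace = j (B : Matrix (Fin 2) (Fin 2) K).trace := by
    rw [Matrix.trace_mul_cycle, hWW, one_mul]
    simp [Matrix.trace_fin_two]
  have hdet : M.det = j (B : Matrix (Fin 2) (Fin 2) K).det := by
    rw [det_mul, det_mul, mul_comm (W : M2).det, mul_assoc, mul_comm _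
      ((W⁻¹ : GL (Fin 2) F) : M2).det, ← det_mul, hWW, det_one, mul_one]
    simp [Matrix.det_fin_two]
  have h1 := congrArg Matrix.trace e'
  have h2 := congrArg Matrix.det e'
  rw [trace_smul, htr, smul_eq_mul] at h1
  rw [det_smul, hdet, A.2, Fintype.card_fin] at h2
  refine ⟨(B : Matrix (Fin 2) (Fin 2) K).trace ^ 2 / (B : Matrix (Fin 2) (Fin 2) K).det, ?_⟩
  rw [map_div₀, map_pow, div_eq_iff ((map_ne_zero j).2 B.det_ne_zero), ← h1]
  linear_combination -(j (B : Matrix (Fin 2) (Fin 2) K).trace) ^ 2 * h2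

section Generated

variable {lam : F} {X Y : Matrix.SpecialLinearGroup (Fin 2) F}
  (hX : (X : Matrix (Fin 2) (Fin 2) F) = !![1, 0; 1, 1]) (hY : (Y : Matrix (Fin 2) (Fin 2) F) = !![1, lam; 0, 1])
  {G : Subgroup (Matrix.SpecialLinearGroup (Fin 2) F)} (hXG : X ∈ G) (hYG : Y ∈ G)
include hX hY hXG hYG

/-- If the image is defined over a subfield then the subfield is everything. -/
theorem card_eq_of_defined_over (h2 : (2 : F) ≠ 0) (hgen : Subfield.closure ({lam} : Set F) = ⊤)
    {K : Type*} [Field K] [Fintype K] (j : K →+* F) {g : PGL}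
    (hle : (G.map (QuotientGroup.mk' (Subgroup.center SL2))).map ProjectiveSpecialLinearGroup.toPGL ≤
      (pglSub j).map (MulAut.conj g).toMonoidHom) : Fintype.card K = Fintype.card F := by
  have hmem : ∀ A ∈ G, (A : M2).trace ^ 2 ∈ j.fieldRange := fun A hA =>
    trace_sq_mem j A (hle ⟨_, ⟨A, hA, rfl⟩, rfl⟩)
  have h1 := hmem _ (mul_mem hXG hYG)
  have h1' := hmem _ (mul_mem (inv_mem hXG) hYG)
  have e1 : ((X * Y : SL2) : M2).trace = 2 + lam := by
    rw [sl_coe_mul, hX, hY]
    simp [Matrix.trace_fin_two, Matrix.mul_apply, Fin.sum_univ_two]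
    ring
  have e2 : ((X⁻¹ * Y : SL2) : M2).trace = 2 - lam := by
    rw [sl_coe_mul, sl_coe_inv, hX, hY]
    simp [Matrix.adjugate_fin_two, Matrix.trace_fin_two, Matrix.mul_apply, Fin.sum_univ_two]
    ring
  rw [e1] at h1
  rw [e2] at h1'
  have h8 : ((8 : ℕ) : F) ≠ 0 := by
    intro e
    exact mul_ne_zero (mul_ne_zero h2 h2) h2 (by push_cast at e; linear_combination e)
  have hl : lam ∈ j.fieldRange := by
    have h := div_mem (sub_mem h1 h1') (show ((8 : ℕ) : F) ∈ j.fieldRange from natCast_mem _ _)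
    rwa [show ((2 + lam) ^ 2 - (2 - lam) ^ 2) = ((8 : ℕ) : F) * lam by push_cast; ring,
      mul_div_cancel_left₀ _ h8] at h
  have htop : j.fieldRange = ⊤ := by
    rw [eq_top_iff, ← hgen]
    exact Subfield.closure_le.2 (by simpa using hl)
  have hsurj : Function.Surjective j := fun x => by
    have : x ∈ j.fieldRange := by rw [htop]; trivial
    exact this
  exact Fintype.card_congr (Equiv.ofBijective j ⟨j.injective, hsurj⟩)

theorem trichotomy (h2 : (2 : F) ≠ 0) (hlam : lam ≠ 0) (hgen : Subfield.closure ({lam} : Set F) = ⊤) :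
    G = ⊤ ∨ (Fintype.card F = 9 ∧ lam ^ 2 = -1 ∧ Nat.card G = 120) := by
  classical
  obtain ⟨p, hp⟩ := CharP.exists F
  have : Fact p.Prime := ⟨CharP.char_is_prime F p⟩
  obtain ⟨n, -, hn⟩ := FiniteField.card F p
  have hn1 := n.pos
  have hodd : Odd (Fintype.card F) := Nat.odd_iff.2 (CfsgLib.SpecLin.SLTwo.odd_card h2)
  have hp2 : p ≠ 2 := fun e => h2 (by
    have h := CharP.cast_eq_zero F p
    rw [e] at h; exact_mod_cast h)
  set H := G.map (QuotientGroup.mk' (Subgroup.center SL2))
  have hXH : (QuotientGroup.mk X : PSL) ∈ H := ⟨X, hXG, rfl⟩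
  have hX1 : (QuotientGroup.mk X : PSL) ≠ 1 := by
    rw [Ne, QuotientGroup.eq_one_iff, CfsgLib.SpecLin.SLTwo.mem_center_iff', hX]
    rintro (e | e) <;>
      · have := congrFun (congrFun e 1) 0
        simp at this
  have hXp : (QuotientGroup.mk X : PSL) ^ p = 1 := by
    have e : X ^ p = 1 := Subtype.ext (by
      refine (lower_pow X hX p).trans ?_
      rw [CharP.cast_eq_zero]
      ext i j; fin_cases i <;> fin_cases j <;> simp)
    rw [← QuotientGroup.mk_pow, e, QuotientGroup.mk_one]
  have hordX : orderOf (QuotientGroup.mk X : PSL) = p := orderOf_eq_prime hXp hX1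
  have hpH : p ∣ Nat.card H := by
    rw [← hordX, ← Subgroup.orderOf_mk _ hXH]
    exact orderOf_dvd_natCard _
  have htopcase : H = ⊤ → G = ⊤ := eq_top_of_map_eq_top h2
  have hkey : ∀ {K : Type} [Field K] [Fintype K] (j : K →+* F) {g : PGL},
      H.map ProjectiveSpecialLinearGroup.toPGL ≤ (pglSub j).map (MulAut.conj g).toMonoidHom →
      Fintype.card K = Fintype.card F := by
    intro K _ _ j g h
    exact card_eq_of_defined_over hX hY hXG hYG h2 hgen j h
  have htopH : Nat.card PSL ≤ Nat.card H → G = ⊤ := fun h => htopcase (Subgroup.eq_top_of_card_eq _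
    (le_antisymm (Nat.le_of_dvd Nat.card_pos H.card_subgroup_dvd_card) h))
  let j₀ : ZMod p →+* F := ZMod.castHom dvd_rfl F
  have h2p : (2 : ZMod p) ≠ 0 := fun e => h2 (by rw [← map_ofNat j₀ 2, e, map_zero])
  obtain ⟨I₀, J₀, h₀⟩ := exists_qpair h2p
  have hpsl := psl_card_odd (F := F) hodd
  rcases dickson_psl p H with ⟨x, hx⟩ | ⟨k, hk, hs⟩ | ⟨⟨e⟩⟩ | ⟨⟨e⟩⟩ | ⟨⟨e⟩⟩ | ⟨S, hS, hiso⟩
  · exfalso
    have hfix : ∀ A ∈ G, pslPerm F (QuotientGroup.mk A : PSL) x = x := fun A hA => hx _ ⟨A, hA, rfl⟩
    have h1 := hfix X hXG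
    have h3 := hfix Y hYG
    rw [pslPerm_mk] at h1 h3
    cases x with
    | infty => simp [smul_infty_eq_ite, hX] at h1
    | coe z => simp [smul_some_eq_ite, hY, hlam] at h3
  · exfalso
    have hpk := not_dvd_of_dvd_torus p hk
    rcases hs with ⟨-, hc⟩ | ⟨⟨e⟩⟩
    · exact hpk (hc ▸ hpH)
    · rw [Nat.card_congr e.toEquiv, DihedralGroup.nat_card] at hpH
      exact hpk (((Fact.out : p.Prime).dvd_mul.1 hpH).resolve_left
        fun h => hp2 ((Nat.prime_dvd_prime_iff_eq Fact.out Nat.prime_two).1 h))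
  · left
    have hc : Nat.card H = 12 := by rw [Nat.card_congr e.toEquiv, card_alt_four]
    have hp3 : p = 3 := by
      rw [hc] at hpH
      rcases (Fact.out : p.Prime).dvd_mul.1 (show p ∣ 2 ^ 2 * 3 from hpH) with h | h
      · exact absurd ((Nat.prime_dvd_prime_iff_eq Fact.out Nat.prime_two).1
          ((Fact.out : p.Prime).dvd_of_dvd_pow h)) hp2
      · exact (Nat.prime_dvd_prime_iff_eq Fact.out Nat.prime_three).1 h
    let f : alternatingGroup (Fin 4) →* PGL :=
      ProjectiveSpecialLinearGroup.toPGL.comp (H.subtype.comp e.symm.toMonoidHom)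
    have hf : Function.Injective f :=
      ProjectiveSpecialLinearGroup.toPGL_injective.comp (H.subtype_injective.comp e.symm.injective)
    have hfr : f.range = H.map ProjectiveSpecialLinearGroup.toPGL := by
      rw [MonoidHom.range_comp, MonoidHom.range_comp, MonoidHom.range_eq_top.2 e.symm.surjective,
        ← MonoidHom.range_eq_map, Subgroup.range_subtype]
    have := alternatingGroup.normal_kleinFour (Nat.card_fin 4)
    obtain ⟨g, hg⟩ := exists_conj_le_normV h2 _
      (alternatingGroup.kleinFour_isKleinFour (Nat.card_fin 4)) f hf (hfr ▸ map_toPGL_le H) (h₀.map j₀)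
    rw [hfr] at hg
    have hq := hkey j₀ (hg.trans (Subgroup.map_mono (normV_le_pglSub j₀ h2 h₀)))
    rw [ZMod.card] at hq
    rw [← hq, hp3] at hpsl
    exact htopH (by omega)
  · left
    have hc : Nat.card H = 24 := by rw [Nat.card_congr e.toEquiv, Nat.card_perm, Nat.card_fin]; rfl
    have hp3 : p = 3 := by
      rw [hc] at hpH
      rcases (Fact.out : p.Prime).dvd_mul.1 (show p ∣ 2 ^ 3 * 3 from hpH) with h | h
      · exact absurd ((Nat.prime_dvd_prime_iff_eq Fact.out Nat.prime_two).1
          ((Fact.out : p.Prime).dvd_of_dvd_pow h)) hp2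
      · exact (Nat.prime_dvd_prime_iff_eq Fact.out Nat.prime_three).1 h
    have e' := (Subgroup.equivMapOfInjective H _
      ProjectiveSpecialLinearGroup.toPGL_injective).symm.trans e
    let f : Equiv.Perm (Fin 4) →* PGL :=
      (H.map ProjectiveSpecialLinearGroup.toPGL).subtype.comp e'.symm.toMonoidHom
    have hf : Function.Injective f := (Subgroup.subtype_injective _).comp e'.symm.injective
    have hfr : f.range = H.map ProjectiveSpecialLinearGroup.toPGL := by
      rw [MonoidHom.range_comp, MonoidHom.range_eq_top.2 e'.symm.surjective, ← MonoidHom.range_eq_map,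
        Subgroup.range_subtype]
    have hchar := alternatingGroup.characteristic_kleinFour (Nat.card_fin 4)
    have : ((alternatingGroup.kleinFour (Fin 4)).map
        (alternatingGroup (Fin 4)).subtype).Normal := inferInstance
    obtain ⟨g, hg⟩ := exists_conj_le_normV h2 _
      (isKleinFour_map _ (Subgroup.subtype_injective _)
        (alternatingGroup.kleinFour_isKleinFour (Nat.card_fin 4)))
      f hf (hfr ▸ map_toPGL_le H) (h₀.map j₀)
    rw [hfr] at hg
    have hq := hkey j₀ (hg.trans (Subgroup.map_mono (normV_le_pglSub j₀ h2 h₀)))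
    rw [ZMod.card] at hq
    rw [← hq, hp3] at hpsl
    exact htopH (by omega)
  · have hc : Nat.card H = 60 := by rw [Nat.card_congr e.toEquiv, card_alt_five]
    have h5d : 5 ∣ Nat.card PSL := Nat.dvd_trans (by rw [hc]; norm_num) H.card_subgroup_dvd_card
    obtain ⟨rt, hrt⟩ := exists_root_of_five h5d
    by_cases hmem : rt ∈ j₀.fieldRange
    · left
      obtain ⟨g, hg⟩ := alt_five_defined_over h2 e j₀ hrt hmem h₀
      have hq := hkey j₀ hg
      rw [ZMod.card] at hq
      rw [hc] at hpH
      rcases (show p = 3 ∨ p = 5 by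
        rcases (Fact.out : p.Prime).dvd_mul.1 (show p ∣ 2 ^ 2 * (3 * 5) from hpH) with h | h
        · exact absurd ((Nat.prime_dvd_prime_iff_eq Fact.out Nat.prime_two).1
            ((Fact.out : p.Prime).dvd_of_dvd_pow h)) hp2
        · rcases (Fact.out : p.Prime).dvd_mul.1 h with h | h
          · exact Or.inl ((Nat.prime_dvd_prime_iff_eq Fact.out Nat.prime_three).1 h)
          · exact Or.inr ((Nat.prime_dvd_prime_iff_eq Fact.out Nat.prime_five).1 h)) with e3 | e3 <;>
        rw [← hq, e3] at hpsl <;> exact htopH (by omega)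
    right
    have hp3 : p = 3 := by
      rw [hc] at hpH
      rcases (Fact.out : p.Prime).dvd_mul.1 (show p ∣ 2 ^ 2 * (3 * 5) from hpH) with h | h
      · exact absurd ((Nat.prime_dvd_prime_iff_eq Fact.out Nat.prime_two).1
          ((Fact.out : p.Prime).dvd_of_dvd_pow h)) hp2
      rcases (Fact.out : p.Prime).dvd_mul.1 h with h | h
      · exact (Nat.prime_dvd_prime_iff_eq Fact.out Nat.prime_three).1 h
      · exfalso
        have hp5 := (Nat.prime_dvd_prime_iff_eq Fact.out Nat.prime_five).1 h
        subst hp5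
        refine hmem ?_
        rcases mul_eq_zero.1 (show (rt - 2) * (rt + 3) = 0 by
          have h5 : (5 : F) = 0 := by exact_mod_cast CharP.cast_eq_zero F 5
          linear_combination hrt - h5) with e' | e'
        · exact ⟨2, by rw [map_ofNat]; exact (sub_eq_zero.1 e').symm⟩
        · exact ⟨-3, by rw [map_neg, map_ofNat]; linear_combination -e'⟩
    subst hp3
    have h3 : (3 : F) = 0 := by exact_mod_cast CharP.cast_eq_zero F 3
    have hrt1 : rt ^ 3 = -(rt + 1) := by linear_combination (rt - 1) * hrt + rt * h3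
    have hrt2 : rt ^ 3 ^ 2 = rt := by
      rw [show (3 : ℕ) ^ 2 = 3 * 3 from rfl, pow_mul, hrt1]
      linear_combination -hrt1 - (rt ^ 2 + rt) * h3
    obtain ⟨l, hl⟩ : ∃ l, (n : ℕ) = 2 * l := by
      rcases Nat.even_or_odd (n : ℕ) with ⟨l, hl⟩ | ⟨l, hl⟩
      · exact ⟨l, by omega⟩
      · exfalso
        have hpow : ∀ i, rt ^ (3 ^ 2) ^ i = rt := fun i => by
          induction i with
          | zero => simp
          | succ i ih => rw [pow_succ, pow_mul, ih, hrt2]
        have hfix := FiniteField.pow_card rt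
        rw [hn, hl, pow_succ, pow_mul 3 2 l, pow_mul rt, hpow] at hfix
        exact hmem (mem_fieldRange_of_pow j₀ (by rwa [ZMod.card]))
    have : Fintype (GaloisField 3 2) := Fintype.ofFinite _
    have hK : Fintype.card (GaloisField 3 2) = 3 ^ 2 := by
      rw [← Nat.card_eq_fintype_card, GaloisField.card 3 2 two_ne_zero]
    obtain ⟨j⟩ := exists_fieldHom (F := F) (K := GaloisField 3 2) (m := l)
      (by rw [hK, hn, ← pow_mul, hl])
    obtain ⟨I₁, J₁, h₁⟩ := exists_qpair (F := GaloisField 3 2)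
      (fun e => h2 (by rw [← map_ofNat j 2, e, map_zero]))
    obtain ⟨g, hg⟩ := alt_five_defined_over h2 e j hrt
      (mem_fieldRange_of_pow j (by rw [hK]; exact hrt2)) h₁
    have hq := hkey j hg
    rw [hK] at hq
    have hl9 := FiniteField.pow_card lam
    rw [← hq] at hl9
    norm_num at hl9
    have hneg : (-1 : SL2) ∈ G := by
      obtain ⟨g₂, hg₂⟩ := exists_prime_orderOf_dvd_card' (G := H) (hp := ⟨Nat.prime_two⟩) 2
        (by rw [hc]; norm_num)
      obtain ⟨A, hA, hAe⟩ := g₂.2
      have hordA : orderOf (QuotientGroup.mk A : PSL) = 2 := by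
        rw [show (QuotientGroup.mk A : PSL) = (g₂ : PSL) from hAe, Subgroup.orderOf_coe, hg₂]
      obtain ⟨hAA, -, -⟩ := lift_orderOf_two h2 hordA
      have : A * A = -1 := Subtype.ext (hAA.trans (by simp))
      exact this ▸ mul_mem hA hA
    refine ⟨hq.symm, ?_, ?_⟩
    · by_contra hne
      have h0 : lam ^ 9 - lam = 0 := sub_eq_zero.2 hl9
      have hnot3 : lam ^ 3 - lam ≠ 0 := by
        intro h0
        have hlm : lam ∈ j₀.fieldRange :=
          mem_fieldRange_of_pow j₀ (by rw [ZMod.card]; exact sub_eq_zero.1 h0)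
        have htop : j₀.fieldRange = ⊤ := by
          rw [eq_top_iff, ← hgen]
          exact Subfield.closure_le.2 (by simpa using hlm)
        exact hmem (by rw [htop]; trivial)
      have key : (lam ^ 3 - lam) * ((lam ^ 2 + 1) * ((lam ^ 2 + lam - 1) * (lam ^ 2 - lam - 1))) = 0 := by
        linear_combination h0 - (lam ^ 7 - lam ^ 3) * h3
      obtain ⟨A, hA, hAt⟩ : ∃ A ∈ G, (A : M2).trace ^ 2 = -1 := by
        rcases mul_eq_zero.1 ((mul_eq_zero.1 key).resolve_left hnot3) with e1 | e1
        · exact absurd (eq_neg_of_add_eq_zero_left e1) hne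
        rcases mul_eq_zero.1 e1 with e2 | e2
        · refine ⟨_, mul_mem hXG hYG, ?_⟩
          rw [sl_coe_mul, hX, hY]
          simp [Matrix.trace_fin_two, Matrix.mul_apply, Fin.sum_univ_two]
          linear_combination e2 + (lam + 2) * h3
        · refine ⟨_, mul_mem (inv_mem hXG) hYG, ?_⟩
          rw [sl_coe_mul, sl_coe_inv, hX, hY]
          simp [Matrix.adjugate_fin_two, Matrix.trace_fin_two, Matrix.mul_apply, Fin.sum_univ_two]
          linear_combination e2 + (2 - lam) * h3
      have hns : ∀ s : F, (A : M2) ≠ s • 1 := by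
        intro s hs
        have hd : s * s = 1 := by
          have h' := A.2
          rw [hs, det_smul, det_one, Fintype.card_fin, mul_one, sq] at h'
          exact h'
        rw [hs, trace_smul, trace_one, Fintype.card_fin, smul_eq_mul] at hAt
        push_cast at hAt
        exact h2 (by linear_combination hAt - 4 * hd + (-1 : F) * h3)
      have hsq := CfsgLib.SpecLin.SLTwo.sq_eq (A : M2) A.2
      set t := (A : M2).trace
      have hA2 : (A : M2) ^ 2 = t • (A : M2) - (1 : F) • (1 : M2) := by rw [sq, hsq, one_smul]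
      have hA4 : (A : M2) ^ 4 = -1 := by
        rw [show (A : M2) ^ 4 = (A : M2) ^ 2 * (A : M2) ^ 2 from pow_add _ 2 2, hA2]
        simp only [sub_mul, mul_sub, smul_mul_assoc, mul_smul_comm, one_mul, mul_one,
          show (A : M2) * A = t • (A : M2) - (1 : F) • (1 : M2) by rw [one_smul]; exact hsq]
        match_scalars
        · linear_combination t * hAt - t * h3
        · linear_combination -hAt + h3
      have hgA : (⟨QuotientGroup.mk A, ⟨A, hA, rfl⟩⟩ : H) ^ 4 = 1 := Subtype.ext (by
        show (QuotientGroup.mk A : PSL) ^ 4 = 1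
        rw [← QuotientGroup.mk_pow, QuotientGroup.eq_one_iff, CfsgLib.SpecLin.SLTwo.mem_center_iff']
        exact Or.inr ((A.coe_pow 4).trans hA4))
      have hgA2 : (⟨QuotientGroup.mk A, ⟨A, hA, rfl⟩⟩ : H) ^ 2 ≠ 1 := by
        intro hh
        have hh' : (QuotientGroup.mk A : PSL) ^ 2 = 1 := congrArg Subtype.val hh
        rw [← QuotientGroup.mk_pow, QuotientGroup.eq_one_iff, CfsgLib.SpecLin.SLTwo.mem_center_iff'] at hh'
        have ht0 : t ≠ 0 := fun e => by
          rw [e] at hAt
          exact one_ne_zero (show (1 : F) = 0 by linear_combination hAt)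
        rcases hh' with e1 | e1 <;> rw [show ((A ^ 2 : SL2) : M2) = (A : M2) ^ 2 from A.coe_pow 2, hA2] at e1
        · refine hns (t⁻¹ * 2) ?_
          rw [← smul_smul, show (2 : F) • (1 : M2) = t • (A : M2) by
            rw [sub_eq_iff_eq_add.1 e1, two_smul, one_smul], inv_smul_smul₀ ht0]
        · refine hns 0 ?_
          rw [one_smul, sub_eq_iff_eq_add, neg_add_cancel] at e1
          rw [zero_smul, (smul_eq_zero.1 e1).resolve_left ht0]
      set a : H := ⟨QuotientGroup.mk A, ⟨A, hA, rfl⟩⟩
      have ha4 : e a ^ 4 = 1 := by rw [← map_pow, hgA, map_one]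
      have ha2 : e a ^ 2 ≠ 1 := by rw [← map_pow, Ne, map_eq_one_iff _ e.injective]; exact hgA2
      rcases alt_five_spectrum (e a) with hh | hh | hh
      · exact ha2 hh
      · exact ha2 (by
          rw [show e a ^ 4 = e a ^ 3 * e a from pow_succ _ 3, hh, one_mul] at ha4
          rw [ha4, one_pow])
      · exact ha2 (by
          rw [show e a ^ 5 = e a ^ 4 * e a from pow_succ _ 4, ha4, one_mul] at hh
          rw [hh, one_pow])
    · let π : G →* PSL := (QuotientGroup.mk' (Subgroup.center SL2)).comp G.subtype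
      have hrange : π.range = H := by
        rw [MonoidHom.range_comp, Subgroup.range_subtype]
      have hkc : Nat.card π.ker = 2 := by
        refine (Nat.card_congr
          { toFun := fun z => (⟨z.1.1, (QuotientGroup.eq_one_iff _).1 z.2⟩ : Subgroup.center SL2)
            invFun := fun z => ⟨⟨z.1, by
              rcases CfsgLib.SpecLin.SLTwo.mem_center_iff'.1 z.2 with e | e
              · rw [show z.1 = 1 from Subtype.ext e]; exact one_mem G
              · rw [show z.1 = -1 from Subtype.ext (e.trans (by simp))]; exact hneg⟩,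
              (QuotientGroup.eq_one_iff _).2 z.2⟩
            left_inv := fun z => rfl
            right_inv := fun z => rfl }).trans (card_center_sl h2)
      rw [← π.ker.card_mul_index, Subgroup.index_ker, hrange, hc, hkc]
  · left
    obtain ⟨k, hk⟩ := exists_conj_le_of_definedOver hS
    have hq := card_eq_of_defined_over hX hY hXG hYG h2 hgen S.subtype hk
    exact htopcase (eq_top_of_model hq hiso)

/-- For `q = 9`, `λ² = -1`, the image has order at most 60. -/
theorem card_map_le_sixty (h2 : (2 : F) ≠ 0) (hq : Fintype.card F = 9) (hl : lam ^ 2 = -1)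
    (hG : G = Subgroup.closure {X, Y}) :
    Nat.card (G.map (QuotientGroup.mk' (Subgroup.center SL2))) ≤ 60 := by
  classical
  have h3 : (3 : F) = 0 := by
    have h9 : ((9 : ℕ) : F) = 0 := hq ▸ Nat.cast_card_eq_zero F
    push_cast at h9
    exact pow_eq_zero_iff two_ne_zero |>.1 (show (3 : F) ^ 2 = 0 by linear_combination h9)
  set x : PSL := QuotientGroup.mk X
  set w : PSL := QuotientGroup.mk (X * Y)
  have htw : ((X * Y : SL2) : M2).trace = lam - 1 := by
    rw [sl_coe_mul, hX, hY]
    simp [Matrix.trace_fin_two, Matrix.mul_apply, Fin.sum_univ_two]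
    linear_combination h3
  have hroot : (1 - lam) ^ 2 + (1 - lam) - 1 = 0 := by linear_combination hl - lam * h3
  have hw5 : w ^ 5 = 1 := by
    rw [← QuotientGroup.mk_pow, QuotientGroup.eq_one_iff, CfsgLib.SpecLin.SLTwo.mem_center_iff']
    refine Or.inr (((X * Y).coe_pow 5).trans ?_)
    have h' := sl_pow_five (A := -((X * Y : SL2) : M2)) (by rw [Matrix.det_neg]; simp [(X * Y).2]) hroot
      (by rw [Matrix.trace_neg, htw]; ring)
    rw [Odd.neg_pow (by decide : Odd 5)] at h'
    rw [← h', neg_neg]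
  have hx3 : x ^ 3 = 1 := by
    have e : X ^ 3 = 1 := Subtype.ext (by
      refine (lower_pow X hX 3).trans ?_
      rw [show ((3 : ℕ) : F) = 0 by exact_mod_cast h3]
      ext i j; fin_cases i <;> fin_cases j <;> simp)
    rw [← QuotientGroup.mk_pow, e, QuotientGroup.mk_one]
  have hy5 : (w ^ 2) ^ 5 = 1 := by rw [← pow_mul, mul_comm, pow_mul, hw5, one_pow]
  have hxy : (x * w ^ 2) ^ 2 = 1 := by
    show ((QuotientGroup.mk X : PSL) * (QuotientGroup.mk (X * Y) : PSL) ^ 2) ^ 2 = 1
    rw [← QuotientGroup.mk_pow, ← QuotientGroup.mk_mul]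
    refine CfsgLib.SpecLin.SLTwo.sq_eq_one_of_trace_eq_zero ?_
    rw [sl_coe_mul, sq, sl_coe_mul, sl_coe_mul, hX, hY]
    simp [Matrix.trace_fin_two, Matrix.mul_apply, Fin.sum_univ_two]
    linear_combination 2 * hl + (2 * lam) * h3
  have hne : w ^ 2 ≠ 1 := by
    intro e
    have hw1 : w = 1 := by
      have : w ^ 5 = (w ^ 2) ^ 2 * w := by rw [← pow_mul, ← pow_succ]
      rw [hw5, e, one_pow, one_mul] at this
      exact this.symm
    rw [QuotientGroup.eq_one_iff, CfsgLib.SpecLin.SLTwo.mem_center_iff', sl_coe_mul,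
      hX, hY] at hw1
    rcases hw1 with e1 | e1 <;>
      · have := congrFun (congrFun e1 1) 0
        simp [Matrix.mul_apply, Fin.sum_univ_two] at this
  obtain ⟨f, hf, hfx, hfy⟩ := exists_hom_alt_five hx3 hy5 hxy hne
  have hw : w ∈ f.range := by
    rw [show w = (w ^ 2) ^ 3 by rw [← pow_mul, show 2 * 3 = 5 + 1 from rfl, pow_succ, hw5, one_mul]]
    exact pow_mem (show w ^ 2 ∈ f.range from ⟨_, hfy⟩) 3
  have hle : G.map (QuotientGroup.mk' (Subgroup.center SL2)) ≤ f.range := by
    rw [hG, MonoidHom.map_closure, Subgroup.closure_le]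
    rintro _ ⟨A, rfl | rfl, rfl⟩
    · exact ⟨_, hfx⟩
    · have : (QuotientGroup.mk A : PSL) = x⁻¹ * w := by
        show _ = (QuotientGroup.mk X : PSL)⁻¹ * QuotientGroup.mk (X * A)
        rw [QuotientGroup.mk_mul, inv_mul_cancel_left]
      show (QuotientGroup.mk A : PSL) ∈ f.range
      rw [this]
      exact mul_mem (inv_mem ⟨_, hfx⟩) hw
  refine (Subgroup.card_le_of_le hle).trans ?_
  rw [← Nat.card_congr (MonoidHom.ofInjective hf).toEquiv, card_alt_five]

end Generated

end CfsgLib.PSL2
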