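import Cfsg.Agent.Lib.PSL2.AltFiveDescent

/-!
Maximal subgroups of `PSL₂(q)` with a cyclic normal subgroup, and the small exceptions.
-/

set_option autoImplicit false
set_option linter.unusedSectionVars false

open Matrix OnePoint

namespace CfsgLib.PSL2

open CfsgLib.PermSmall.Moebius

section Generic

theorem mem_normalizer_zpowers {G : Type*} [Group G] [Finite G] (c g : G) :
    g ∈ Subgroup.normalizer (Subgroup.zpowers c : Set G) ↔ g * c * g⁻¹ ∈ Subgroup.zpowers c := by
  rw [mem_normalizer_iff_map_eq, MonoidHom.map_zpowers]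
  constructor
  · intro h
    rw [← h]
    exact Subgroup.mem_zpowers _
  · intro h
    refine Subgroup.eq_of_le_of_card_ge (Subgroup.zpowers_le.2 h) ?_
    rw [Nat.card_zpowers, Nat.card_zpowers,
      orderOf_injective _ (MulEquiv.injective (MulAut.conj g)) c]

theorem card_normalizer_zpowers {G : Type*} [Group G] [Fintype G] [DecidableEq G] (c : G) {n : ℕ}
    (hn : c ^ n = 1) (hn0 : 0 < n) :
    Nat.card (Subgroup.normalizer (Subgroup.zpowers c : Set G)) =
      Fintype.card {g : G // ∃ i : Fin n, g * c * g⁻¹ = c ^ (i : ℕ)} := by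
  rw [← Nat.card_eq_fintype_card]
  refine Nat.card_congr (Equiv.subtypeEquivRight fun g => ?_)
  rw [mem_normalizer_zpowers]
  constructor
  · intro h
    obtain ⟨i, hi⟩ := mem_powers_iff_mem_zpowers.2 h
    exact ⟨⟨i % n, Nat.mod_lt _ hn0⟩, by rw [← hi]; exact pow_eq_pow_mod i hn⟩
  · rintro ⟨i, hi⟩
    rw [hi]
    exact pow_mem (Subgroup.mem_zpowers c) _

end Generic

variable {F : Type*} [Field F] [Fintype F]

local notation "PGL" => ProjGenLinGroup (Fin 2) F
local notation "PSL" => ProjectiveSpecialLinearGroup (Fin 2) F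

/-- A group with a normal Klein four-subgroup lying in `PSL₂` is conjugate into `normV`. -/
theorem exists_conj_le_normV_of_klein (h2 : (2 : F) ≠ 0) {G : Type*} [Group G] (K : Subgroup G) [hKn : K.Normal]
    (hK : IsKleinFour K) (f : G →* PGL) (hf : Function.Injective f) (hle : K.map f ≤ pslImage F)
    {I J : Matrix (Fin 2) (Fin 2) F} (h : QPair I J) :
    ∃ g : PGL, f.range ≤ (h.normV h2).map (MulAut.conj g).toMonoidHom := by
  obtain ⟨g, hg⟩ := klein_conj h2 h hle (isKleinFour_map f hf hK)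
  refine ⟨g, ?_⟩
  rintro _ ⟨s, rfl⟩
  refine ⟨g⁻¹ * f s * g, ?_, by simp [mul_assoc]⟩
  show g⁻¹ * f s * g ∈ Subgroup.normalizer _
  rw [mem_normalizer_iff_map_eq]
  have hs : (K.map f).map (MulAut.conj (f s)).toMonoidHom = K.map f := by
    rw [Subgroup.map_map,
      show (MulAut.conj (f s)).toMonoidHom.comp f = f.comp (MulAut.conj s).toMonoidHom by ext; simp,
      ← Subgroup.map_map, (mem_normalizer_iff_map_eq K s).1
        (by rw [Subgroup.normalizer_eq_top_iff.2 hKn]; trivial)]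
  rw [← conj_map_map, ← conj_map_map, ← hg, hs, hg, conj_map_map, inv_mul_cancel]
  ext x; simp

/-- A group with a normal Klein four-subgroup is conjugate into `normV`. -/
theorem exists_conj_le_normV (h2 : (2 : F) ≠ 0) {G : Type*} [Group G] (K : Subgroup G) [hKn : K.Normal]
    (hK : IsKleinFour K) (f : G →* PGL) (hf : Function.Injective f) (hle : f.range ≤ pslImage F)
    {I J : Matrix (Fin 2) (Fin 2) F} (h : QPair I J) :
    ∃ g : PGL, f.range ≤ (h.normV h2).map (MulAut.conj g).toMonoidHom :=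
  exists_conj_le_normV_of_klein h2 K hK f hf ((Subgroup.map_le_range f K).trans hle) h

variable [DecidableEq F] {L : Type*} [Field L] [DecidableEq L] [IsAlgClosed L] {ι : F →+* L}
  {Φ : L →+* L} (hΦ : ∀ z, Φ z = z ^ Fintype.card F)
include hΦ

/-- A normalised cyclic `p'`-subgroup lies in a pair stabiliser. -/
theorem exists_pslPair_of_normalized (p : ℕ) [Fact p.Prime] [CharP L p] {C N : Subgroup PSL}
    [IsCyclic C] (hC : C ≠ ⊥) (hp : ¬ p ∣ Nat.card C)
    (hn : N ≤ Subgroup.normalizer (C : Set PSL)) :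
    ∃ x y e, IsPair ι Φ x y e ∧ C ≤ pslFix ι x y ∧ N ≤ pslPair ι x y := by
  let C' := C.map ProjectiveSpecialLinearGroup.toPGL
  have hinj := ProjectiveSpecialLinearGroup.toPGL_injective (n := Fin 2) (R := F)
  have : IsCyclic C' := (Subgroup.equivMapOfInjective C _ hinj).isCyclic.1 inferInstance
  obtain ⟨x, y, e, he, h1, h2⟩ := exists_pair_of_normalized hΦ p (C := C')
    (H := N.map ProjectiveSpecialLinearGroup.toPGL) (ι := ι)
    (fun e => hC (by rwa [Subgroup.map_eq_bot_iff_of_injective C hinj] at e))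
    (by
      rintro _ ⟨c, hc, rfl⟩ h
      rw [← map_pow, ← map_one (ProjectiveSpecialLinearGroup.toPGL (n := Fin 2) (R := F))] at h
      have h' : c ^ p = 1 := hinj h
      rcases (Nat.dvd_prime Fact.out).1 (orderOf_dvd_of_pow_eq_one h') with e | e
      · rw [orderOf_eq_one_iff.1 e, map_one]
      · exact absurd (e ▸ (Subgroup.orderOf_mk c hc ▸ orderOf_dvd_natCard _)) hp)
    (by
      rintro _ ⟨g, hg, rfl⟩ _ ⟨c, hc, rfl⟩
      exact ⟨g * c * g⁻¹, (Subgroup.mem_normalizer_iff.1 (hn hg) c).1 hc, by simp⟩)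
  exact ⟨x, y, e, he, fun c hc => h1 ⟨c, hc, rfl⟩, fun g hg => h2 ⟨g, hg, rfl⟩⟩

theorem pslPair_ne_top {x y : OnePoint L} {e : ℕ} (h : IsPair ι Φ x y e) (h3 : 3 < Fintype.card F) :
    pslPair ι x y ≠ ⊤ := by
  intro htop
  have h1 := (pslPair_dihedral hΦ h).1
  rw [htop, Subgroup.card_top] at h1
  have h2 := card_psl (F := F)
  rw [h1] at h2
  have hd := Nat.div_mul_le_self e (Nat.gcd 2 (Fintype.card F - 1))
  have h4 : 4 * 3 ≤ Fintype.card F * (Fintype.card F - 1) := Nat.mul_le_mul (by omega) (by omega)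
  have he : e ≤ Fintype.card F + 1 := by rcases h with ⟨-, ⟨-, he⟩ | ⟨-, -, -, he⟩⟩ <;> omega
  nlinarith

theorem map_pslPair_eq {x y x₁ y₁ : OnePoint L} {e : ℕ} (h : IsPair ι Φ x y e)
    (h' : IsPair ι Φ x₁ y₁ e) :
    ∃ g : PGL, (pslPair ι x y).map (pslConj g).toMonoidHom = pslPair ι x₁ y₁ := by
  obtain ⟨g, -, hgx, hgy⟩ := exists_pair_conj hΦ h h'
  refine ⟨g, Subgroup.eq_of_le_of_card_ge ?_ ?_⟩
  · rintro _ ⟨a, ha, rfl⟩
    show ProjectiveSpecialLinearGroup.toPGL (pslConj g a) ∈ pairStab ι x₁ y₁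
    rw [toPGL_pslConj]
    have hgx' : lineHom ι g⁻¹ x₁ = x := by
      rw [map_inv, Equiv.Perm.coe_inv, Equiv.symm_apply_eq, hgx]
    have hgy' : lineHom ι g⁻¹ y₁ = y := by
      rw [map_inv, Equiv.Perm.coe_inv, Equiv.symm_apply_eq, hgy]
    rcases ha with ⟨h1, h2⟩ | ⟨h1, h2⟩
    · refine Or.inl ⟨?_, ?_⟩ <;> simp only [map_mul, Equiv.Perm.mul_apply]
      · rw [hgx', h1, hgx]
      · rw [hgy', h2, hgy]
    · refine Or.inr ⟨?_, ?_⟩ <;> simp only [map_mul, Equiv.Perm.mul_apply]
      · rw [hgx', h1, hgy]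
      · rw [hgy', h2, hgx]
  · rw [Subgroup.card_map_of_injective (pslConj g).injective, (pslPair_dihedral hΦ h).1,
      (pslPair_dihedral hΦ h').1]

/-- Pair stabilisers swallowed by a small exceptional subgroup are not maximal. -/
theorem not_coatom_pslPair (p : ℕ) [Fact p.Prime] [CharP L p] {x y : OnePoint L} {e e' : ℕ}
    (h : IsPair ι Φ x y e)
    (hee : e = Fintype.card F - 1 ∧ e' = Fintype.card F + 1 ∨
      e = Fintype.card F + 1 ∧ e' = Fintype.card F - 1)
    {G : Type*} [Group G] [Fintype G] [DecidableEq G] (f : G →* PSL) (hf : Function.Injective f)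
    (c : G) (n k : ℕ) (hn : orderOf c = n) (hn1 : 1 < n) (hpn : ¬ p ∣ n)
    (hne : ¬ n ∣ e' / Nat.gcd 2 (Fintype.card F - 1))
    (hk : Fintype.card {g : G // ∃ i : Fin n, g * c * g⁻¹ = c ^ (i : ℕ)} = k)
    (hke : k = 2 * (e / Nat.gcd 2 (Fintype.card F - 1))) (hG : k < Fintype.card G)
    (hG' : Fintype.card G < Nat.card PSL) : ¬ IsCoatom (pslPair ι x y) := by
  intro hco
  let C := (Subgroup.zpowers c).map f
  let N := (Subgroup.normalizer (Subgroup.zpowers c : Set G)).map f
  have hCc : Nat.card C = n := by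
    rw [Subgroup.card_map_of_injective hf, Nat.card_zpowers, hn]
  have hNc : Nat.card N = k := by
    rw [Subgroup.card_map_of_injective hf,
      card_normalizer_zpowers c (n := n) (by rw [← hn]; exact pow_orderOf_eq_one c) (by omega), hk]
  have : IsCyclic C := (Subgroup.equivMapOfInjective _ f hf).isCyclic.1 inferInstance
  obtain ⟨x₁, y₁, e₁, he₁, hCle, hNle⟩ := exists_pslPair_of_normalized hΦ p (C := C) (N := N) (ι := ι)
    (fun e => by rw [e, Subgroup.card_bot] at hCc; omega) (by rwa [hCc])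
    (by
      rintro _ ⟨g, hg, rfl⟩
      rw [mem_normalizer_iff_map_eq, Subgroup.map_map,
        show (MulAut.conj (f g)).toMonoidHom.comp f = f.comp (MulAut.conj g).toMonoidHom by ext; simp,
        ← Subgroup.map_map, (mem_normalizer_iff_map_eq _ g).1 hg])
  obtain rfl : e₁ = e := by
    by_contra hne'
    have he' : e₁ = e' := by
      rcases he₁ with ⟨-, ⟨-, h1⟩ | ⟨-, -, -, h1⟩⟩ <;> rcases hee with ⟨a, b⟩ | ⟨a, b⟩ <;> omega
    refine hne ?_
    rw [← hCc, ← he', ← card_pslFix hΦ he₁]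
    exact Subgroup.card_dvd_of_le hCle
  have hNeq : N = pslPair ι x₁ y₁ :=
    Subgroup.eq_of_le_of_card_ge hNle (by rw [(pslPair_dihedral hΦ he₁).1, hNc, hke])
  obtain ⟨g, hg⟩ := map_pslPair_eq hΦ h he₁
  rw [← isCoatom_map_iff (pslConj g), hg, ← hNeq] at hco
  have hlt : N < f.range := by
    refine lt_of_le_of_ne (Subgroup.map_le_range _ _) fun e => ?_
    rw [e, ← Nat.card_congr (MonoidHom.ofInjective hf).toEquiv, Nat.card_eq_fintype_card] at hNc
    omega
  have htop := congrArg (fun H : Subgroup PSL => Nat.card H) (hco.2 _ hlt)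
  simp only [Subgroup.card_top] at htop
  rw [← Nat.card_congr (MonoidHom.ofInjective hf).toEquiv, Nat.card_eq_fintype_card] at htop
  omega

end CfsgLib.PSL2
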