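import Cfsg.Agent.Lib.PSL2.CoatomPair

/-!
Maximal subgroups of `PSL₂(q)` of torus type.
-/

set_option autoImplicit false
set_option linter.unusedSectionVars false

open Matrix

namespace CfsgLib.PSL2

variable {F : Type*} [Field F] [Fintype F]

local notation "PSL" => ProjectiveSpecialLinearGroup (Fin 2) F

theorem card_le_psl (h4 : 4 ≤ Fintype.card F) : 30 ≤ Nat.card PSL := by
  have h := card_psl (F := F)
  have hm : (4 + 1) * (4 * (4 - 1)) ≤ (Fintype.card F + 1) * (Fintype.card F * (Fintype.card F - 1)) :=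
    Nat.mul_le_mul (by omega) (Nat.mul_le_mul h4 (by omega))
  have h2 := Nat.mul_le_mul_right (Nat.card PSL) (Nat.gcd_le_left (Fintype.card F - 1) Nat.two_pos)
  omega

theorem four_dvd_psl (h4 : 4 ≤ Fintype.card F) : 4 ∣ Nat.card PSL := by
  obtain ⟨p, hp⟩ := CharP.exists F
  have : Fact p.Prime := ⟨CharP.char_is_prime F p⟩
  obtain ⟨n, -, hn⟩ := FiniteField.card F p
  have h := card_psl (F := F)
  rcases Nat.even_or_odd (Fintype.card F) with he | ho
  · rw [gcd_eq_one he, one_mul] at h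
    rw [h]
    refine ((Nat.dvd_trans ?_ (dvd_mul_right _ _)).mul_left _)
    have hp2 : p = 2 := ((Nat.prime_dvd_prime_iff_eq Nat.prime_two Fact.out).1
      (Nat.prime_two.dvd_of_dvd_pow (hn ▸ even_iff_two_dvd.1 he))).symm
    rw [hn, hp2] at h4 ⊢
    have : 1 < (n : ℕ) := by
      by_contra hle
      have := Nat.pow_le_pow_right Nat.two_pos (show (n : ℕ) ≤ 1 by omega)
      omega
    exact pow_dvd_pow 2 (show 2 ≤ (n : ℕ) from this)
  · rw [gcd_eq_two ho] at h
    refine Nat.dvd_of_mul_dvd_mul_left Nat.two_pos ?_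
    rw [h]
    obtain ⟨k, hk⟩ := ho
    rw [hk, show 2 * k + 1 - 1 = 2 * k by omega, show (2 * k + 1 + 1) * ((2 * k + 1) * (2 * k)) =
      4 * ((2 * k + 1) * (k * (k + 1))) by ring, show 2 * 4 = 4 * 2 from rfl]
    exact Nat.mul_dvd_mul_left 4 ((even_iff_two_dvd.1 (Nat.even_mul_succ_self k)).mul_left _)

theorem coatom_card_ne_one (h4 : 4 ≤ Fintype.card F) {M : Subgroup PSL} (hM : IsCoatom M) :
    Nat.card M ≠ 1 ∧ Nat.card M ≠ 2 := by
  have : Fact (Nat.Prime 2) := ⟨Nat.prime_two⟩
  have hbig := card_le_psl h4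
  have h4' := four_dvd_psl h4
  constructor <;> intro hc
  · obtain ⟨g, hg⟩ := exists_prime_orderOf_dvd_card' (G := PSL) 2 (Nat.dvd_trans (by norm_num) h4')
    have htop : Subgroup.zpowers g = ⊤ := hM.2 _ (by
      rw [Subgroup.eq_bot_of_card_eq M hc, bot_lt_iff_ne_bot, Ne, Subgroup.zpowers_eq_bot]
      exact fun e => by rw [e, orderOf_one] at hg; omega)
    have h := congrArg (fun H : Subgroup PSL => Nat.card H) htop
    simp only [Nat.card_zpowers, hg, Subgroup.card_top] at h
    omega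
  · obtain ⟨K, hK, hle⟩ := Sylow.exists_subgroup_card_pow_succ (G := PSL) (p := 2) (n := 1) h4'
      (H := M) hc
    have hlt : M < K := lt_of_le_of_ne hle fun e => by rw [← e, hc] at hK; omega
    have h := congrArg (fun H : Subgroup PSL => Nat.card H) (hM.2 _ hlt)
    simp only [hK, Subgroup.card_top] at h
    omega

theorem not_dvd_of_dvd_torus (p : ℕ) [Fact p.Prime] [CharP F p] {k : ℕ}
    (hk : k ∣ (Fintype.card F + 1) / Nat.gcd 2 (Fintype.card F - 1) ∨
      k ∣ (Fintype.card F - 1) / Nat.gcd 2 (Fintype.card F - 1)) : ¬ p ∣ k := by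
  intro hpk
  obtain ⟨n, -, hn⟩ := FiniteField.card F p
  have hpq : p ∣ Fintype.card F := by rw [hn]; exact dvd_pow_self p n.ne_zero
  have h2p := (Fact.out : p.Prime).two_le
  have hg : Nat.gcd 2 (Fintype.card F - 1) ∣ Fintype.card F - 1 := Nat.gcd_dvd_right _ _
  have hq := Fintype.one_lt_card (α := F)
  rcases hk with hk | hk
  · have h1 : p ∣ Fintype.card F + 1 := (hpk.trans hk).trans (Nat.div_dvd_of_dvd (by
      rcases Nat.even_or_odd (Fintype.card F) with he | ho
      · rw [gcd_eq_one he]; exact one_dvd _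
      · rw [gcd_eq_two ho]; exact even_iff_two_dvd.1 ho.add_one))
    have := Nat.le_of_dvd Nat.one_pos ((Nat.dvd_add_right hpq).1 h1)
    omega
  · have h1 : p ∣ Fintype.card F - 1 := (hpk.trans hk).trans (Nat.div_dvd_of_dvd hg)
    have := Nat.le_of_dvd Nat.one_pos ((Nat.dvd_sub hpq h1).trans (dvd_of_eq (by omega)))
    omega

theorem card_eq_prime_pow_cases {p : ℕ} [Fact p.Prime] [CharP F p] {c : ℕ} (h : Fintype.card F = c) :
    p ∣ c := by
  obtain ⟨n, -, hn⟩ := FiniteField.card F p
  rw [← h, hn]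
  exact dvd_pow_self p n.ne_zero

theorem orderOf_exception_elements :
    orderOf altFourI = 2 ∧ orderOf (Equiv.swap (0 : Fin 4) 1 * Equiv.swap 1 2) = 3 ∧
      orderOf (finRotate 4) = 4 ∧ orderOf icoY = 5 := by
  refine ⟨orderOf_eq_prime (hp := ⟨Nat.prime_two⟩) (by decide) (by decide),
    orderOf_eq_prime (hp := ⟨Nat.prime_three⟩) (by decide) (by decide),
    orderOf_eq_prime_pow (p := 2) (n := 1) (hp := ⟨Nat.prime_two⟩) (by decide) (by decide),
    orderOf_eq_prime (hp := ⟨Nat.prime_five⟩) (by decide) (by decide)⟩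

/-- Maximal subgroups of torus type are maximal dihedral groups. -/
theorem coatom_torus (p : ℕ) [Fact p.Prime] [CharP F p] (h4 : 4 ≤ Fintype.card F) {M : Subgroup PSL}
    (hM : IsCoatom M) {C : Subgroup PSL} [IsCyclic C] (hC : C ≠ ⊥) (hp : ¬ p ∣ Nat.card C)
    (hn : M ≤ Subgroup.normalizer (C : Set PSL)) :
    (Nonempty (M ≃* DihedralGroup ((Fintype.card F - 1) / Nat.gcd 2 (Fintype.card F - 1))) ∧
        Fintype.card F ∉ ({5, 7, 9, 11} : Finset ℕ)) ∨
      (Nonempty (M ≃* DihedralGroup ((Fintype.card F + 1) / Nat.gcd 2 (Fintype.card F - 1))) ∧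
        Fintype.card F ∉ ({7, 9} : Finset ℕ)) := by
  classical
  let ι : F →+* AlgebraicClosure F := algebraMap F _
  have : CharP (AlgebraicClosure F) p := charP_of_injective_ringHom ι.injective p
  obtain ⟨Φ, hΦ⟩ := exists_frob (F := F) (L := AlgebraicClosure F) p
  obtain ⟨x, y, e, he, -, hle⟩ := exists_pslPair_of_normalized hΦ p (C := C) (N := M) (ι := ι) hC hp hn
  have heq : M = pslPair ι x y := by
    rcases hle.eq_or_lt with h | h
    · exact h
    · exact absurd (hM.2 _ h) (pslPair_ne_top hΦ he (by omega))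
  obtain ⟨-, ⟨φ⟩⟩ := pslPair_dihedral hΦ he
  obtain ⟨hI, hA, hR, hY⟩ := orderOf_exception_elements
  rw [heq] at hM
  have hA4 : ∀ _ : Odd (Fintype.card F), ∃ f : alternatingGroup (Fin 4) →* PSL, Function.Injective f := by
    intro ho
    obtain ⟨H, ⟨e⟩⟩ := exists_alt_four_psl (two_ne_zero_of_odd ho)
    exact ⟨H.subtype.comp e.symm.toMonoidHom, H.subtype_injective.comp e.symm.injective⟩
  have hS4 : Fintype.card F % 8 = 1 ∨ Fintype.card F % 8 = 7 →
      ∃ f : Equiv.Perm (Fin 4) →* PSL, Function.Injective f := by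
    intro h8
    have ho : Odd (Fintype.card F) := by rw [Nat.odd_iff]; omega
    obtain ⟨H, ⟨e⟩⟩ := exists_symm_four_psl (two_ne_zero_of_odd ho)
      (FiniteField.isSquare_two_iff.2 (by omega))
    exact ⟨H.subtype.comp e.symm.toMonoidHom, H.subtype_injective.comp e.symm.injective⟩
  have hA5 : Odd (Fintype.card F) → Fintype.card F % 5 = 1 ∨ Fintype.card F % 5 = 4 →
      ∃ f : alternatingGroup (Fin 5) →* PSL, Function.Injective f := by
    intro ho h5
    obtain ⟨r, hr⟩ := exists_root_of_five (five_dvd_psl ho h5)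
    exact exists_alt_five_psl hr
  have hcards : ∀ {c : ℕ}, Fintype.card F = c → Odd c →
      2 * Nat.card PSL = (c + 1) * (c * (c - 1)) := by
    rintro c rfl ho
    exact psl_card_odd ho
  have hd2 : ∀ {c : ℕ}, Fintype.card F = c → Odd c → Nat.gcd 2 (Fintype.card F - 1) = 2 := by
    rintro c rfl ho
    exact gcd_eq_two ho
  rcases he with ⟨hxy, ⟨hr, he'⟩ | ⟨hn', h1, h2, he'⟩⟩
  · have he : IsPair ι Φ x y e := ⟨hxy, Or.inl ⟨hr, he'⟩⟩
    refine Or.inl ⟨⟨(MulEquiv.subgroupCongr heq).trans (he' ▸ φ)⟩, fun hq => ?_⟩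
    have hee : e = Fintype.card F - 1 ∧ Fintype.card F + 1 = Fintype.card F + 1 ∨
        e = Fintype.card F + 1 ∧ Fintype.card F + 1 = Fintype.card F - 1 := Or.inl ⟨he', rfl⟩
    simp only [Finset.mem_insert, Finset.mem_singleton] at hq
    rcases hq with hq | hq | hq | hq <;> have ho : Odd (Fintype.card F) := by rw [hq]; decide
    all_goals
      have hN := hcards hq (hq ▸ ho)
      have hd := hd2 hq (hq ▸ ho)
      have hpc := card_eq_prime_pow_cases (p := p) hq
    · obtain ⟨f, hf⟩ := hA4 ho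
      exact not_coatom_pslPair hΦ p he hee f hf altFourI 2 4 hI (by norm_num)
        (by rw [(Nat.prime_dvd_prime_iff_eq Fact.out Nat.prime_five).1 hpc]; norm_num)
        (by rw [hd, hq]; norm_num) (by decide +kernel) (by rw [he', hd, hq])
        (by decide +kernel) (by rw [← Nat.card_eq_fintype_card, card_alt_four]; omega) hM
    · obtain ⟨f, hf⟩ := hS4 (by omega)
      exact not_coatom_pslPair hΦ p he hee f hf _ 3 6 hA (by norm_num)
        (by rw [(Nat.prime_dvd_prime_iff_eq Fact.out (by norm_num : Nat.Prime 7)).1 hpc]; norm_num)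
        (by rw [hd, hq]; norm_num) (by decide +kernel) (by rw [he', hd, hq])
        (by decide +kernel) (by rw [Fintype.card_perm, Fintype.card_fin]; simp [Nat.factorial, -Nat.card_eq_fintype_card]; omega) hM
    · obtain ⟨f, hf⟩ := hS4 (by omega)
      have hp3 : p = 3 := (Nat.prime_dvd_prime_iff_eq Fact.out Nat.prime_three).1
        ((Fact.out : p.Prime).dvd_of_dvd_pow (n := 2) (by norm_num; exact hpc))
      exact not_coatom_pslPair hΦ p he hee f hf _ 4 8 hR (by norm_num) (by rw [hp3]; norm_num)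
        (by rw [hd, hq]; norm_num) (by decide +kernel) (by rw [he', hd, hq])
        (by decide +kernel) (by rw [Fintype.card_perm, Fintype.card_fin]; simp [Nat.factorial, -Nat.card_eq_fintype_card]; omega) hM
    · obtain ⟨f, hf⟩ := hA5 ho (by omega)
      exact not_coatom_pslPair hΦ p he hee f hf icoY 5 10 hY (by norm_num)
        (by rw [(Nat.prime_dvd_prime_iff_eq Fact.out (by norm_num : Nat.Prime 11)).1 hpc]; norm_num)
        (by rw [hd, hq]; norm_num) (by decide +kernel) (by rw [he', hd, hq])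
        (by decide +kernel) (by rw [← Nat.card_eq_fintype_card, card_alt_five]; omega) hM
  · have he : IsPair ι Φ x y e := ⟨hxy, Or.inr ⟨hn', h1, h2, he'⟩⟩
    refine Or.inr ⟨⟨(MulEquiv.subgroupCongr heq).trans (he' ▸ φ)⟩, fun hq => ?_⟩
    have hee : e = Fintype.card F - 1 ∧ Fintype.card F - 1 = Fintype.card F + 1 ∨
        e = Fintype.card F + 1 ∧ Fintype.card F - 1 = Fintype.card F - 1 := Or.inr ⟨he', rfl⟩
    simp only [Finset.mem_insert, Finset.mem_singleton] at hq
    rcases hq with hq | hq <;> have ho : Odd (Fintype.card F) := by rw [hq]; decide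
    all_goals
      have hN := hcards hq (hq ▸ ho)
      have hd := hd2 hq (hq ▸ ho)
      have hpc := card_eq_prime_pow_cases (p := p) hq
    · obtain ⟨f, hf⟩ := hS4 (by omega)
      exact not_coatom_pslPair hΦ p he hee f hf _ 4 8 hR (by norm_num)
        (by rw [(Nat.prime_dvd_prime_iff_eq Fact.out (by norm_num : Nat.Prime 7)).1 hpc]; norm_num)
        (by rw [hd, hq]; norm_num) (by decide +kernel) (by rw [he', hd, hq])
        (by decide +kernel) (by rw [Fintype.card_perm, Fintype.card_fin]; simp [Nat.factorial, -Nat.card_eq_fintype_card]; omega) hM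
    · obtain ⟨f, hf⟩ := hA5 ho (by omega)
      have hp3 : p = 3 := (Nat.prime_dvd_prime_iff_eq Fact.out Nat.prime_three).1
        ((Fact.out : p.Prime).dvd_of_dvd_pow (n := 2) (by norm_num; exact hpc))
      exact not_coatom_pslPair hΦ p he hee f hf icoY 5 10 hY (by norm_num) (by rw [hp3]; norm_num)
        (by rw [hd, hq]; norm_num) (by decide +kernel) (by rw [he', hd, hq])
        (by decide +kernel) (by rw [← Nat.card_eq_fintype_card, card_alt_five]; omega) hM

/-- Cyclic and dihedral maximal subgroups. -/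
theorem coatom_cyclic_or_dihedral (p : ℕ) [Fact p.Prime] [CharP F p] (h4 : 4 ≤ Fintype.card F)
    {M : Subgroup PSL} (hM : IsCoatom M) {k : ℕ}
    (hk : k ∣ (Fintype.card F + 1) / Nat.gcd 2 (Fintype.card F - 1) ∨
      k ∣ (Fintype.card F - 1) / Nat.gcd 2 (Fintype.card F - 1))
    (hshape : (IsCyclic M ∧ Nat.card M = k) ∨ Nonempty (M ≃* DihedralGroup k)) :
    (Nonempty (M ≃* DihedralGroup ((Fintype.card F - 1) / Nat.gcd 2 (Fintype.card F - 1))) ∧
        Fintype.card F ∉ ({5, 7, 9, 11} : Finset ℕ)) ∨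
      (Nonempty (M ≃* DihedralGroup ((Fintype.card F + 1) / Nat.gcd 2 (Fintype.card F - 1))) ∧
        Fintype.card F ∉ ({7, 9} : Finset ℕ)) := by
  obtain ⟨hne1, hne2⟩ := coatom_card_ne_one h4 hM
  have hpk := not_dvd_of_dvd_torus p hk
  rcases hshape with ⟨hc, hck⟩ | ⟨⟨φ⟩⟩
  · exact coatom_torus p h4 hM (C := M) (fun e => hne1 (by rw [e, Subgroup.card_bot]))
      (hck ▸ hpk) Subgroup.le_normalizer
  let f : DihedralGroup k →* PSL := M.subtype.comp φ.symm.toMonoidHom
  have hf : Function.Injective f := M.subtype_injective.comp φ.symm.injective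
  have hk1 : k ≠ 1 := fun e => hne2 (by rw [Nat.card_congr φ.toEquiv, DihedralGroup.nat_card, e])
  let C := (Subgroup.zpowers (DihedralGroup.r (1 : ZMod k))).map f
  have hCc : Nat.card C = k := by
    rw [Subgroup.card_map_of_injective hf, Nat.card_zpowers, DihedralGroup.orderOf_r_one]
  have : IsCyclic C := (Subgroup.equivMapOfInjective _ f hf).isCyclic.1 inferInstance
  refine coatom_torus p h4 hM (C := C) (fun e => hk1 (by rw [← hCc, e, Subgroup.card_bot]))
    (hCc.symm ▸ hpk) fun m hm => ?_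
  obtain ⟨d, hd⟩ : ∃ d, f d = m := ⟨φ ⟨m, hm⟩, by simp [f]⟩
  subst hd
  have hn : d ∈ Subgroup.normalizer (Subgroup.zpowers (DihedralGroup.r (1 : ZMod k)) : Set (DihedralGroup k)) := by
    have : Finite (DihedralGroup k) :=
      Finite.of_injective f hf
    rw [mem_normalizer_zpowers]
    rcases d with i | i
    · rw [show DihedralGroup.r i * DihedralGroup.r (1 : ZMod k) * (DihedralGroup.r i)⁻¹ = DihedralGroup.r 1 by
        rw [mul_inv_eq_iff_eq_mul, DihedralGroup.r_mul_r, DihedralGroup.r_mul_r, add_comm]]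
      exact Subgroup.mem_zpowers _
    · rw [show DihedralGroup.sr i * DihedralGroup.r (1 : ZMod k) * (DihedralGroup.sr i)⁻¹ =
          (DihedralGroup.r 1)⁻¹ by
        rw [mul_inv_eq_iff_eq_mul, DihedralGroup.inv_r, DihedralGroup.sr_mul_r, DihedralGroup.r_mul_sr]
        congr 1
        ring]
      exact inv_mem (Subgroup.mem_zpowers _)
  rw [mem_normalizer_iff_map_eq, Subgroup.map_map,
    show (MulAut.conj (f d)).toMonoidHom.comp f = f.comp (MulAut.conj d).toMonoidHom by ext; simp,
    ← Subgroup.map_map, (mem_normalizer_iff_map_eq _ d).1 hn]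

end CfsgLib.PSL2
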