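import Cfsg.Agent.Lib.PSL2.LineBasic
import Cfsg.Agent.Lib.PSL2.Recognition

/-!
Dickson's classification of finite groups with a line action.
-/

set_option autoImplicit false
set_option linter.unusedSectionVars false

open MulAction

namespace CfsgLib.PSL2

universe v

variable {p : ℕ} {K : Type v} [Field K] {G : Type*} [Group G] [Finite G] {X : Type*}
  [MulAction G X] [Fact p.Prime] [CharP K p] (hA : IsLineAction p K G X)
include hA

theorem finite_points : Finite X := by
  have h1 : ∀ g : G, g ≠ 1 → {x : X | g • x = x}.Finite := by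
    intro g hg
    by_cases h : ∃ a b : X, a ≠ b ∧ g • a = a ∧ g • b = b
    · obtain ⟨a, b, hab, ha, hb⟩ := h
      refine (Set.toFinite ({a, b} : Set X)).subset fun z hz => ?_
      rcases fix_eq_pair hA hg hab ha hb hz with rfl | rfl <;> simp
    · exact Set.Subsingleton.finite fun a ha b hb => by
        by_contra hab
        exact h ⟨a, b, hab, ha, hb⟩
  have h2 : (Set.univ : Set X) ⊆ ⋃ g : {g : G // g ≠ 1}, {x : X | (g : G) • x = x} := by
    intro x _
    obtain ⟨g, hg, hgx⟩ := hA.nontrivial_stab x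
    exact Set.mem_iUnion.2 ⟨⟨g, hg⟩, hgx⟩
  exact Set.finite_univ_iff.1 ((Set.finite_iUnion fun g : {g : G // g ≠ 1} => h1 g.1 g.2).subset h2)

theorem two_le_card_stabilizer (x : X) : 2 ≤ Nat.card (stabilizer G x) := by
  obtain ⟨g, hg, hgx⟩ := hA.nontrivial_stab x
  have : Nontrivial (stabilizer G x) :=
    ⟨⟨⟨g, hgx⟩, 1, fun e => hg (congrArg Subtype.val e)⟩⟩
  exact Finite.one_lt_card

omit hA in
theorem card_orbit_mul (x : X) :
    Nat.card (orbit G x) * Nat.card (stabilizer G x) = Nat.card G := by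
  rw [Nat.card_coe_set_eq, ← index_stabilizer, Subgroup.index_mul_card]

/-- Burnside's count: `|X| + 2|G| = r |G| + u + 2`. -/
theorem burnside_count :
    Nat.card X + 2 * Nat.card G = Nat.card (orbitRel.Quotient G X) * Nat.card G +
      Nat.card {g : G // g ≠ 1 ∧ g ^ p = 1} + 2 := by
  classical
  have := finite_points hA
  have := Fintype.ofFinite G
  have := Fintype.ofFinite X
  have hb' := sum_card_fixedBy_eq_card_orbits_mul_card_group G X
  simp only [← Nat.card_eq_fintype_card] at hb'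
  have hb : ∑ g : G, Nat.card (fixedBy X g) = Nat.card (orbitRel.Quotient G X) * Nat.card G := hb'
  have hfix : ∀ g : G, g ≠ 1 → Nat.card (fixedBy X g) + (if g ^ p = 1 then 1 else 0) = 2 := by
    intro g hg
    obtain ⟨a, ha⟩ := hA.exists_fix g hg
    by_cases hp : g ^ p = 1
    · rw [if_pos hp]
      have : fixedBy X g = {a} := Set.ext fun z =>
        ⟨fun hz => (hA.pow_eq_one_iff g hg).1 hp z a hz ha, fun hz => hz ▸ ha⟩
      rw [this, Nat.card_coe_set_eq, Set.ncard_singleton]
    · rw [if_neg hp]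
      obtain ⟨b, hba, hb⟩ := exists_second_fix hA hp ha
      have : fixedBy X g = {a, b} := Set.ext fun z => ⟨fun hz => fix_eq_pair hA hg hba.symm ha hb hz,
        by rintro (rfl | rfl) <;> assumption⟩
      rw [this, Nat.card_coe_set_eq, Set.ncard_pair hba.symm]
  have h1 : ∑ g ∈ (Finset.univ : Finset G).erase 1, Nat.card (fixedBy X g) +
      ∑ g ∈ (Finset.univ : Finset G).erase 1, (if g ^ p = 1 then 1 else 0) =
        2 * ((Nat.card G) - 1) := by
    rw [← Finset.sum_add_distrib, Finset.sum_congr rfl fun g hg => hfix g (Finset.ne_of_mem_erase hg),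
      Finset.sum_const, Finset.card_erase_of_mem (Finset.mem_univ _), Finset.card_univ,
      Nat.card_eq_fintype_card, smul_eq_mul, mul_comm]
  have h2 : ∑ g ∈ (Finset.univ : Finset G).erase 1, (if g ^ p = 1 then 1 else 0) =
      Nat.card {g : G // g ≠ 1 ∧ g ^ p = 1} := by
    rw [Finset.sum_boole, Nat.card_eq_fintype_card, Fintype.card_subtype, Nat.cast_id]
    congr 1
    ext g
    simp
  have h3 : Nat.card (fixedBy X (1 : G)) + ∑ g ∈ (Finset.univ : Finset G).erase 1,
      Nat.card (fixedBy X g) = ∑ g : G, Nat.card (fixedBy X g) :=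
    Finset.add_sum_erase Finset.univ (fun g : G => Nat.card (fixedBy X g)) (Finset.mem_univ 1)
  have h4 : Nat.card (fixedBy X (1 : G)) = Nat.card X := by
    rw [show fixedBy X (1 : G) = Set.univ from Set.ext fun z => ⟨fun _ => trivial, fun _ => one_smul G z⟩,
      Nat.card_coe_set_eq, Set.ncard_univ]
  have := Nat.card_pos (α := G)
  rw [h4] at h3
  omega

/-- Orbit representatives. -/
theorem orbit_reps : ∃ φ : Fin (Nat.card (orbitRel.Quotient G X)) → X,
    (∀ z, ∃ i, z ∈ orbit G (φ i)) ∧ (∀ i j, φ i ∈ orbit G (φ j) → i = j) ∧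
      Nat.card X = ∑ i, Nat.card (orbit G (φ i)) := by
  classical
  have := finite_points hA
  have := Fintype.ofFinite (orbitRel.Quotient G X)
  let e := Finite.equivFin (orbitRel.Quotient G X)
  refine ⟨fun i => (e.symm i).out, fun z => ?_, fun i j h => ?_, ?_⟩
  · refine ⟨e (Quotient.mk'' z), ?_⟩
    simp only [Equiv.symm_apply_apply]
    rw [← orbitRel_apply]
    exact (orbitRel G X).symm (Quotient.exact (Quotient.out_eq (Quotient.mk'' z : orbitRel.Quotient G X)))
  · apply e.symm.injective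
    rw [← Quotient.out_eq (e.symm i), ← Quotient.out_eq (e.symm j)]
    exact Quotient.sound (orbitRel_apply.2 h)
  · rw [Nat.card_congr (selfEquivSigmaOrbits G X), Nat.card_sigma]
    exact (Fintype.sum_equiv e.symm _ _ fun i => rfl).symm

/-- A two-point orbit gives a dihedral group. -/
theorem dihedral_of_orbit_two {a : X} (h : Nat.card (orbit G a) = 2) :
    ∃ x y : X, x ≠ y ∧ (∀ g : G, g • x = x ∨ g • x = y) ∧
      (stabilizer G x ⊓ stabilizer G y : Subgroup G).index = 2 ∧
      Nonempty (G ≃* DihedralGroup (Nat.card (stabilizer G x ⊓ stabilizer G y : Subgroup G))) := by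
  obtain ⟨a', b', hab', hu⟩ := Nat.card_eq_two_iff.1 h
  obtain ⟨b, hba, hbO, hall⟩ : ∃ b, b ≠ a ∧ b ∈ orbit G a ∧ ∀ z ∈ orbit G a, z = a ∨ z = b := by
    have hm : (⟨a, mem_orbit_self a⟩ : orbit G a) ∈ ({a', b'} : Set (orbit G a)) := hu ▸ trivial
    have hall : ∀ z (hz : z ∈ orbit G a), z = (a' : X) ∨ z = (b' : X) := fun z hz => by
      have : (⟨z, hz⟩ : orbit G a) ∈ ({a', b'} : Set (orbit G a)) := hu ▸ trivial
      rcases this with e | e
      · exact Or.inl (congrArg Subtype.val e)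
      · exact Or.inr (congrArg Subtype.val e)
    rcases hm with e | e
    · have e' : a = a' := congrArg Subtype.val e
      exact ⟨b', fun h => hab' (Subtype.ext (h.trans e').symm), b'.2, fun z hz => (hall z hz).imp_left fun h => h.trans e'.symm⟩
    · have e' : a = b' := congrArg Subtype.val e
      exact ⟨a', fun h => hab' (Subtype.ext (h.trans e')), a'.2, fun z hz => (hall z hz).symm.imp_left fun h => h.trans e'.symm⟩
  have hsb : ∀ g : G, g • a = a → g • b = b := by
    intro g hg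
    rcases hall (g • b) (mem_orbit_of_mem_orbit g hbO) with e | e
    · exact absurd (smul_left_cancel g (e.trans hg.symm)) hba
    · exact e
  have hC : (stabilizer G a ⊓ stabilizer G b : Subgroup G) = stabilizer G a :=
    inf_eq_left.2 fun g hg => hsb g hg
  have hidx : (stabilizer G a ⊓ stabilizer G b : Subgroup G).index = 2 := by
    rw [hC, index_stabilizer, ← Nat.card_coe_set_eq, h]
  refine ⟨a, b, hba.symm, fun g => hall _ (mem_orbit a g), hidx, ?_⟩
  have := isCyclic_two_stab hA hba.symm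
  refine nonempty_mulEquiv_dihedral _ hidx fun g hg => ?_
  rw [hC] at hg
  have hga : g • a = b := (hall _ (mem_orbit a g)).resolve_left hg
  have hgb : g • b = a := by
    rcases hall (g • b) (mem_orbit_of_mem_orbit g hbO) with e | e
    · exact e
    · exact absurd (smul_left_cancel g (e.trans hga.symm)) hba
  have hg1 : g ≠ 1 := fun e => hg (e ▸ one_mem _)
  obtain ⟨z, hz⟩ := hA.exists_fix g hg1
  by_contra hne
  rcases hA.fix_le_two (g * g) hne a b z (by rw [mul_smul, hga, hgb]) (by rw [mul_smul, hgb, hga])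
    (by rw [mul_smul, hz, hz]) with e | e | e
  · exact hba e.symm
  · exact hg (show g • a = a by rw [e, hz])
  · exact hba ((e.trans hz.symm).trans ((congrArg (g • ·) e.symm).trans hgb))

omit hA in
/-- The arithmetic of three orbits. -/
theorem three_orbits_arith {N n₁ n₂ n₃ e₁ e₂ e₃ : ℕ} (h₁ : n₁ * e₁ = N) (h₂ : n₂ * e₂ = N)
    (h₃ : n₃ * e₃ = N) (he : 2 ≤ e₁) (h12 : e₁ ≤ e₂) (h23 : e₂ ≤ e₃)
    (hs : n₁ + n₂ + n₃ = N + 2) :
    (n₃ = 2) ∨ (N = 12 ∧ e₁ = 2 ∧ e₂ = 3 ∧ e₃ = 3) ∨ (N = 24 ∧ e₁ = 2 ∧ e₂ = 3 ∧ e₃ = 4) ∨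
      (N = 60 ∧ e₁ = 2 ∧ e₂ = 3 ∧ e₃ = 5) := by
  have he1 : e₁ = 2 := by
    by_contra h
    nlinarith [Nat.mul_le_mul_left n₁ (show 3 ≤ e₁ by omega),
      Nat.mul_le_mul_left n₂ (show 3 ≤ e₂ by omega), Nat.mul_le_mul_left n₃ (show 3 ≤ e₃ by omega)]
  subst he1
  rcases lt_trichotomy e₂ 3 with h | h | h
  · obtain rfl : e₂ = 2 := by omega
    left; omega
  · subst h
    right
    have h6 : e₃ < 6 := by
      by_contra h6
      nlinarith [Nat.mul_le_mul_left n₃ (show 6 ≤ e₃ by omega)]
    interval_cases e₃ <;> omega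
  · nlinarith [Nat.mul_le_mul_left n₂ (show 4 ≤ e₂ by omega),
      Nat.mul_le_mul_left n₃ (show 4 ≤ e₃ by omega)]

/-- Groups without elements of order `p`. -/
theorem classify_coprime [Nontrivial G] (hp : ∀ g : G, g ^ p = 1 → g = 1) :
    (∃ x y : X, x ≠ y ∧ (∀ g : G, g • x = x ∧ g • y = y) ∧ IsCyclic G) ∨
    (∃ x y : X, x ≠ y ∧ (∀ g : G, g • x = x ∨ g • x = y) ∧
      (stabilizer G x ⊓ stabilizer G y : Subgroup G).index = 2 ∧
      Nonempty (G ≃* DihedralGroup (Nat.card (stabilizer G x ⊓ stabilizer G y : Subgroup G)))) ∨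
    Nonempty (G ≃* alternatingGroup (Fin 4)) ∨ Nonempty (G ≃* Equiv.Perm (Fin 4)) ∨
    Nonempty (G ≃* alternatingGroup (Fin 5)) := by
  classical
  have := finite_points hA
  have hb := burnside_count hA
  have hu : Nat.card {g : G // g ≠ 1 ∧ g ^ p = 1} = 0 := by
    rw [Nat.card_eq_zero]
    exact Or.inl ⟨fun g => g.2.1 (hp g g.2.2)⟩
  rw [hu] at hb
  obtain ⟨r, hr, φ, hφ, hX⟩ : ∃ r, Nat.card (orbitRel.Quotient G X) = r ∧ ∃ φ : Fin r → X,
      (∀ z, ∃ i, z ∈ orbit G (φ i)) ∧ Nat.card X = ∑ i, Nat.card (orbit G (φ i)) := by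
    obtain ⟨φ, h1, -, h2⟩ := orbit_reps hA
    exact ⟨_, rfl, φ, h1, h2⟩
  rw [hr] at hb
  have hhalf : ∀ i, 2 * Nat.card (orbit G (φ i)) ≤ Nat.card G := fun i => by
    rw [← card_orbit_mul (G := G) (φ i), mul_comm 2]
    exact Nat.mul_le_mul_left _ (two_le_card_stabilizer hA _)
  have hle : 2 * Nat.card X ≤ r * Nat.card G := by
    rw [hX, Finset.mul_sum]
    refine (Finset.sum_le_sum fun i _ => hhalf i).trans ?_
    simp
  have hN : 2 ≤ Nat.card G := Finite.one_lt_card
  obtain ⟨g₀, hg₀⟩ := exists_ne (1 : G)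
  obtain ⟨x₀, hx₀⟩ := hA.exists_fix g₀ hg₀
  obtain ⟨y₀, hy₀, hgy₀⟩ := exists_second_fix hA (fun e => hg₀ (hp g₀ e)) hx₀
  have hX2 : 2 ≤ Nat.card X := by
    rw [← Set.ncard_univ, ← Set.ncard_pair hy₀]
    exact Set.ncard_le_ncard (Set.subset_univ _)
  have hr3 : r = 2 ∨ r = 3 := by
    rcases Nat.lt_or_ge r 4 with h | h
    · interval_cases r <;> omega
    · have := Nat.mul_le_mul_right (Nat.card G) h
      omega
  rcases hr3 with h2 | h3
  · left
    rw [h2] at hb
    have hX' : Nat.card X = 2 := by omega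
    have hall : ∀ z : X, z = x₀ ∨ z = y₀ := by
      intro z
      by_contra h
      push Not at h
      have : ({z, x₀, y₀} : Set X).ncard = 3 := by
        rw [Set.ncard_insert_of_notMem (by simp [h.1, h.2]), Set.ncard_pair hy₀.symm]
      have := Set.ncard_le_ncard (Set.subset_univ ({z, x₀, y₀} : Set X))
      rw [Set.ncard_univ] at this
      omega
    have hfix : ∀ g : G, g • x₀ = x₀ ∧ g • y₀ = y₀ := by
      intro g
      rcases eq_or_ne g 1 with rfl | hg
      · simp
      obtain ⟨a, ha⟩ := hA.exists_fix g hg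
      obtain ⟨b, hb, hgb⟩ := exists_second_fix hA (fun e => hg (hp g e)) ha
      rcases hall a with rfl | rfl <;> rcases hall b with rfl | rfl
      · exact absurd rfl hb
      · exact ⟨ha, hgb⟩
      · exact ⟨hgb, ha⟩
      · exact absurd rfl hb
    refine ⟨x₀, y₀, hy₀.symm, hfix, ?_⟩
    have := isCyclic_two_stab hA hy₀.symm
    have htop : (stabilizer G x₀ ⊓ stabilizer G y₀ : Subgroup G) = ⊤ :=
      (Subgroup.eq_top_iff' _).2 fun g => ⟨(hfix g).1, (hfix g).2⟩
    rw [htop] at this
    exact (Subgroup.topEquiv (G := G)).isCyclic.1 this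
  · right
    have hord : ∀ g : G, ∃ i, g ^ Nat.card (stabilizer G (φ i)) = 1 := by
      intro g
      have : 0 < r := by omega
      rcases eq_or_ne g 1 with rfl | hg
      · exact ⟨⟨0, this⟩, one_pow _⟩
      obtain ⟨z, hz⟩ := hA.exists_fix g hg
      obtain ⟨i, k, hk⟩ := hφ z
      refine ⟨i, ?_⟩
      have h1 : k⁻¹ * g * k ∈ stabilizer G (φ i) := by
        have hk' : k • φ i = z := hk
        rw [mem_stabilizer_iff, mul_smul, mul_smul, hk', hz, ← hk', inv_smul_smul]
      have h2 : (k⁻¹ * g * k) ^ Nat.card (stabilizer G (φ i)) = 1 :=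
        congrArg Subtype.val (pow_card_eq_one' (x := (⟨_, h1⟩ : stabilizer G (φ i))))
      rw [show k⁻¹ * g * k = k⁻¹ * g * k⁻¹⁻¹ by rw [inv_inv], conj_pow, conj_eq_one_iff] at h2
      exact h2
    subst h3
    rw [Fin.sum_univ_three] at hX
    have hs : Nat.card (orbit G (φ 0)) + Nat.card (orbit G (φ 1)) + Nat.card (orbit G (φ 2)) =
        Nat.card G + 2 := by omega
    have hm := fun i => card_orbit_mul (G := G) (φ i)
    have he := fun i => two_le_card_stabilizer hA (φ i)
    have key : (∃ i, Nat.card (orbit G (φ i)) = 2) ∨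
        (Nat.card G = 12 ∧ ∀ i, Nat.card (stabilizer G (φ i)) = 2 ∨ Nat.card (stabilizer G (φ i)) = 3) ∨
        (Nat.card G = 24 ∧ ∀ i, Nat.card (stabilizer G (φ i)) = 2 ∨
          Nat.card (stabilizer G (φ i)) = 3 ∨ Nat.card (stabilizer G (φ i)) = 4) ∨
        (Nat.card G = 60 ∧ ∀ i, Nat.card (stabilizer G (φ i)) = 2 ∨
          Nat.card (stabilizer G (φ i)) = 3 ∨ Nat.card (stabilizer G (φ i)) = 5) := by
      have main : ∀ i j k : Fin 3, (∀ l, l = i ∨ l = j ∨ l = k) →
          Nat.card (stabilizer G (φ i)) ≤ Nat.card (stabilizer G (φ j)) →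
          Nat.card (stabilizer G (φ j)) ≤ Nat.card (stabilizer G (φ k)) →
          Nat.card (orbit G (φ i)) + Nat.card (orbit G (φ j)) + Nat.card (orbit G (φ k)) =
            Nat.card G + 2 → ((∃ i, Nat.card (orbit G (φ i)) = 2) ∨
        (Nat.card G = 12 ∧ ∀ i, Nat.card (stabilizer G (φ i)) = 2 ∨ Nat.card (stabilizer G (φ i)) = 3) ∨
        (Nat.card G = 24 ∧ ∀ i, Nat.card (stabilizer G (φ i)) = 2 ∨
          Nat.card (stabilizer G (φ i)) = 3 ∨ Nat.card (stabilizer G (φ i)) = 4) ∨
        (Nat.card G = 60 ∧ ∀ i, Nat.card (stabilizer G (φ i)) = 2 ∨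
          Nat.card (stabilizer G (φ i)) = 3 ∨ Nat.card (stabilizer G (φ i)) = 5)) := fun i j k hl h1 h2 h3 => by
        rcases three_orbits_arith (hm i) (hm j) (hm k) (he i) h1 h2 h3 with h | h | h | h
        · exact Or.inl ⟨k, h⟩
        · exact Or.inr (Or.inl ⟨h.1, fun l => by rcases hl l with rfl | rfl | rfl <;> omega⟩)
        · exact Or.inr (Or.inr (Or.inl ⟨h.1, fun l => by rcases hl l with rfl | rfl | rfl <;> omega⟩))
        · exact Or.inr (Or.inr (Or.inr ⟨h.1, fun l => by rcases hl l with rfl | rfl | rfl <;> omega⟩))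
      rcases le_total (Nat.card (stabilizer G (φ 0))) (Nat.card (stabilizer G (φ 1))) with a | a <;>
        rcases le_total (Nat.card (stabilizer G (φ 1))) (Nat.card (stabilizer G (φ 2))) with b | b <;>
        rcases le_total (Nat.card (stabilizer G (φ 0))) (Nat.card (stabilizer G (φ 2))) with c | c
      all_goals first
        | exact main 0 1 2 (by decide) a b (by omega)
        | exact main 0 2 1 (by decide) c b (by omega)
        | exact main 1 0 2 (by decide) a c (by omega)
        | exact main 1 2 0 (by decide) b c (by omega)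
        | exact main 2 0 1 (by decide) c a (by omega)
        | exact main 2 1 0 (by decide) b a (by omega)
    rcases key with ⟨i, hi⟩ | ⟨hN', he'⟩ | ⟨hN', he'⟩ | ⟨hN', he'⟩
    · exact Or.inl (dihedral_of_orbit_two hA hi)
    · refine Or.inr (Or.inl (nonempty_mulEquiv_alternating_four hN' fun g h6 => ?_))
      obtain ⟨i, hi⟩ := hord g
      have hd : 6 ∣ Nat.card (stabilizer G (φ i)) := h6 ▸ orderOf_dvd_of_pow_eq_one hi
      have := Nat.le_of_dvd (Nat.lt_of_lt_of_le Nat.two_pos (he i)) hd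
      rcases he' i with e | e <;> omega
    · refine Or.inr (Or.inr (Or.inl (nonempty_mulEquiv_symm_four hN' fun g h6 => ?_)))
      obtain ⟨i, hi⟩ := hord g
      have hd : 6 ∣ Nat.card (stabilizer G (φ i)) := h6 ▸ orderOf_dvd_of_pow_eq_one hi
      have := Nat.le_of_dvd (Nat.lt_of_lt_of_le Nat.two_pos (he i)) hd
      rcases he' i with e | e | e <;> omega
    · refine Or.inr (Or.inr (Or.inr (nonempty_mulEquiv_alternating_five_of_spectrum hN' fun g => ?_)))
      obtain ⟨i, hi⟩ := hord g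
      rcases he' i with e | e | e <;> rw [e] at hi
      · exact Or.inl hi
      · exact Or.inr (Or.inl hi)
      · exact Or.inr (Or.inr hi)

theorem orbit_eq_unip_points {x z : X} (hx : unip hA x ≠ ⊥) (hz : z ∈ orbit G x) :
    Nat.card (unip hA z) = Nat.card (unip hA x) ∧ unip hA z ≠ ⊥ := by
  obtain ⟨k, rfl⟩ := hz
  have hmap : unip hA (k • x) = (unip hA x).map (MulAut.conj k).toMonoidHom := by
    ext g
    constructor
    · intro ⟨h1, h2⟩
      refine ⟨k⁻¹ * g * k, ⟨by rw [mul_smul, mul_smul, h1, inv_smul_smul], ?_⟩, ?_⟩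
      · rw [show k⁻¹ * g * k = k⁻¹ * g * k⁻¹⁻¹ by rw [inv_inv], conj_pow, h2]; group
      · show k * (k⁻¹ * g * k) * k⁻¹ = g
        group
    · rintro ⟨u, ⟨h1, h2⟩, rfl⟩
      refine ⟨?_, ?_⟩
      · show (k * u * k⁻¹) • k • x = k • x
        rw [mul_smul, mul_smul, inv_smul_smul, h1]
      · show (k * u * k⁻¹) ^ p = 1
        rw [conj_pow, h2]; group
  rw [hmap]
  refine ⟨Subgroup.card_map_of_injective (MulEquiv.injective _), ?_⟩
  rw [Ne, Subgroup.map_eq_bot_iff_of_injective _ (MulEquiv.injective _)]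
  exact hx

/-- The number of elements with exactly one fixed point. -/
theorem card_unipotent {x : X} (hx : unip hA x ≠ ⊥) :
    Nat.card {g : G // g ≠ 1 ∧ g ^ p = 1} + Nat.card (orbit G x) =
      Nat.card (orbit G x) * Nat.card (unip hA x) := by
  classical
  have := finite_points hA
  have := Fintype.ofFinite (orbit G x)
  have key : ∀ s t : (Σ z : orbit G x, unip hA (z : X)), (s.1 : X) = t.1 → (s.2 : G) = t.2 →
      s = t := by
    rintro ⟨⟨a, _⟩, ⟨g, _⟩⟩ ⟨⟨b, _⟩, ⟨h, _⟩⟩ h1 h2
    obtain rfl : a = b := h1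
    obtain rfl : g = h := h2
    rfl
  let e : {g : G // g ≠ 1 ∧ g ^ p = 1} ⊕ orbit G x ≃ Σ z : orbit G x, unip hA (z : X) :=
    Equiv.ofBijective
      (Sum.elim
        (fun g => ⟨⟨(hA.exists_fix g g.2.1).choose, by
            have hfix := (hA.exists_fix g g.2.1).choose_spec
            exact unip_points_conj hA hx (Subgroup.ne_bot_iff_exists_ne_one.2
              ⟨⟨g, hfix, g.2.2⟩, fun h => g.2.1 (congrArg Subtype.val h)⟩)⟩,
          ⟨g, (hA.exists_fix g g.2.1).choose_spec, g.2.2⟩⟩)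
        (fun z => ⟨z, 1⟩))
      ⟨by
        rintro (g | z) (g' | z') h <;> simp only [Sum.elim_inl, Sum.elim_inr] at h
        · exact congrArg Sum.inl (Subtype.ext (congrArg (fun s : Σ z : orbit G x, unip hA (z : X) => (s.2 : G)) h))
        · exact absurd (congrArg (fun s : Σ z : orbit G x, unip hA (z : X) => (s.2 : G)) h) g.2.1
        · exact absurd (congrArg (fun s : Σ z : orbit G x, unip hA (z : X) => (s.2 : G)) h).symm g'.2.1
        · exact congrArg Sum.inr (congrArg Sigma.fst h),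
      by
        rintro ⟨z, g⟩
        by_cases hg : (g : G) = 1
        · exact ⟨Sum.inr z, by simp [show g = 1 from Subtype.ext hg]⟩
        · refine ⟨Sum.inl ⟨g, hg, g.2.2⟩, ?_⟩
          have hz := (hA.pow_eq_one_iff g hg).1 g.2.2 _ (z : X) (hA.exists_fix g hg).choose_spec g.2.1
          exact key _ _ hz rfl⟩
  rw [← Nat.card_sum, Nat.card_congr e, Nat.card_sigma]
  rw [Finset.sum_congr rfl fun (z : orbit G x) _ => (orbit_eq_unip_points hA hx z.2).1]
  simp [Nat.card_eq_fintype_card]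

omit hA in
/-- The arithmetic of the modular case with a large orbit. -/
theorem large_orbit_arith {f Q c e : ℕ} (hQ : c < Q) (hc : 2 ≤ c) (hf : 1 + Q + Q * c ≤ f)
    (h : e * (f * (Q - 2) + 2) = f * (Q * c)) : Q = 3 ∧ c = 2 ∧ e = 5 ∧ f = 10 := by
  obtain ⟨k, rfl⟩ : ∃ k, Q = k + 3 := ⟨Q - 3, by omega⟩
  rw [show k + 3 - 2 = k + 1 by omega] at h
  have hlt : e * (k + 1) < (k + 3) * c := by
    by_contra hlt
    have : e ≠ 0 := by
      rintro rfl
      simp only [zero_mul, not_lt, nonpos_iff_eq_zero, mul_eq_zero] at hlt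
      omega
    nlinarith [Nat.mul_le_mul_left f (not_lt.1 hlt)]
  obtain ⟨D, hD⟩ : ∃ D, (k + 3) * c = e * (k + 1) + D + 1 := ⟨(k + 3) * c - e * (k + 1) - 1, by omega⟩
  have hfD : f * (D + 1) = 2 * e := by
    rw [hD] at h
    linarith
  rcases Nat.eq_zero_or_pos k with rfl | hk
  · obtain rfl : c = 2 := by omega
    simp only [zero_add] at hD
    have : e ≤ 5 := by omega
    obtain rfl : D = 5 - e := by omega
    interval_cases e <;> simp at hfD ⊢ <;> omega
  · exfalso
    have h2e : 2 * e ≤ 4 * c := by nlinarith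
    nlinarith

/-- Groups with elements of order `p`. -/
theorem classify_modular {x : X} (hx : unip hA x ≠ ⊥) :
    (∀ g : G, g • x = x) ∨
    (∃ a b : X, a ≠ b ∧ (∀ g : G, g • a = a ∨ g • a = b) ∧
      (stabilizer G a ⊓ stabilizer G b : Subgroup G).index = 2 ∧
      Nonempty (G ≃* DihedralGroup (Nat.card (stabilizer G a ⊓ stabilizer G b : Subgroup G)))) ∨
    Nonempty (G ≃* alternatingGroup (Fin 4)) ∨ (p = 3 ∧ Nonempty (G ≃* alternatingGroup (Fin 5))) ∨
    (∃ y : X, y ≠ x ∧ y ∈ orbit G x ∧ (∃ w : G, w • x = y ∧ w • y = x) ∧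
      (∀ g : G, g • x = x ∨ ∃ u ∈ unip hA x, g • x = u • y) ∧
      (∀ g : G, g • y = x ∨ ∃ u ∈ unip hA x, g • y = u • y) ∧
      2 ≤ Nat.card (stabilizer G x ⊓ stabilizer G y : Subgroup G) ∧
      3 ≤ Nat.card (unip hA x) ∧
      Nat.card G = (Nat.card (unip hA x) + 1) *
        (Nat.card (unip hA x) * Nat.card (stabilizer G x ⊓ stabilizer G y : Subgroup G))) := by
  classical
  have := finite_points hA
  by_cases hf1 : ∀ g : G, g • x = x
  · exact Or.inl hf1
  right
  push Not at hf1
  obtain ⟨g₁, hg₁⟩ := hf1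
  have hf2 : 2 ≤ Nat.card (orbit G x) := by
    have : Nontrivial (orbit G x) :=
      ⟨⟨⟨g₁ • x, mem_orbit x g₁⟩, ⟨x, mem_orbit_self x⟩, fun e => hg₁ (congrArg Subtype.val e)⟩⟩
    exact Finite.one_lt_card
  have hQ2 : 2 ≤ Nat.card (unip hA x) := (Subgroup.one_lt_card_iff_ne_bot _).2 hx
  have hu := card_unipotent hA hx
  have hb := burnside_count hA
  have hm := card_orbit_mul (G := G) x
  have hsle : Nat.card (unip hA x) ≤ Nat.card (stabilizer G x) := Subgroup.card_le_of_le (unip_le hA x)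
  set Q := Nat.card (unip hA x) with hQ
  set f := Nat.card (orbit G x) with hf
  set N := Nat.card G with hN
  obtain ⟨w, hw, hwX, hwall⟩ : ∃ w : X, w ∉ orbit G x ∧
      Nat.card X = f + Nat.card (orbit G w) ∧ Nat.card (orbitRel.Quotient G X) = 2 ∧ True := by
    obtain ⟨r, hr, φ, hφ, hφi, hX⟩ : ∃ r, Nat.card (orbitRel.Quotient G X) = r ∧ ∃ φ : Fin r → X,
        (∀ z, ∃ i, z ∈ orbit G (φ i)) ∧ (∀ i j, φ i ∈ orbit G (φ j) → i = j) ∧
          Nat.card X = ∑ i, Nat.card (orbit G (φ i)) := by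
      obtain ⟨φ, h1, h2, h3⟩ := orbit_reps hA
      exact ⟨_, rfl, φ, h1, h2, h3⟩
    rw [hr] at hb ⊢
    obtain ⟨i₀, hi₀⟩ := hφ x
    have ho : orbit G (φ i₀) = orbit G x := (orbit_eq_iff.2 hi₀).symm
    have hle : 2 * (∑ i ∈ Finset.univ.erase i₀, Nat.card (orbit G (φ i))) ≤ (r - 1) * N := by
      rw [Finset.mul_sum]
      refine (Finset.sum_le_sum (g := fun _ => N) fun i _ => ?_).trans ?_
      · rw [hN, ← card_orbit_mul (G := G) (φ i), mul_comm 2]
        exact Nat.mul_le_mul_left _ (two_le_card_stabilizer hA _)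
      · simp [Finset.card_erase_of_mem]
    have hsplit : Nat.card (orbit G (φ i₀)) + ∑ i ∈ Finset.univ.erase i₀, Nat.card (orbit G (φ i)) =
        Nat.card X := by
      rw [hX]
      exact Finset.add_sum_erase _ (fun i => Nat.card (orbit G (φ i))) (Finset.mem_univ i₀)
    rw [ho, ← hf] at hsplit
    have hfQ : f * 2 ≤ f * Q := Nat.mul_le_mul_left f hQ2
    have hr2 : r = 2 := by
      rcases Nat.lt_or_ge r 3 with h | h
      · interval_cases r
        · exact Fin.elim0 i₀
        · exfalso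
          have he : Finset.univ.erase i₀ = (∅ : Finset (Fin 1)) := Finset.eq_empty_of_forall_notMem
            fun i hi => Finset.ne_of_mem_erase hi (Subsingleton.elim _ _)
          rw [he, Finset.sum_empty, add_zero] at hsplit
          have h1 : f * Q ≤ f * Nat.card (stabilizer G x) := Nat.mul_le_mul_left f hsle
          rcases Nat.lt_or_ge Q (Nat.card (stabilizer G x)) with h2 | h2
          · have := Nat.mul_le_mul_left f (show Q + 1 ≤ Nat.card (stabilizer G x) from h2)
            rw [Nat.mul_succ] at this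
            omega
          · have h3 : f * Nat.card (stabilizer G x) = f * Q := by rw [le_antisymm hsle h2]
            omega
        · rfl
      · exfalso
        have h3 : 3 * N ≤ r * N := Nat.mul_le_mul_right N h
        have h4 : (r - 1) * N + N = r * N := by
          rw [← Nat.succ_mul]
          congr 1
          omega
        omega
    subst hr2
    obtain ⟨j, hj⟩ : ∃ j : Fin 2, j ≠ i₀ := exists_ne i₀
    refine ⟨φ j, fun h => hj (hφi j i₀ (ho ▸ h)), ?_, rfl, trivial⟩
    have he : Finset.univ.erase i₀ = ({j} : Finset (Fin 2)) := by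
      ext i
      simp only [Finset.mem_erase, Finset.mem_univ, and_true, Finset.mem_singleton]
      constructor <;> intro h <;> omega
    rw [he, Finset.sum_singleton] at hsplit
    exact hsplit.symm
  have hrep : ∀ z : X, z ∈ orbit G x ∨ z ∈ orbit G w := by
    have hcard : (orbit G x ∪ orbit G w).ncard = Nat.card X := by
      rw [Set.ncard_union_eq _ (Set.toFinite _) (Set.toFinite _), ← Nat.card_coe_set_eq,
        ← Nat.card_coe_set_eq, hwX]
      refine Set.disjoint_left.2 fun z hzx hzw => hw ?_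
      rw [← orbit_eq_iff.2 hzx, orbit_eq_iff.2 hzw]
      exact mem_orbit_self w
    have := Set.eq_of_subset_of_ncard_le (Set.subset_univ (orbit G x ∪ orbit G w))
      (by rw [hcard, Set.ncard_univ])
    intro z
    exact (this.ge (Set.mem_univ z) :)
  rw [hwall.1] at hb
  set a := Nat.card (orbit G w) with ha
  have haeq : a + 2 * f = f * Q + 2 := by omega
  have hma := card_orbit_mul (G := G) w
  rw [← ha, ← hN] at hma
  have he2 := two_le_card_stabilizer hA w
  set e := Nat.card (stabilizer G w) with he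
  by_cases htor : ∃ g : G, g • x = x ∧ g ^ p ≠ 1
  swap
  · push Not at htor
    have hsQ : Nat.card (stabilizer G x) = Q :=
      le_antisymm (Subgroup.card_le_of_le fun g hg => ⟨hg, htor g hg⟩) hsle
    rw [hsQ] at hm
    rcases Nat.lt_or_ge Q 3 with hQ3 | hQ3
    · refine Or.inl (dihedral_of_orbit_two hA (a := w) ?_)
      obtain hQe : Q = 2 := by omega
      rw [← ha]
      rw [hQe] at haeq
      omega
    · have h2a : 2 * a ≤ f * Q := by
        rw [hm, ← hma, mul_comm 2]
        exact Nat.mul_le_mul_left a he2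
      obtain hQe : Q = 3 := by
        by_contra hne
        have := Nat.mul_le_mul_left f (show 4 ≤ Q by omega)
        omega
      rw [hQe] at haeq hm h2a
      have he' : e = 2 := by
        by_contra hne
        have := Nat.mul_le_mul_left a (show 3 ≤ e by omega)
        omega
      rw [he'] at hma
      refine Or.inr (Or.inl (nonempty_mulEquiv_alternating_four (by omega) fun g h6 => ?_))
      have hg : g ≠ 1 := fun e1 => by rw [e1, orderOf_one] at h6; omega
      obtain ⟨z, hz⟩ := hA.exists_fix g hg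
      have hd : g ^ 3 = 1 ∨ g ^ 2 = 1 := by
        rcases hrep z with ⟨k, hk⟩ | ⟨k, hk⟩ <;> change k • _ = z at hk
        · left
          have h1 : k⁻¹ * g * k⁻¹⁻¹ ∈ stabilizer G x := by
            rw [inv_inv, mem_stabilizer_iff, mul_smul, mul_smul, hk, hz, ← hk, inv_smul_smul]
          have h2 := congrArg Subtype.val (pow_card_eq_one' (x := (⟨_, h1⟩ : stabilizer G x)))
          rw [hsQ, hQe] at h2
          change (k⁻¹ * g * k⁻¹⁻¹) ^ 3 = 1 at h2
          rwa [conj_pow, conj_eq_one_iff] at h2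
        · right
          have h1 : k⁻¹ * g * k⁻¹⁻¹ ∈ stabilizer G w := by
            rw [inv_inv, mem_stabilizer_iff, mul_smul, mul_smul, hk, hz, ← hk, inv_smul_smul]
          have h2 := congrArg Subtype.val (pow_card_eq_one' (x := (⟨_, h1⟩ : stabilizer G w)))
          rw [← he, he'] at h2
          change (k⁻¹ * g * k⁻¹⁻¹) ^ 2 = 1 at h2
          rwa [conj_pow, conj_eq_one_iff] at h2
      rcases hd with h | h <;>
        · have := Nat.le_of_dvd (by norm_num) (h6 ▸ orderOf_dvd_of_pow_eq_one h)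
          omega
  right
  obtain ⟨y, hyx, hst, hsecond, hc1⟩ := exists_torus hA htor
  have hcQ := card_torus_lt hA hyx.symm hx
  rw [← hQ] at hst
  rw [hst] at hm
  set c := Nat.card (stabilizer G x ⊓ stabilizer G y : Subgroup G) with hc
  rw [← hQ] at hcQ
  obtain ⟨t, htmem, ht1⟩ : ∃ t ∈ (stabilizer G x ⊓ stabilizer G y : Subgroup G), t ≠ 1 := by
    have : (stabilizer G x ⊓ stabilizer G y : Subgroup G) ≠ ⊥ :=
      (Subgroup.one_lt_card_iff_ne_bot _).1 hc1
    obtain ⟨⟨t, ht⟩, ht1⟩ := Subgroup.ne_bot_iff_exists_ne_one.1 this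
    exact ⟨t, ht, fun e1 => ht1 (Subtype.ext e1)⟩
  have hyO : y ∈ orbit G x := by
    by_contra hyO
    have hyu : unip hA y = ⊥ := by
      by_contra hne
      obtain ⟨g, hg⟩ := unip_points_conj hA hx hne
      exact hyO ⟨g, hg⟩
    have hsub : stabilizer G y ≤ stabilizer G x := by
      intro s hs
      obtain ⟨χ, hχ⟩ := hA.stab_hom y
      have h1 : ((((⟨s, hs⟩ : stabilizer G y) * ⟨t, htmem.2⟩ * (⟨s, hs⟩ : stabilizer G y)⁻¹ *
          (⟨t, htmem.2⟩ : stabilizer G y)⁻¹ : stabilizer G y)) : G) ∈ unip hA y := by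
        refine ⟨mem_stabilizer_iff.1 (SetLike.coe_mem _), (hχ _).1 ?_⟩
        rw [map_mul, map_mul, map_mul, map_inv, map_inv, mul_right_comm (χ _), mul_inv_cancel,
          one_mul, mul_inv_cancel]
      rw [hyu, Subgroup.mem_bot] at h1
      have h2 : s * t * s⁻¹ * t⁻¹ = 1 := h1
      rw [mul_inv_eq_one, mul_inv_eq_iff_eq_mul] at h2
      have h3 : t • s • x = s • x := by rw [← mul_smul, ← h2, mul_smul, htmem.1]
      rcases fix_eq_pair hA ht1 hyx.symm htmem.1 htmem.2 h3 with e1 | e1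
      · exact e1
      · exact absurd (smul_left_cancel s (e1.trans hs.symm)) hyx.symm
    have hyw : y ∈ orbit G w := (hrep y).resolve_left hyO
    have hey : Nat.card (stabilizer G y) = c := by
      rw [hc, inf_eq_right.2 hsub]
    have hmy := card_orbit_mul (G := G) y
    rw [orbit_eq_iff.2 hyw, ← ha, hey, ← hN, ← hm, ← mul_assoc] at hmy
    have := Nat.eq_of_mul_eq_mul_right (show 0 < c by omega) hmy
    omega
  right
  by_cases hZ : ∃ z ∈ orbit G x, z ≠ x ∧ ∀ u ∈ unip hA x, u • y ≠ z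
  · left
    obtain ⟨z, hzO, hzx, hzU⟩ := hZ
    have hstabU : ∀ s : G, s • x = x → ∃ u ∈ unip hA x, u • y = s • y := by
      intro s hs
      have h1 : (s * t * s⁻¹) • x = x := by
        rw [mul_smul, mul_smul, inv_smul_eq_iff.2 hs.symm, htmem.1, hs]
      have h2 : (s * t * s⁻¹) • s • y = s • y := by rw [mul_smul, mul_smul, inv_smul_smul, htmem.2]
      have h3 : (s * t * s⁻¹) ^ p ≠ 1 := by
        rw [conj_pow, Ne, conj_eq_one_iff]
        exact pow_ne_one_of_two_fix hA ht1 hyx.symm htmem.1 htmem.2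
      exact hsecond _ h1 h3 _ (fun e => hyx (smul_left_cancel s (e.trans hs.symm))) h2
    have hbig : 1 + Q + Q * c ≤ f := by
      have hreg : ∀ s : G, s • x = x → s • z = z → s = 1 := by
        intro s hsx hsz
        by_contra hs1
        obtain ⟨u, hu, hu2⟩ := hsecond s hsx (pow_ne_one_of_two_fix hA hs1 hzx.symm hsx hsz) z hzx hsz
        exact hzU u hu hu2
      let F : Option (unip hA x ⊕ stabilizer G x) → orbit G x := fun o => match o with
        | none => ⟨x, mem_orbit_self x⟩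
        | some (Sum.inl u) => ⟨(u : G) • y, mem_orbit_of_mem_orbit _ hyO⟩
        | some (Sum.inr s) => ⟨(s : G) • z, mem_orbit_of_mem_orbit _ hzO⟩
      have hux : ∀ (s : G), s • x = x → ∀ v : X, s • v = x → v = x := fun s hsx v hv =>
        smul_left_cancel s (hv.trans hsx.symm)
      have hinj : Function.Injective F := by
        rintro (_ | (u | s)) (_ | (u' | s')) h <;> have h' := congrArg Subtype.val h <;> simp only [F] at h'
        · rfl
        · exact absurd (hux _ u'.2.1 y h'.symm) hyx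
        · exact absurd (hux _ s'.2 z h'.symm) hzx
        · exact absurd (hux _ u.2.1 y h') hyx
        · refine congrArg (some ∘ Sum.inl) ?_
          have h1 : (((u'⁻¹ * u : unip hA x)) : G) • y = y := by
            rw [Subgroup.coe_mul, InvMemClass.coe_inv, mul_smul, h', inv_smul_smul]
          have h2 := eq_one_of_two_fix hA (u'⁻¹ * u).2.2 hyx.symm (u'⁻¹ * u).2.1 h1
          exact (inv_mul_eq_one.1 (Subtype.ext h2 : u'⁻¹ * u = 1)).symm
        · exfalso
          obtain ⟨v, hv, hv2⟩ := hstabU ((s' : G)⁻¹ * u) (mul_mem (inv_mem s'.2) u.2.1)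
          exact hzU v hv (by rw [hv2, mul_smul, h', inv_smul_smul])
        · exact absurd (hux _ s.2 z h') hzx
        · exfalso
          obtain ⟨v, hv, hv2⟩ := hstabU ((s : G)⁻¹ * u') (mul_mem (inv_mem s.2) u'.2.1)
          exact hzU v hv (by rw [hv2, mul_smul, ← h', inv_smul_smul])
        · refine congrArg (some ∘ Sum.inr) ?_
          have h1 : ((s'⁻¹ * s : stabilizer G x) : G) • z = z := by
            rw [Subgroup.coe_mul, InvMemClass.coe_inv, mul_smul, h', inv_smul_smul]
          exact (inv_mul_eq_one.1 (Subtype.ext (hreg _ (s'⁻¹ * s).2 h1) : s'⁻¹ * s = 1)).symm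
      have h := Nat.card_le_card_of_injective F hinj
      rw [Finite.card_option, Nat.card_sum, hst, ← hQ, ← hf] at h
      omega
    have haf : a = f * (Q - 2) + 2 := by
      rw [Nat.mul_sub, mul_comm f 2]
      have := Nat.mul_le_mul_left f hQ2
      omega
    obtain ⟨hQ3, hc2, he5, hf10⟩ := large_orbit_arith hcQ hc1 hbig
      (show e * (f * (Q - 2) + 2) = f * (Q * c) by rw [← haf, mul_comm e, hma, hm])
    refine ⟨?_, nonempty_mulEquiv_alternating_five_of_spectrum ?_ ?_⟩
    · obtain ⟨n, hn⟩ := IsPGroup.iff_card.1 (isPGroup_unip hA x)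
      rw [← hQ, hQ3] at hn
      have hn0 : n ≠ 0 := fun e => by rw [e, pow_zero] at hn; omega
      exact (Nat.prime_dvd_prime_iff_eq Fact.out Nat.prime_three).1 (hn ▸ dvd_pow_self p hn0)
    · rw [← hN, ← hm, hQ3, hc2, hf10]
    intro g
    rcases eq_or_ne g 1 with rfl | hg
    · exact Or.inl (one_pow _)
    obtain ⟨v, hv⟩ := hA.exists_fix g hg
    rcases hrep v with ⟨k, hk⟩ | ⟨k, hk⟩ <;> change k • _ = v at hk
    · have h1 : (k⁻¹ * g * k⁻¹⁻¹) • x = x := by
        rw [inv_inv, mul_smul, mul_smul, hk, hv, ← hk, inv_smul_smul]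
      by_cases hp' : (k⁻¹ * g * k⁻¹⁻¹) ^ p = 1
      · have hm' : k⁻¹ * g * k⁻¹⁻¹ ∈ unip hA x := ⟨h1, hp'⟩
        have h2 := congrArg Subtype.val (pow_card_eq_one' (x := (⟨_, hm'⟩ : unip hA x)))
        rw [← hQ, hQ3] at h2
        change (k⁻¹ * g * k⁻¹⁻¹) ^ 3 = 1 at h2
        rw [conj_pow, conj_eq_one_iff] at h2
        exact Or.inr (Or.inl h2)
      · obtain ⟨z', hz'x, hz'⟩ := exists_second_fix hA hp' h1
        obtain ⟨u, hu, rfl⟩ := hsecond _ h1 hp' z' hz'x hz'
        have hm' : u⁻¹ * (k⁻¹ * g * k⁻¹⁻¹) * u⁻¹⁻¹ ∈ (stabilizer G x ⊓ stabilizer G y : Subgroup G) := by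
          refine ⟨?_, ?_⟩ <;> rw [inv_inv (G := G) (a := u)]
          · show (u⁻¹ * (k⁻¹ * g * k⁻¹⁻¹) * u) • x = x
            rw [mul_smul, mul_smul, hu.1, h1, inv_smul_eq_iff, hu.1]
          · show (u⁻¹ * (k⁻¹ * g * k⁻¹⁻¹) * u) • y = y
            rw [mul_smul, mul_smul, hz', inv_smul_smul]
        have h2 := congrArg Subtype.val
          (pow_card_eq_one' (x := (⟨_, hm'⟩ : (stabilizer G x ⊓ stabilizer G y : Subgroup G))))
        rw [← hc, hc2] at h2
        change (u⁻¹ * (k⁻¹ * g * k⁻¹⁻¹) * u⁻¹⁻¹) ^ 2 = 1 at h2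
        rw [conj_pow, conj_eq_one_iff, conj_pow, conj_eq_one_iff] at h2
        exact Or.inl h2
    · have h1 : k⁻¹ * g * k⁻¹⁻¹ ∈ stabilizer G w := by
        rw [inv_inv, mem_stabilizer_iff, mul_smul, mul_smul, hk, hv, ← hk, inv_smul_smul]
      have h2 := congrArg Subtype.val (pow_card_eq_one' (x := (⟨_, h1⟩ : stabilizer G w)))
      rw [← he, he5] at h2
      change (k⁻¹ * g * k⁻¹⁻¹) ^ 5 = 1 at h2
      rw [conj_pow, conj_eq_one_iff] at h2
      exact Or.inr (Or.inr h2)
  right
  push Not at hZ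
  have hall : ∀ v ∈ orbit G x, v = x ∨ ∃ u ∈ unip hA x, v = u • y := by
    intro v hv
    rcases eq_or_ne v x with h | h
    · exact Or.inl h
    · obtain ⟨u, hu, hu2⟩ := hZ v hv h
      exact Or.inr ⟨u, hu, hu2.symm⟩
  refine ⟨y, hyx, hyO, ?_, fun g => hall _ (mem_orbit x g),
    fun g => hall _ (mem_orbit_of_mem_orbit g hyO), hc1, by omega, ?_⟩
  · obtain ⟨g, hg⟩ := hyO
    change g • x = y at hg
    have hne : g⁻¹ • x ≠ x := fun e1 => hyx (by rw [← hg]; exact (smul_eq_iff_eq_inv_smul g).2 e1.symm)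
    obtain ⟨u, hu, hu2⟩ := (hall _ (mem_orbit x g⁻¹)).resolve_left hne
    refine ⟨g * u, by rw [mul_smul, hu.1, hg], ?_⟩
    rw [mul_smul, ← hu2, smul_inv_smul]
  · let F : Option (unip hA x) → orbit G x := fun o => match o with
      | none => ⟨x, mem_orbit_self x⟩
      | some u => ⟨(u : G) • y, mem_orbit_of_mem_orbit _ hyO⟩
    have hF : Function.Bijective F := by
      constructor
      · rintro (_ | u) (_ | u') h <;> have h' := congrArg Subtype.val h <;> simp only [F] at h'
        · rfl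
        · exact absurd (smul_left_cancel _ (h'.symm.trans u'.2.1.symm)) hyx
        · exact absurd (smul_left_cancel _ (h'.trans u.2.1.symm)) hyx
        · refine congrArg some ?_
          have h1 : (((u'⁻¹ * u : unip hA x)) : G) • y = y := by
            rw [Subgroup.coe_mul, InvMemClass.coe_inv, mul_smul, h', inv_smul_smul]
          have h2 := eq_one_of_two_fix hA (u'⁻¹ * u).2.2 hyx.symm (u'⁻¹ * u).2.1 h1
          exact (inv_mul_eq_one.1 (Subtype.ext h2 : u'⁻¹ * u = 1)).symm
      · rintro ⟨v, hv⟩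
        rcases hall v hv with rfl | ⟨u, hu, rfl⟩
        · exact ⟨none, rfl⟩
        · exact ⟨some ⟨u, hu⟩, rfl⟩
    rw [← hm, hf, ← Nat.card_eq_of_bijective F hF, Finite.card_option]

end CfsgLib.PSL2
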