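import Cfsg.Agent.Lib.PSL2.MaxExceptional

/-!
Subgroups of `PSL₂(q)` conjugate into subfield subgroups.
-/

set_option autoImplicit false
set_option linter.unusedSectionVars false

open Matrix

namespace CfsgLib.PSL2

variable {F : Type*} [Field F] [Fintype F]

local notation "PGL" => ProjGenLinGroup (Fin 2) F
local notation "PSL" => ProjectiveSpecialLinearGroup (Fin 2) F

/-- Conjugation by an element of `PGL₂` as an automorphism of `PSL₂`. -/
noncomputable def pslConj (k : PGL) : PSL ≃* PSL :=
  pslEquiv.trans ((MulAut.conjNormal k : MulAut (pslImage F)).trans pslEquiv.symm)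

theorem coe_pslEquiv (x : PSL) : (pslEquiv x : PGL) = ProjectiveSpecialLinearGroup.toPGL x := rfl

theorem toPGL_pslConj (k : PGL) (x : PSL) :
    ProjectiveSpecialLinearGroup.toPGL (pslConj k x) =
      k * ProjectiveSpecialLinearGroup.toPGL x * k⁻¹ := by
  rw [← coe_pslEquiv, pslConj, MulEquiv.trans_apply, MulEquiv.trans_apply, MulEquiv.apply_symm_apply,
    MulAut.conjNormal_apply, coe_pslEquiv]

theorem map_pslConj (k : PGL) (N : Subgroup PSL) :
    (N.map (pslConj k).toMonoidHom).map ProjectiveSpecialLinearGroup.toPGL =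
      (N.map ProjectiveSpecialLinearGroup.toPGL).map (MulAut.conj k).toMonoidHom := by
  rw [Subgroup.map_map, Subgroup.map_map]
  congr 1
  ext x
  exact toPGL_pslConj k x

theorem isCoatom_map_iff {G : Type*} [Group G] (e : G ≃* G) (N : Subgroup G) :
    IsCoatom (N.map e.toMonoidHom) ↔ IsCoatom N :=
  (OrderIso.isCoatom_iff (MulEquiv.mapSubgroup e) N)

/-- Every element of a subfield is fixed by the corresponding power map, and conversely. -/
theorem mem_fieldRange_of_pow {K : Type*} [Field K] [Fintype K] (ι : K →+* F) {x : F}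
    (hx : x ^ Fintype.card K = x) : x ∈ ι.fieldRange := by
  classical
  by_contra hne
  let P : Polynomial F := Polynomial.X ^ Fintype.card K - Polynomial.X
  have hdeg : P.natDegree = Fintype.card K :=
    FiniteField.X_pow_card_sub_X_natDegree_eq _ Fintype.one_lt_card
  have hP : P ≠ 0 := FiniteField.X_pow_card_sub_X_ne_zero _ Fintype.one_lt_card
  have hsub : insert x (Finset.univ.image ι) ⊆ P.roots.toFinset := by
    intro y hy
    rw [Multiset.mem_toFinset, Polynomial.mem_roots hP, Polynomial.IsRoot]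
    simp only [P, Polynomial.eval_sub, Polynomial.eval_pow, Polynomial.eval_X]
    rcases Finset.mem_insert.1 hy with rfl | hy
    · rw [hx, sub_self]
    · obtain ⟨a, -, rfl⟩ := Finset.mem_image.1 hy
      rw [← map_pow, FiniteField.pow_card, sub_self]
  have h := (Finset.card_le_card hsub).trans ((Multiset.toFinset_card_le _).trans (Polynomial.card_roots' P))
  rw [Finset.card_insert_of_notMem (fun hm => hne (by
      obtain ⟨a, -, rfl⟩ := Finset.mem_image.1 hm
      exact ⟨a, rfl⟩)), Finset.card_image_of_injective _ ι.injective, Finset.card_univ, hdeg] at h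
  omega

theorem pow_card_pow {K : Type*} [Field K] [Fintype K] (x : K) (i : ℕ) :
    x ^ Fintype.card K ^ i = x := by
  induction i with
  | zero => simp
  | succ i ih => rw [pow_succ, pow_mul, ih, FiniteField.pow_card]

/-- A subfield lies in the subfield of order a power of its order. -/
theorem pglSub_le_of_pow {K K' : Type*} [Field K] [Fintype K] [Field K'] [Fintype K'] (ι : K →+* F)
    (j : K' →+* F) {i : ℕ} (h : Fintype.card K' ^ i = Fintype.card K) : pglSub j ≤ pglSub ι :=
  pglSub_mono j ι fun a => mem_fieldRange_of_pow ι (by rw [← map_pow, ← h, pow_card_pow])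

/-- A maximal subgroup defined over a proper subfield is a subfield subgroup. -/
theorem coatom_defined_over {M : Subgroup PSL} (hM : IsCoatom M) {K' : Type*} [Field K'] [Fintype K']
    (j : K' →+* F) {m : ℕ} (hm : Fintype.card K' ^ m = Fintype.card F) (hm1 : 1 < m) {k : PGL}
    (hle : M.map ProjectiveSpecialLinearGroup.toPGL ≤ (pglSub j).map (MulAut.conj k).toMonoidHom) :
    ∃ (F₀ : Type) (_ : Field F₀) (_ : Fintype F₀) (r : ℕ), r.Prime ∧
      Fintype.card F₀ ^ r = Fintype.card F ∧
      ((Odd r ∨ Even (Fintype.card F)) → Nonempty (M ≃* ProjectiveSpecialLinearGroup (Fin 2) F₀)) ∧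
      (r = 2 → Odd (Fintype.card F) → Nonempty (M ≃* ProjGenLinGroup (Fin 2) F₀)) := by
  classical
  obtain ⟨r, hr, l, rfl⟩ : ∃ r, r.Prime ∧ r ∣ m :=
    ⟨m.minFac, Nat.minFac_prime (by omega), Nat.minFac_dvd m⟩
  obtain ⟨p, hp⟩ := CharP.exists K'
  have : Fact p.Prime := ⟨CharP.char_is_prime K' p⟩
  obtain ⟨a, -, ha⟩ := FiniteField.card K' p
  have hl : l ≠ 0 := by rintro rfl; simp at hm1
  have : Fintype (GaloisField p (a * l)) := Fintype.ofFinite _
  have hc : Fintype.card (GaloisField p (a * l)) = Fintype.card K' ^ l := by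
    rw [← Nat.card_eq_fintype_card, GaloisField.card p _ (Nat.mul_ne_zero a.ne_zero hl), ha, pow_mul]
  have hcr : Fintype.card (GaloisField p (a * l)) ^ r = Fintype.card F := by
    rw [hc, ← pow_mul, mul_comm l r, hm]
  obtain ⟨ι⟩ := exists_fieldHom hcr
  refine ⟨GaloisField p (a * l), inferInstance, inferInstance, r, hr, hcr, ?_⟩
  have hT : pslSub ι ≠ ⊤ := pslSub_ne_top ι hr hcr
  have hle' : M ≤ (pslSub ι).map (pslConj k).toMonoidHom := by
    intro x hx
    obtain ⟨g, hg, hge⟩ := hle ⟨x, hx, rfl⟩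
    have hgI : g ∈ pslImage F := by
      have h1 := pslImage_normal.conj_mem _ (map_toPGL_le M ⟨x, hx, rfl⟩) k⁻¹
      rw [← hge] at h1
      simpa [mul_assoc] using h1
    obtain ⟨y, hy⟩ := range_toPGL.ge hgI
    refine ⟨y, ?_, ProjectiveSpecialLinearGroup.toPGL_injective ?_⟩
    · show ProjectiveSpecialLinearGroup.toPGL y ∈ pglSub ι
      rw [hy]
      exact pglSub_le_of_pow ι j hc.symm hg
    · rw [← hge, ← hy]
      exact toPGL_pslConj k y
  have hne : (pslSub ι).map (pslConj k).toMonoidHom ≠ ⊤ := by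
    rw [Ne, ← Subgroup.map_top_of_surjective (pslConj k).toMonoidHom (pslConj k).surjective,
      (Subgroup.map_injective (f := (pslConj k).toMonoidHom) (pslConj k).injective).eq_iff]
    exact hT
  have heq : M = (pslSub ι).map (pslConj k).toMonoidHom := by
    rcases hle'.eq_or_lt with h | h
    · exact h
    · exact absurd (hM.2 _ h) hne
  let e : M ≃* pslSub ι := (MulEquiv.subgroupCongr heq).trans
    (Subgroup.equivMapOfInjective _ _ (pslConj k).injective).symm
  refine ⟨fun h => ?_, fun h ho => ?_⟩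
  · obtain ⟨e'⟩ := nonempty_pslSub_equiv_psl ι hcr h.symm
    exact ⟨e.trans e'⟩
  · obtain ⟨e'⟩ := nonempty_pslSub_equiv_pgl ι ho hcr (h ▸ even_two)
    exact ⟨e.trans e'⟩

theorem pgl_map_pmk {K : Type*} [Field K] (j : K →+* F) (A : Matrix (Fin 2) (Fin 2) K) (hA : A.det ≠ 0)
    (hA' : (A.map j).det ≠ 0) : ProjGenLinGroup.map j (pmk A hA) = pmk (A.map j) hA' := by
  rw [pmk, pmk, ProjGenLinGroup.map_mk]
  exact congrArg _ (Units.ext rfl)

theorem QPair.map {K : Type*} [Field K] (j : K →+* F) {I J : Matrix (Fin 2) (Fin 2) K} (h : QPair I J) :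
    QPair (j.mapMatrix I) (j.mapMatrix J) where
  hI := by rw [← map_mul, h.hI, map_neg, map_one]
  hJ := by rw [← map_mul, h.hJ, map_neg, map_one]
  hIJ := by rw [← map_mul, h.hIJ, map_neg, map_mul]

theorem pmk_mem_pglSub {K : Type*} [Field K] [Fintype K] (j : K →+* F) (A : Matrix (Fin 2) (Fin 2) K)
    (hA' : (j.mapMatrix A).det ≠ 0) : pmk (j.mapMatrix A) hA' ∈ pglSub j := by
  have hA : A.det ≠ 0 := fun e => hA' (by rw [← RingHom.map_det, e, map_zero])
  exact ⟨pmk A hA, pgl_map_pmk j A hA hA'⟩

/-- The normaliser of a rational Klein four-group is rational. -/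
theorem normV_le_pglSub {K : Type*} [Field K] [Fintype K] (j : K →+* F) {I J : Matrix (Fin 2) (Fin 2) K}
    (h2 : (2 : F) ≠ 0) (h : QPair I J) : (h.map j).normV h2 ≤ pglSub j := by
  intro g hg
  obtain ⟨a, b, v, hv, e⟩ := (h.map j).exists_decomp h2 ⟨g, hg⟩
  have e' := congrArg Subtype.val e
  change g = _ at e'
  rw [e', Subgroup.coe_mul, Subgroup.coe_mul, SubmonoidClass.coe_pow, SubmonoidClass.coe_pow]
  have hr : (h.map j).rElt h2 ∈ pglSub j := by
    rw [QPair.rElt]
    generalize_proofs hp
    revert hp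
    rw [← map_mul, ← map_add, ← map_add, ← map_one j.mapMatrix, ← map_add]
    intro hp
    exact pmk_mem_pglSub j _ hp
  have hs : (h.map j).sElt h2 ∈ pglSub j := by
    rw [QPair.sElt]
    generalize_proofs hp
    revert hp
    rw [← map_one j.mapMatrix, ← map_add]
    intro hp
    exact pmk_mem_pglSub j _ hp
  refine mul_mem ?_ (mul_mem (pow_mem hr a) (pow_mem hs b))
  rcases ((h.map j).mem_ker_normHom h2).1 hv with e1 | e1 | e1 | e1 <;> rw [e1]
  · exact one_mem _
  · exact pmk_mem_pglSub j I _
  · exact pmk_mem_pglSub j J _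
  · rw [QPair.ek]
    generalize_proofs hp
    revert hp
    rw [← map_mul]
    intro hp
    exact pmk_mem_pglSub j _ hp

end CfsgLib.PSL2
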