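import Cfsg.Agent.Lib.PSL2.Klein

/-!
Klein four-subgroups, `A₄` and `S₄` inside `PSL₂(q)`.
-/

set_option autoImplicit false
set_option linter.unusedSectionVars false

open Matrix

namespace CfsgLib.PSL2

variable {F : Type*} [Field F] [Fintype F]

local notation "PSL" => ProjectiveSpecialLinearGroup (Fin 2) F
local notation "PGL" => ProjGenLinGroup (Fin 2) F

theorem map_toPGL_le (V : Subgroup PSL) : V.map ProjectiveSpecialLinearGroup.toPGL ≤ pslImage F :=
  (Subgroup.map_le_range _ V).trans range_toPGL.le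

theorem map_comap_toPGL {W : Subgroup PGL} (hW : W ≤ pslImage F) :
    (W.comap ProjectiveSpecialLinearGroup.toPGL).map ProjectiveSpecialLinearGroup.toPGL = W :=
  Subgroup.map_comap_eq_self (hW.trans range_toPGL.ge)

theorem comap_map_toPGL (V : Subgroup PSL) :
    (V.map ProjectiveSpecialLinearGroup.toPGL).comap ProjectiveSpecialLinearGroup.toPGL = V :=
  Subgroup.comap_map_eq_self_of_injective ProjectiveSpecialLinearGroup.toPGL_injective V

/-- A subgroup of `pslImage` as a subgroup of `PSL₂`. -/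
theorem nonempty_comap_toPGL_equiv {W : Subgroup PGL} (hW : W ≤ pslImage F) :
    Nonempty (W.comap (ProjectiveSpecialLinearGroup.toPGL (n := Fin 2) (R := F)) ≃* W) :=
  ⟨(Subgroup.equivMapOfInjective _ _ ProjectiveSpecialLinearGroup.toPGL_injective).trans
    (MulEquiv.subgroupCongr (map_comap_toPGL hW))⟩

theorem isKleinFour_comap_toPGL {W : Subgroup PGL} (hW : W ≤ pslImage F) (h : IsKleinFour W) :
    IsKleinFour (W.comap (ProjectiveSpecialLinearGroup.toPGL (n := Fin 2) (R := F))) where
  card_four := by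
    obtain ⟨e⟩ := nonempty_comap_toPGL_equiv hW
    rw [Nat.card_congr e.toEquiv, h.card_four]
  exponent_two := by
    obtain ⟨e⟩ := nonempty_comap_toPGL_equiv hW
    rw [Monoid.exponent_eq_of_mulEquiv e, h.exponent_two]

/-- Klein four-subgroups of `PSL₂` and of `pslImage`. -/
noncomputable def kleinEquiv : {V : Subgroup PSL // IsKleinFour V} ≃
    {W : Subgroup PGL // W ≤ pslImage F ∧ IsKleinFour W} where
  toFun V := ⟨V.1.map ProjectiveSpecialLinearGroup.toPGL, map_toPGL_le _,
    isKleinFour_map _ ProjectiveSpecialLinearGroup.toPGL_injective V.2⟩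
  invFun W := ⟨W.1.comap ProjectiveSpecialLinearGroup.toPGL, isKleinFour_comap_toPGL W.2.1 W.2.2⟩
  left_inv V := Subtype.ext (comap_map_toPGL _)
  right_inv W := Subtype.ext (map_comap_toPGL W.2.1)

theorem map_conj_toPGL (V : Subgroup PSL) (g : PSL) :
    (V.map (MulAut.conj g).toMonoidHom).map ProjectiveSpecialLinearGroup.toPGL =
      (V.map ProjectiveSpecialLinearGroup.toPGL).map
        (MulAut.conj (ProjectiveSpecialLinearGroup.toPGL g)).toMonoidHom := by
  rw [Subgroup.map_map, Subgroup.map_map]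
  congr 1
  ext x
  simp

/-- Conjugation by an element of `pslImage` is conjugation in `PSL₂`. -/
theorem exists_conj_of_mem {V W : Subgroup PSL} {g : PGL} (hg : g ∈ pslImage F)
    (h : W.map ProjectiveSpecialLinearGroup.toPGL =
      (V.map ProjectiveSpecialLinearGroup.toPGL).map (MulAut.conj g).toMonoidHom) :
    ∃ g : PSL, W = V.map (MulAut.conj g).toMonoidHom := by
  obtain ⟨x, rfl⟩ : g ∈ (ProjectiveSpecialLinearGroup.toPGL (n := Fin 2) (R := F)).range := by
    rwa [range_toPGL]
  exact ⟨x, Subgroup.map_injective ProjectiveSpecialLinearGroup.toPGL_injective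
    (by rw [h, map_conj_toPGL])⟩

theorem exists_conj_iff (V W : Subgroup PSL) :
    (∃ g : PSL, W = V.map (MulAut.conj g).toMonoidHom) ↔ ∃ g ∈ pslImage F,
      W.map ProjectiveSpecialLinearGroup.toPGL =
        (V.map ProjectiveSpecialLinearGroup.toPGL).map (MulAut.conj g).toMonoidHom := by
  constructor
  · rintro ⟨g, rfl⟩
    exact ⟨_, range_toPGL.le ⟨g, rfl⟩, map_conj_toPGL V g⟩
  · rintro ⟨g, hg, h⟩
    exact exists_conj_of_mem hg h

theorem three_cycle_mem {G : Type*} [Group G] {L : Subgroup G} [L.Normal] (hL : L.index ∣ 2) {x : G}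
    (hx : x ^ 3 = 1) : x ∈ L := by
  have h1 : x ^ 2 ∈ L := by
    rcases (Nat.dvd_prime Nat.prime_two).1 hL with h | h
    · rw [Subgroup.index_eq_one.1 h]; trivial
    · exact Subgroup.sq_mem_of_index_two h x
  have h2 : x = (x ^ 2) ^ 2 := by
    rw [← pow_mul, show 2 * 2 = 3 + 1 from rfl, pow_succ, hx, one_mul]
  rw [h2]
  exact pow_mem h1 2

/-- A homomorphic image of `A₄` lies in a normal subgroup of index at most two. -/
theorem alternating_map_le {G : Type*} [Group G] {L : Subgroup G} [L.Normal] (hL : L.index ∣ 2)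
    (f : Equiv.Perm (Fin 4) →* G) : (alternatingGroup (Fin 4)).map f ≤ L := by
  rw [← Equiv.Perm.closure_three_cycles_eq_alternating, MonoidHom.map_closure, Subgroup.closure_le]
  rintro _ ⟨σ, hσ, rfl⟩
  refine three_cycle_mem hL ?_
  rw [← map_pow, ← (Equiv.Perm.IsThreeCycle.orderOf hσ), pow_orderOf_eq_one, map_one]

theorem index_pslImage_dvd_two : (pslImage F).index ∣ 2 := by
  rw [index_pslImage]
  exact Nat.gcd_dvd_left _ _

/-- `A₄ ≤ PSL₂(q)` for odd `q`. -/
theorem exists_alt_four_psl (h2 : (2 : F) ≠ 0) :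
    ∃ H : Subgroup PSL, Nonempty (H ≃* alternatingGroup (Fin 4)) := by
  obtain ⟨I, J, h⟩ := exists_qpair h2
  obtain ⟨e⟩ := h.normV_equiv_symm h2
  let f : Equiv.Perm (Fin 4) →* PGL := (h.normV h2).subtype.comp e.symm.toMonoidHom
  have hf : Function.Injective f := (h.normV h2).subtype_injective.comp e.symm.injective
  obtain ⟨e'⟩ := nonempty_comap_toPGL_equiv (alternating_map_le index_pslImage_dvd_two f)
  exact ⟨_, ⟨e'.trans (Subgroup.equivMapOfInjective _ f hf).symm⟩⟩

/-- `S₄ ≤ PSL₂(q)` when `2` is a square. -/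
theorem exists_symm_four_psl (h2 : (2 : F) ≠ 0) (hsq : IsSquare (2 : F)) :
    ∃ H : Subgroup PSL, Nonempty (H ≃* Equiv.Perm (Fin 4)) := by
  obtain ⟨I, J, h⟩ := exists_qpair h2
  obtain ⟨e⟩ := h.normV_equiv_symm h2
  obtain ⟨e'⟩ := nonempty_comap_toPGL_equiv (h.normV_le_pslImage h2 hsq)
  exact ⟨_, ⟨e'.trans e⟩⟩

/-- A copy of `S₄` in `PSL₂(q)`, `q` odd, forces `2` to be a square. -/
theorem isSquare_two_of_symm_four (h2 : (2 : F) ≠ 0) {H : Subgroup PGL} (hH : H ≤ pslImage F)
    (e : H ≃* Equiv.Perm (Fin 4)) : IsSquare (2 : F) := by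
  classical
  let K : Subgroup (Equiv.Perm (Fin 4)) := (alternatingGroup.kleinFour (Fin 4)).map (Subgroup.subtype _)
  have h4 : Nat.card (Fin 4) = 4 := Nat.card_fin 4
  have hchar := alternatingGroup.characteristic_kleinFour h4
  have hKn : K.Normal := inferInstance
  have hK4 : IsKleinFour K :=
    isKleinFour_map _ (Subgroup.subtype_injective _) (alternatingGroup.kleinFour_isKleinFour h4)
  let f : Equiv.Perm (Fin 4) →* PGL := H.subtype.comp e.symm.toMonoidHom
  have hf : Function.Injective f := H.subtype_injective.comp e.symm.injective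
  have hrange : f.range = H := by
    rw [MonoidHom.range_comp, MonoidHom.range_eq_top.2 e.symm.surjective, ← MonoidHom.range_eq_map,
      Subgroup.range_subtype]
  obtain ⟨I, J, h, hV⟩ := exists_qpair_of_klein h2
    (show K.map f ≤ pslImage F from ((Subgroup.map_le_range f K).trans hrange.le).trans hH)
    (isKleinFour_map f hf hK4)
  have hle : H ≤ h.normV h2 := by
    intro x hx
    rw [← hrange] at hx
    obtain ⟨s, rfl⟩ := hx
    rw [QPair.normV, mem_normalizer_iff_map_eq, ← hV, Subgroup.map_map,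
      show (MulAut.conj (f s)).toMonoidHom.comp f = f.comp (MulAut.conj s).toMonoidHom by ext; simp,
      ← Subgroup.map_map]
    congr 1
    exact (mem_normalizer_iff_map_eq K s).1 (by rw [Subgroup.normalizer_eq_top_iff.2 hKn]; trivial)
  have hfin := h.finite_normV h2
  have hc : Nat.card H = 24 := by
    rw [Nat.card_congr e.toEquiv, Nat.card_perm, Nat.card_fin]; rfl
  have heq := Subgroup.eq_of_le_of_card_ge hle (by rw [hc, h.card_normV h2])
  exact (h.sElt_mem_pslImage_iff h2).1 (hH (by rw [heq]; exact h.sElt_mem h2))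

end CfsgLib.PSL2
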