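import Mathlib

/-!
Finite groups acting like subgroups of `PGL₂` on a projective line over a field of
characteristic `p`: abstract hypotheses and first consequences.
-/

set_option autoImplicit false
set_option linter.unusedSectionVars false

open MulAction

namespace CfsgLib.PSL2

universe v

variable (p : ℕ) (K : Type v) [Field K]
variable (G : Type*) [Group G] (X : Type*) [MulAction G X]

/-- The hypotheses satisfied by a finite subgroup of `PGL₂(K)`, acting on the set of points of the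
projective line over an algebraically closed field that have non-trivial stabiliser. -/
structure IsLineAction : Prop where
  exists_fix : ∀ g : G, g ≠ 1 → ∃ x : X, g • x = x
  fix_le_two : ∀ g : G, g ≠ 1 → ∀ x y z : X, g • x = x → g • y = y → g • z = z → x = y ∨ x = z ∨ y = z
  pow_eq_one_iff : ∀ g : G, g ≠ 1 → (g ^ p = 1 ↔ ∀ x y : X, g • x = x → g • y = y → x = y)
  stab_hom : ∀ x : X, ∃ χ : stabilizer G x →* Kˣ, ∀ g : stabilizer G x, χ g = 1 ↔ (g : G) ^ p = 1
  nontrivial_stab : ∀ x : X, ∃ g : G, g ≠ 1 ∧ g • x = x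

variable {p K G X} [Fact p.Prime] [CharP K p] (hA : IsLineAction p K G X)
include hA

/-- The elements of order dividing `p` fixing `x`. -/
def unip (x : X) : Subgroup G where
  carrier := {g | g • x = x ∧ g ^ p = 1}
  one_mem' := ⟨one_smul _ _, one_pow _⟩
  mul_mem' := fun {a b} ha hb => by
    obtain ⟨χ, hχ⟩ := hA.stab_hom x
    refine ⟨by rw [mul_smul, hb.1, ha.1], ?_⟩
    have h := (hχ (⟨a, ha.1⟩ * ⟨b, hb.1⟩)).1 (by
      rw [map_mul, (hχ ⟨a, ha.1⟩).2 ha.2, (hχ ⟨b, hb.1⟩).2 hb.2, one_mul])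
    exact h
  inv_mem' := fun {a} ha => ⟨inv_smul_eq_iff.2 ha.1.symm, by rw [inv_pow, ha.2, inv_one]⟩

theorem mem_unip {x : X} {g : G} : g ∈ unip hA x ↔ g • x = x ∧ g ^ p = 1 := Iff.rfl

theorem unip_le (x : X) : unip hA x ≤ stabilizer G x := fun _ h => h.1

theorem eq_one_of_two_fix {g : G} (hp : g ^ p = 1) {x y : X} (hxy : x ≠ y) (hx : g • x = x)
    (hy : g • y = y) : g = 1 := by
  by_contra h
  exact hxy ((hA.pow_eq_one_iff g h).1 hp x y hx hy)

theorem exists_second_fix {g : G} (hp : g ^ p ≠ 1) {x : X} (hx : g • x = x) :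
    ∃ y, y ≠ x ∧ g • y = y := by
  have h1 : g ≠ 1 := fun h => hp (by rw [h, one_pow])
  obtain ⟨a, b, ha, hb, hab⟩ : ∃ a b : X, g • a = a ∧ g • b = b ∧ a ≠ b := by
    by_contra h
    exact hp ((hA.pow_eq_one_iff g h1).2 fun a b ha hb => by
      by_contra hab
      exact h ⟨a, b, ha, hb, hab⟩)
  rcases eq_or_ne a x with rfl | hax
  · exact ⟨b, hab.symm, hb⟩
  · exact ⟨a, hax, ha⟩

theorem fix_eq_pair {g : G} (h1 : g ≠ 1) {x y : X} (hxy : x ≠ y) (hx : g • x = x) (hy : g • y = y)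
    {z : X} (hz : g • z = z) : z = x ∨ z = y := by
  rcases hA.fix_le_two g h1 x y z hx hy hz with h | h | h
  · exact absurd h hxy
  · exact Or.inl h.symm
  · exact Or.inr h.symm

/-- Two elements fixing the same two points commute. -/
theorem commute_of_two_fix {g h : G} {x y : X} (hxy : x ≠ y) (hgx : g • x = x) (hgy : g • y = y)
    (hhx : h • x = x) (hhy : h • y = y) : g * h = h * g := by
  obtain ⟨χ, hχ⟩ := hA.stab_hom x
  let a : stabilizer G x := ⟨g, hgx⟩
  let b : stabilizer G x := ⟨h, hhx⟩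
  have hp : ((a * b * a⁻¹ * b⁻¹ : stabilizer G x) : G) ^ p = 1 := (hχ _).1 (by
    rw [map_mul, map_mul, map_mul, map_inv, map_inv, mul_right_comm (χ a), mul_inv_cancel, one_mul,
      mul_inv_cancel])
  have hfix : (g * h * g⁻¹ * h⁻¹) • y = y := by
    rw [mul_smul, mul_smul, mul_smul, inv_smul_eq_iff.2 hhy.symm, inv_smul_eq_iff.2 hgy.symm, hhy, hgy]
  have h1 := eq_one_of_two_fix hA hp hxy (a * b * a⁻¹ * b⁻¹ : stabilizer G x).2 hfix
  have h2 : g * h * g⁻¹ * h⁻¹ = 1 := h1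
  rwa [mul_inv_eq_one, mul_inv_eq_iff_eq_mul] at h2

/-- The stabiliser of two points is cyclic of order prime to `p`. -/
theorem isCyclic_two_stab [Finite G] {x y : X} (hxy : x ≠ y) :
    IsCyclic (stabilizer G x ⊓ stabilizer G y : Subgroup G) := by
  obtain ⟨χ, hχ⟩ := hA.stab_hom x
  let ι : (stabilizer G x ⊓ stabilizer G y : Subgroup G) →* stabilizer G x :=
    Subgroup.inclusion inf_le_left
  refine isCyclic_of_subgroup_isDomain ((Units.coeHom K).comp (χ.comp ι)) ?_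
  intro a b hab
  have h1 : χ (ι a) = χ (ι b) := Units.ext hab
  have hp : ((a * b⁻¹ : (stabilizer G x ⊓ stabilizer G y : Subgroup G)) : G) ^ p = 1 :=
    (hχ (ι (a * b⁻¹))).1 (by rw [map_mul, map_inv, map_mul, map_inv, h1, mul_inv_cancel])
  have h2 := eq_one_of_two_fix hA hp hxy (a * b⁻¹).2.1 (a * b⁻¹).2.2
  exact mul_inv_eq_one.1 (Subtype.ext h2)

theorem pow_ne_one_of_two_fix {g : G} (h1 : g ≠ 1) {x y : X} (hxy : x ≠ y) (hx : g • x = x)
    (hy : g • y = y) : g ^ p ≠ 1 := fun hp => h1 (eq_one_of_two_fix hA hp hxy hx hy)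

/-- An element commuting with an element with a unique fixed point fixes that point. -/
theorem fix_of_commute_unip {u h : G} (hu : u ≠ 1) (hup : u ^ p = 1) {x : X} (hx : u • x = x)
    (hc : h * u = u * h) : h • x = x := by
  have : u • (h • x) = h • x := by rw [← mul_smul, ← hc, mul_smul, hx]
  exact (hA.pow_eq_one_iff u hu).1 hup _ _ this hx

/-- Non-trivial elements of order dividing `p` do not commute with the other elements fixing
their point. -/
theorem eq_one_of_commute_unip {u h : G} (hu : u ≠ 1) (hup : u ^ p = 1) {x y : X} (hxy : x ≠ y)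
    (hux : u • x = x) (hhx : h • x = x) (hhy : h • y = y) (hc : h * u = u * h) : h = 1 := by
  by_contra h1
  have h2 : h • (u • y) = u • y := by rw [← mul_smul, hc, mul_smul, hhy]
  rcases fix_eq_pair hA h1 hxy hhx hhy h2 with e | e
  · exact hxy ((smul_left_cancel u (e.trans hux.symm))).symm
  · exact hu (eq_one_of_two_fix hA hup hxy hux e)

section Finite

variable [Finite G]

theorem isPGroup_unip (x : X) : IsPGroup p (unip hA x) := by
  intro g
  exact ⟨1, Subtype.ext (by rw [pow_one]; exact g.2.2)⟩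

/-- A `p`-element fixing a point has order dividing `p`. -/
theorem pow_eq_one_of_pgroup {a : G} {x : X} (ha : a • x = x) {k : ℕ} (hk : a ^ p ^ k = 1) :
    a ^ p = 1 := by
  obtain ⟨χ, hχ⟩ := hA.stab_hom x
  refine (hχ ⟨a, ha⟩).1 ?_
  have h1 : (χ ⟨a, ha⟩) ^ p ^ k = 1 := by
    rw [← map_pow, show (⟨a, ha⟩ : stabilizer G x) ^ p ^ k = 1 from Subtype.ext hk, map_one]
  have : ExpChar K p := ExpChar.prime Fact.out
  have h2 : ((χ ⟨a, ha⟩ : Kˣ) : K) ^ p ^ k = 1 := by
    rw [← Units.val_pow_eq_pow_val, h1, Units.val_one]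
  have h3 := (ExpChar.pow_prime_pow_mul_eq_one_iff p k 1 ((χ ⟨a, ha⟩ : Kˣ) : K)).1
    (by rw [mul_one]; exact h2)
  rw [pow_one] at h3
  exact Units.ext h3

/-- A Sylow subgroup containing a non-trivial element with a unique fixed point is the group of
all elements of order dividing `p` fixing that point. -/
theorem sylow_eq_unip {x : X} {u : G} (hu : u ∈ unip hA x) (hu1 : u ≠ 1) (P : Sylow p G)
    (huP : u ∈ P) : (P : Subgroup G) = unip hA x := by
  have hne : Nontrivial (P : Subgroup G) := ⟨⟨⟨u, huP⟩, 1, fun h => hu1 (congrArg Subtype.val h)⟩⟩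
  have := P.isPGroup'.center_nontrivial
  obtain ⟨z, hz⟩ := exists_ne (1 : Subgroup.center (P : Subgroup G))
  have hzc : ∀ a ∈ P, a * (z : (P : Subgroup G)).1 = (z : (P : Subgroup G)).1 * a := fun a ha =>
    congrArg Subtype.val (Subgroup.mem_center_iff.1 z.2 ⟨a, ha⟩)
  have hz1 : (z : (P : Subgroup G)).1 ≠ 1 := fun h => hz (Subtype.ext (Subtype.ext h))
  have hzx : (z : (P : Subgroup G)).1 • x = x :=
    fix_of_commute_unip hA hu1 hu.2 hu.1 (hzc u huP).symm
  obtain ⟨k, hk⟩ := P.isPGroup' (z : (P : Subgroup G))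
  have hzp := pow_eq_one_of_pgroup hA hzx (congrArg Subtype.val hk)
  have hle : (P : Subgroup G) ≤ unip hA x := by
    intro a ha
    have hax : a • x = x := fix_of_commute_unip hA hz1 hzp hzx (hzc a ha)
    obtain ⟨k, hk⟩ := P.isPGroup' ⟨a, ha⟩
    exact ⟨hax, pow_eq_one_of_pgroup hA hax (congrArg Subtype.val hk)⟩
  exact (P.is_maximal' (isPGroup_unip hA x) hle).symm

/-- The points carrying elements with a unique fixed point form one orbit. -/
theorem unip_points_conj {x y : X} (hx : unip hA x ≠ ⊥) (hy : unip hA y ≠ ⊥) :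
    ∃ g : G, g • x = y := by
  obtain ⟨⟨u, hu⟩, hu1⟩ := Subgroup.ne_bot_iff_exists_ne_one.1 hx
  obtain ⟨⟨v, hv⟩, hv1⟩ := Subgroup.ne_bot_iff_exists_ne_one.1 hy
  obtain ⟨P, hP⟩ := (isPGroup_unip hA x).exists_le_sylow
  obtain ⟨Q, hQ⟩ := (isPGroup_unip hA y).exists_le_sylow
  obtain ⟨g, hg⟩ := MulAction.exists_smul_eq G P Q
  have hu1' : u ≠ 1 := fun h => hu1 (Subtype.ext h)
  have hv1' : v ≠ 1 := fun h => hv1 (Subtype.ext h)
  have hQeq := sylow_eq_unip hA hv hv1' Q (hQ hv)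
  have h1 : g * u * g⁻¹ ∈ Q := by
    rw [← hg]
    exact ⟨u, hP hu, rfl⟩
  have h2 : g * u * g⁻¹ ∈ unip hA y := hQeq ▸ h1
  refine ⟨g, ?_⟩
  have h3 : g * u * g⁻¹ ≠ 1 := fun h => hu1' (by simpa using conj_eq_one_iff.1 h)
  refine (hA.pow_eq_one_iff _ h3).1 h2.2 _ _ ?_ h2.1
  rw [mul_smul, mul_smul, inv_smul_smul, hu.1]

/-- The stabiliser of a point is the product of the unipotent part and the stabiliser of a second
point. -/
theorem exists_torus {x : X} (h : ∃ g : G, g • x = x ∧ g ^ p ≠ 1) :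
    ∃ y : X, y ≠ x ∧ Nat.card (stabilizer G x) =
        Nat.card (unip hA x) * Nat.card (stabilizer G x ⊓ stabilizer G y : Subgroup G) ∧
      (∀ h : G, h • x = x → h ^ p ≠ 1 → ∀ z, z ≠ x → h • z = z → ∃ u ∈ unip hA x, u • y = z) ∧
      1 < Nat.card (stabilizer G x ⊓ stabilizer G y : Subgroup G) := by
  obtain ⟨χ, hχ⟩ := hA.stab_hom x
  have : Finite χ.range := Finite.of_surjective _ χ.rangeRestrict_surjective
  have hcyc : IsCyclic χ.range :=
    isCyclic_of_subgroup_isDomain ((Units.coeHom K).comp χ.range.subtype)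
      (Units.val_injective.comp χ.range.subtype_injective)
  obtain ⟨⟨e, ⟨g, rfl⟩⟩, hgen⟩ := hcyc.exists_generator
  obtain ⟨g₁, hg₁, hg₁p⟩ := h
  have hpow : ∀ a : stabilizer G x, ∃ i : ℤ, χ (g ^ i) = χ a := by
    intro a
    obtain ⟨i, hi⟩ := hgen ⟨χ a, a, rfl⟩
    exact ⟨i, by rw [map_zpow]; exact congrArg Subtype.val hi⟩
  have hgp : (g : G) ^ p ≠ 1 := by
    intro hg
    obtain ⟨i, hi⟩ := hpow ⟨g₁, hg₁⟩
    rw [map_zpow, (hχ g).2 hg, one_zpow] at hi
    exact hg₁p ((hχ ⟨g₁, hg₁⟩).1 hi.symm)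
  obtain ⟨y, hyx, hgy⟩ := exists_second_fix hA hgp g.2
  set C := (stabilizer G x ⊓ stabilizer G y : Subgroup G) with hC
  have hgi : ∀ i : ℤ, ((g ^ i : stabilizer G x) : G) • y = y := by
    intro i
    have : ((g : G)) ^ i ∈ stabilizer G y := zpow_mem hgy i
    rw [SubgroupClass.coe_zpow]
    exact this
  have hfib : ∀ a : stabilizer G x, ∃! c : C, χ ⟨c, c.2.1⟩ = χ a := by
    intro a
    obtain ⟨i, hi⟩ := hpow a
    refine ⟨⟨_, (g ^ i).2, hgi i⟩, hi, fun c hc => Subtype.ext ?_⟩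
    have hp : (((⟨c, c.2.1⟩ : stabilizer G x) * (g ^ i)⁻¹ : stabilizer G x) : G) ^ p = 1 :=
      (hχ _).1 (by rw [map_mul, map_inv, hc, hi, mul_inv_cancel])
    have h2 : ((c : G) * ((g ^ i : stabilizer G x) : G)⁻¹) • y = y := by
      rw [mul_smul, inv_smul_eq_iff.2 (hgi i).symm]; exact c.2.2
    exact mul_inv_eq_one.1 (eq_one_of_two_fix hA hp hyx.symm ((⟨c, c.2.1⟩ : stabilizer G x) * (g ^ i)⁻¹).2 h2)
  refine ⟨y, hyx, ?_, ?_, ?_⟩
  · rw [← Nat.card_prod]
    refine Nat.card_congr (Equiv.ofBijective (fun q : unip hA x × C =>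
      (⟨(q.1 : G) * q.2, mul_mem q.1.2.1 q.2.2.1⟩ : stabilizer G x)) ⟨?_, ?_⟩).symm
    · rintro ⟨u, c⟩ ⟨u', c'⟩ huc
      have he : (u : G) * c = u' * c' := congrArg Subtype.val huc
      have hcc : χ ⟨c, c.2.1⟩ = χ ⟨c', c'.2.1⟩ := by
        have h1 : χ ((⟨u, u.2.1⟩ : stabilizer G x) * ⟨c, c.2.1⟩) =
            χ ((⟨u', u'.2.1⟩ : stabilizer G x) * ⟨c', c'.2.1⟩) := congrArg χ (Subtype.ext he)
        rw [map_mul, map_mul, (hχ ⟨u, u.2.1⟩).2 u.2.2, (hχ ⟨u', u'.2.1⟩).2 u'.2.2, one_mul,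
          one_mul] at h1
        exact h1
      obtain rfl : c = c' := (hfib ⟨c', c'.2.1⟩).unique hcc rfl
      exact Prod.ext (Subtype.ext (mul_right_cancel he)) rfl
    · intro a
      obtain ⟨c, hc, -⟩ := hfib a
      have hp := (hχ (a * (⟨c, c.2.1⟩ : stabilizer G x)⁻¹)).1 (by rw [map_mul, map_inv, hc, mul_inv_cancel])
      exact ⟨⟨⟨_, (a * (⟨c, c.2.1⟩ : stabilizer G x)⁻¹).2, hp⟩, c⟩, Subtype.ext (by simp)⟩
  · intro h hhx hhp z hzx hhz
    obtain ⟨c, hc, -⟩ := hfib ⟨h, hhx⟩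
    have hc1 : (c : G) ≠ 1 := by
      intro e
      apply hhp
      apply (hχ ⟨h, hhx⟩).1
      rw [← hc, show (⟨(c : G), c.2.1⟩ : stabilizer G x) = 1 from Subtype.ext e, map_one]
    let T := {a : stabilizer G x // χ a = χ ⟨h, hhx⟩}
    let φ : unip hA x → T := fun u => ⟨⟨u, u.2.1⟩ * ⟨c, c.2.1⟩ * (⟨u, u.2.1⟩ : stabilizer G x)⁻¹, by
      rw [map_mul, map_mul, map_inv, (hχ ⟨u, u.2.1⟩).2 u.2.2, one_mul, inv_one, mul_one, hc]⟩
    have hinj : Function.Injective φ := by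
      intro u u' huu
      have he : (u : G) * c * (u : G)⁻¹ = u' * c * (u' : G)⁻¹ :=
        congrArg (fun a : T => ((a.1 : stabilizer G x) : G)) huu
      set w : unip hA x := u'⁻¹ * u with hw
      have hcomm : (c : G) * (w : G) = (w : G) * c := by
        simp only [hw, Subgroup.coe_mul, InvMemClass.coe_inv]
        calc (c : G) * ((u' : G)⁻¹ * u) = (u' : G)⁻¹ * (u' * c * (u' : G)⁻¹) * u := by group
          _ = (u' : G)⁻¹ * (u * c * (u : G)⁻¹) * u := by rw [he]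
          _ = (u' : G)⁻¹ * u * c := by group
      by_contra hne
      have hw1 : (w : G) ≠ 1 := fun e => hne (inv_mul_eq_one.1 (Subtype.ext e : w = 1)).symm
      exact hc1 (eq_one_of_commute_unip hA hw1 w.2.2 hyx.symm w.2.1 c.2.1 c.2.2 hcomm)
    have hsurj : Function.Surjective φ := by
      refine ((Nat.bijective_iff_injective_and_card φ).2 ⟨hinj, ?_⟩).2
      refine Nat.card_congr
        { toFun := fun u => ⟨⟨u, u.2.1⟩ * ⟨h, hhx⟩, by rw [map_mul, (hχ ⟨u, u.2.1⟩).2 u.2.2, one_mul]⟩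
          invFun := fun a => ⟨_, (a.1 * (⟨h, hhx⟩ : stabilizer G x)⁻¹).2,
            (hχ _).1 (by rw [map_mul, map_inv, a.2, mul_inv_cancel])⟩
          left_inv := fun u => Subtype.ext (by simp)
          right_inv := fun a => Subtype.ext (Subtype.ext (by simp)) }
    obtain ⟨u, hu⟩ := hsurj ⟨⟨h, hhx⟩, rfl⟩
    have he : (u : G) * c * (u : G)⁻¹ = h := congrArg (fun a : T => ((a.1 : stabilizer G x) : G)) hu
    refine ⟨u, u.2, ?_⟩
    have hfix : (c : G) • ((u : G)⁻¹ • z) = (u : G)⁻¹ • z := by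
      rw [← mul_smul, show (c : G) * (u : G)⁻¹ = (u : G)⁻¹ * (u * c * (u : G)⁻¹) by group, he, mul_smul, hhz]
    rcases fix_eq_pair hA hc1 hyx.symm c.2.1 c.2.2 hfix with e | e
    · exact absurd ((inv_smul_eq_iff.1 e).trans u.2.1) hzx
    · rw [← e, smul_inv_smul]
  · have hg1 : (g : G) ≠ 1 := fun e => hgp (by rw [e, one_pow])
    have : Nontrivial C := ⟨⟨⟨g, g.2, hgy⟩, 1, fun e => hg1 (congrArg Subtype.val e)⟩⟩
    exact Finite.one_lt_card

/-- The torus part is smaller than the unipotent part. -/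
theorem card_torus_lt {x y : X} (hxy : x ≠ y) (hu : unip hA x ≠ ⊥) :
    Nat.card (stabilizer G x ⊓ stabilizer G y : Subgroup G) < Nat.card (unip hA x) := by
  obtain ⟨⟨u₀, hu₀⟩, hu₀1⟩ := Subgroup.ne_bot_iff_exists_ne_one.1 hu
  have hu₀' : u₀ ≠ 1 := fun e => hu₀1 (Subtype.ext e)
  obtain ⟨χ, hχ⟩ := hA.stab_hom x
  let f : Option (stabilizer G x ⊓ stabilizer G y : Subgroup G) → unip hA x := fun o =>
    o.elim 1 fun h => ⟨(h : G) * u₀ * (h : G)⁻¹,
      by rw [mul_smul, mul_smul, inv_smul_eq_iff.2 h.2.1.symm, hu₀.1]; exact h.2.1,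
      by rw [conj_pow, hu₀.2, mul_one, mul_inv_cancel]⟩
  have hinj : Function.Injective f := by
    rintro (_ | a) (_ | b) hab
    · rfl
    · exact absurd (conj_eq_one_iff.1 (congrArg Subtype.val hab).symm) hu₀'
    · exact absurd (conj_eq_one_iff.1 (congrArg Subtype.val hab)) hu₀'
    · have he : (a : G) * u₀ * (a : G)⁻¹ = b * u₀ * (b : G)⁻¹ := congrArg Subtype.val hab
      have hc : ((b : G)⁻¹ * a) * u₀ = u₀ * ((b : G)⁻¹ * a) := by
        calc ((b : G)⁻¹ * a) * u₀ = (b : G)⁻¹ * (a * u₀ * (a : G)⁻¹) * a := by group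
          _ = (b : G)⁻¹ * (b * u₀ * (b : G)⁻¹) * a := by rw [he]
          _ = u₀ * ((b : G)⁻¹ * a) := by group
      have hm := (b⁻¹ * a).2
      have := eq_one_of_commute_unip hA hu₀' hu₀.2 hxy hu₀.1 hm.1 hm.2 hc
      exact congrArg some (Subtype.ext (inv_mul_eq_one.1 this).symm)
  have h := Nat.card_le_card_of_injective f hinj
  rw [Finite.card_option] at h
  omega

end Finite

end CfsgLib.PSL2
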