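import Cfsg.Agent.Lib.PSL2.Subfield

/-!
Maximality of subfield subgroups of `PSL₂(q)`.
-/

set_option autoImplicit false
set_option linter.unusedSectionVars false

open Matrix OnePoint

namespace CfsgLib.PSL2

open CfsgLib.PermSmall.Moebius

variable {F : Type*} [Field F] [Fintype F]

local notation "PGL" => ProjGenLinGroup (Fin 2) F
local notation "PSL" => ProjectiveSpecialLinearGroup (Fin 2) F

/-- A group defined over a subfield lies in a conjugate of the subfield subgroup. -/
theorem exists_conj_le_of_definedOver [DecidableEq F] {M : Subgroup PSL} {S : Subfield F}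
    (h : DefinedOver ((pglPerm F).comp (ProjectiveSpecialLinearGroup.toPGL.comp M.subtype)) S) :
    ∃ k : PGL, M.map ProjectiveSpecialLinearGroup.toPGL ≤
      (pglSub S.subtype).map (MulAut.conj k).toMonoidHom := by
  obtain ⟨_, ⟨B, rfl⟩, hB⟩ := h
  refine ⟨ProjGenLinGroup.mk B, ?_⟩
  rintro _ ⟨x, hx, rfl⟩
  obtain ⟨A, hA⟩ := hB ⟨x, hx⟩
  refine ⟨ProjGenLinGroup.map S.subtype (ProjGenLinGroup.mk A), ⟨_, rfl⟩, pglPerm_injective ?_⟩
  have e : ∀ C : GL (Fin 2) F, pglPerm F (ProjGenLinGroup.mk C) = glHom F C := fun C =>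
    Equiv.ext fun z => by rw [pglPerm_mk, glHom_apply]
  show pglPerm F (ProjGenLinGroup.mk B * ProjGenLinGroup.map S.subtype (ProjGenLinGroup.mk A) *
    (ProjGenLinGroup.mk B)⁻¹) = _
  rw [map_mul, map_mul, map_inv, ProjGenLinGroup.map_mk, e, e]
  exact hA.symm

variable {K : Type*} [Field K] [Fintype K] (ι : K →+* F)

/-- A subfield subgroup determines the subfield. -/
theorem mem_range_of_conj_le {K' : Type*} [Field K'] (ι' : K' →+* F) (k : PGL)
    (h : ∀ A : GL (Fin 2) K, (A : Matrix (Fin 2) (Fin 2) K).det = 1 →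
      ProjGenLinGroup.map ι (ProjGenLinGroup.mk A) ∈
        ((ProjGenLinGroup.map ι' : ProjGenLinGroup (Fin 2) K' →* PGL).range).map
          (MulAut.conj k).toMonoidHom) (a : K) : ι a ∈ ι'.fieldRange := by
  obtain ⟨W, rfl⟩ := ProjGenLinGroup.mk_surjective k
  have hsq : ∀ t : K, ι t ^ 2 ∈ ι'.fieldRange := by
    intro t
    let A : GL (Fin 2) K := GeneralLinearGroup.mkOfDetNeZero !![t, -1; 1, 0]
      (by simp [Matrix.det_fin_two])
    obtain ⟨_, ⟨g, rfl⟩, hg⟩ := h A (by simp [A, Matrix.det_fin_two])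
    induction g using ProjGenLinGroup.induction_on with | mk B =>
    change ProjGenLinGroup.mk W * ProjGenLinGroup.map ι' (ProjGenLinGroup.mk B) *
      (ProjGenLinGroup.mk W)⁻¹ = _ at hg
    rw [ProjGenLinGroup.map_mk, ProjGenLinGroup.map_mk, ← map_inv, ← map_mul, ← map_mul,
      ProjGenLinGroup.mk_eq_mk_iff] at hg
    obtain ⟨u, hu⟩ := hg
    have e := congrArg Units.val hu
    rw [Units.val_mul, GeneralLinearGroup.coe_scalar, Matrix.scalar_apply,
      ← Matrix.smul_eq_mul_diagonal] at e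
    set M := (W : Matrix (Fin 2) (Fin 2) F) *
      (GeneralLinearGroup.map ι' B : GL (Fin 2) F) * ((W⁻¹ : GL (Fin 2) F) : Matrix (Fin 2) (Fin 2) F)
    have e' : (u : F) • M = (GeneralLinearGroup.map ι A : GL (Fin 2) F) := e
    have hWW : ((W⁻¹ : GL (Fin 2) F) : Matrix (Fin 2) (Fin 2) F) * W = 1 := by
      rw [← Units.val_mul, inv_mul_cancel, Units.val_one]
    have htr : M.trace = ι' (B : Matrix (Fin 2) (Fin 2) K').trace := by
      rw [Matrix.trace_mul_cycle, hWW, one_mul]
      simp [Matrix.trace_fin_two]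
    have hdet : M.det = ι' (B : Matrix (Fin 2) (Fin 2) K').det := by
      rw [det_mul, det_mul, mul_comm (W : Matrix (Fin 2) (Fin 2) F).det, mul_assoc, mul_comm _
        ((W⁻¹ : GL (Fin 2) F) : Matrix (Fin 2) (Fin 2) F).det, ← det_mul, hWW, det_one, mul_one]
      simp [Matrix.det_fin_two]
    have h1 := congrArg Matrix.trace e'
    have h2 := congrArg Matrix.det e'
    rw [trace_smul, htr] at h1
    rw [det_smul, hdet] at h2
    simp [A, Matrix.trace_fin_two, Matrix.det_fin_two, Fintype.card_fin] at h1 h2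
    refine ⟨(B : Matrix (Fin 2) (Fin 2) K').trace ^ 2 / (B : Matrix (Fin 2) (Fin 2) K').det, ?_⟩
    rw [map_div₀, map_pow, div_eq_iff ((map_ne_zero ι').2 B.det_ne_zero), ← h1]
    simp [Matrix.trace_fin_two, Matrix.det_fin_two]
    linear_combination -(ι' (B 0 0) + ι' (B 1 1)) ^ 2 * h2
  rcases eq_or_ne (2 : F) 0 with h2 | h2
  · have h2K : (2 : K) = 0 := ι.injective (by rw [map_ofNat, h2, map_zero])
    obtain ⟨b, rfl⟩ := CfsgLib.SpecLin.SLTwo.exists_sq_of_char_two h2K a
    rw [map_pow]
    exact hsq b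
  · have h := div_mem (sub_mem (sub_mem (hsq (a + 1)) (hsq a)) (one_mem ι'.fieldRange))
      (show (2 : F) ∈ ι'.fieldRange from ⟨2, map_ofNat ι' 2⟩)
    rwa [map_add, map_one, show ((ι a + 1) ^ 2 - ι a ^ 2 - 1) / 2 = ι a by field_simp; ring] at h

theorem pglSub_mono {K' : Type*} [Field K'] [Fintype K'] (ι' : K' →+* F) (h : ∀ a, ι a ∈ ι'.fieldRange) :
    pglSub ι ≤ pglSub ι' := by
  let e : K' ≃+* ι'.fieldRange := RingEquiv.ofBijective ι'.rangeRestrictField ι'.rangeRestrictField_bijective
  let j : K →+* K' := e.symm.toRingHom.comp (ι.codRestrict ι'.fieldRange h)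
  have hj : ι'.comp j = ι := RingHom.ext fun a => by
    have := congrArg Subtype.val (e.apply_symm_apply (ι.codRestrict ι'.fieldRange h a))
    exact this
  rintro _ ⟨g, rfl⟩
  exact ⟨ProjGenLinGroup.map j g, by rw [← MonoidHom.comp_apply, ← ProjGenLinGroup.map_comp, hj]⟩

theorem map_pslSub : (pslSub ι).map ProjectiveSpecialLinearGroup.toPGL = pglSub ι ⊓ pslImage F := by
  rw [pslSub, Subgroup.map_comap_eq, range_toPGL, inf_comm]

theorem mk_mem_pslSub_of_det {A : GL (Fin 2) K} (hA : (A : Matrix (Fin 2) (Fin 2) K).det = 1) :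
    ProjGenLinGroup.map ι (ProjGenLinGroup.mk A) ∈ pglSub ι ⊓ pslImage F :=
  ⟨⟨_, rfl⟩, (pgl_map_mk_mem_iff ι A).2 (by rw [hA, map_one]; exact IsSquare.one)⟩

theorem card_pslSub_cases {r : ℕ} (hr : r.Prime) (hK : Fintype.card K ^ r = Fintype.card F) :
    (r = 2 ∧ Odd (Fintype.card F) ∧ Nat.card (pslSub ι) =
        (Fintype.card K + 1) * (Fintype.card K * (Fintype.card K - 1))) ∨
      ((Odd r ∨ Even (Fintype.card F)) ∧ Nat.gcd 2 (Fintype.card K - 1) * Nat.card (pslSub ι) =
        (Fintype.card K + 1) * (Fintype.card K * (Fintype.card K - 1))) := by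
  rcases Nat.even_or_odd (Fintype.card F) with he | ho
  · refine Or.inr ⟨Or.inr he, ?_⟩
    obtain ⟨e⟩ := nonempty_pslSub_equiv_psl ι hK (Or.inl he)
    rw [Nat.card_congr e.toEquiv, card_psl]
  rcases hr.eq_two_or_odd' with rfl | hodd
  · refine Or.inl ⟨rfl, ho, ?_⟩
    obtain ⟨e⟩ := nonempty_pslSub_equiv_pgl ι ho hK even_two
    rw [Nat.card_congr e.toEquiv, card_pgl]
  · refine Or.inr ⟨Or.inl hodd, ?_⟩
    obtain ⟨e⟩ := nonempty_pslSub_equiv_psl ι hK (Or.inr hodd)
    rw [Nat.card_congr e.toEquiv, card_psl]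

theorem pslSub_ne_top {r : ℕ} (hr : r.Prime) (hK : Fintype.card K ^ r = Fintype.card F) :
    pslSub ι ≠ ⊤ := by
  intro e
  have hs := Fintype.one_lt_card (α := K)
  have h2 : Fintype.card K ^ 2 ≤ Fintype.card F := hK ▸ Nat.pow_le_pow_right (by omega) hr.two_le
  have hle : Nat.card (pslSub ι) ≤ Nat.card (ProjGenLinGroup (Fin 2) K) := by
    rw [← card_pglSub ι, pslSub, Nat.card_congr (comapEquivInf _).toEquiv]
    exact Subgroup.card_le_of_le inf_le_left
  have hc := card_psl (F := F)
  rw [e, Subgroup.card_top, card_pgl] at hle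
  generalize Fintype.card K = s at hs h2 hle
  generalize Nat.card PSL = N at hc hle
  generalize Fintype.card F = q at hc h2
  have h3 : (q + 1) * (q * (q - 1)) ≤ 2 * N := hc ▸ Nat.mul_le_mul_right _ (Nat.gcd_le_left _ Nat.two_pos)
  have h4 : (s * s + 1) * (s * s * (s * s - 1)) ≤ (q + 1) * (q * (q - 1)) := by
    rw [sq] at h2
    gcongr
  have e1 : s * s - 1 = (s + 1) * (s - 1) := by
    rw [← sq, ← Nat.sq_sub_sq, one_pow]
  rw [e1] at h4
  have h5 : (s * s + 1) * s * ((s + 1) * (s * (s - 1))) ≤ 2 * ((s + 1) * (s * (s - 1))) := by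
    refine le_trans (le_of_eq ?_) (h4.trans (h3.trans (Nat.mul_le_mul_left 2 hle)))
    ring
  have := Nat.le_of_mul_le_mul_right h5 (Nat.mul_pos (by omega) (Nat.mul_pos (by omega) (by omega)))
  have : 5 * 2 ≤ (s * s + 1) * s := Nat.mul_le_mul (by
    have := Nat.mul_le_mul hs hs
    omega) hs
  omega

/-- Subfield subgroups of prime index are maximal. -/
theorem eq_pslSub_of_le {r : ℕ} (hr : r.Prime) (hK : Fintype.card K ^ r = Fintype.card F)
    (hs3 : 3 ≤ Fintype.card K) {M : Subgroup PSL} (hle : pslSub ι ≤ M) (hM : M ≠ ⊤) :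
    M = pslSub ι := by
  classical
  obtain ⟨p, hp⟩ := CharP.exists F
  have : Fact p.Prime := ⟨CharP.char_is_prime F p⟩
  have hpK : CharP K p := (RingHom.charP_iff_charP ι p).2 hp
  obtain ⟨n, -, hn⟩ := FiniteField.card F p
  obtain ⟨a, -, ha⟩ := FiniteField.card K p
  have hdvd := Subgroup.card_dvd_of_le hle
  have hcases := card_pslSub_cases ι hr hK
  have hq := Fintype.one_lt_card (α := F)
  have heq : Nat.card M = Nat.card (pslSub ι) → M = pslSub ι := fun h =>
    (Subgroup.eq_of_le_of_card_ge hle h.le).symm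
  have hpdvd : ∀ k, (k ∣ (Fintype.card F + 1) / Nat.gcd 2 (Fintype.card F - 1) ∨
      k ∣ (Fintype.card F - 1) / Nat.gcd 2 (Fintype.card F - 1)) → ¬ p ∣ k := by
    intro k hk hpk
    have hpq : p ∣ Fintype.card F := by rw [hn]; exact dvd_pow_self p n.ne_zero
    have h2p := (Fact.out : p.Prime).two_le
    have hg : Nat.gcd 2 (Fintype.card F - 1) ∣ Fintype.card F - 1 := Nat.gcd_dvd_right _ _
    rcases hk with hk | hk
    · have h1 : p ∣ Fintype.card F + 1 := (hpk.trans hk).trans (Nat.div_dvd_of_dvd (by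
        rcases Nat.even_or_odd (Fintype.card F) with he | ho
        · rw [gcd_eq_one he]; exact one_dvd _
        · rw [gcd_eq_two ho]; exact even_iff_two_dvd.1 ho.add_one))
      have := Nat.le_of_dvd Nat.one_pos ((Nat.dvd_add_right hpq).1 h1)
      omega
    · have h1 : p ∣ Fintype.card F - 1 := (hpk.trans hk).trans (Nat.div_dvd_of_dvd hg)
      have := Nat.le_of_dvd Nat.one_pos ((Nat.dvd_sub hpq h1).trans (dvd_of_eq (by omega)))
      omega
  have small : ∀ c : ℕ, (c = 12 ∨ c = 24 ∨ c = 60) → Nat.card M = c →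
      (Nat.card M = 24 → Nonempty (M ≃* Equiv.Perm (Fin 4))) → M = pslSub ι := by
    intro c hc hcM hS4
    have hs5 : Fintype.card K ≤ 5 := by
      by_contra h5
      have hMle : Nat.card (pslSub ι) ≤ 60 := (Nat.le_of_dvd Nat.card_pos hdvd).trans (by omega)
      have hb : (Fintype.card K + 1) * (Fintype.card K * (Fintype.card K - 1)) ≤ 2 * 60 := by
        rcases hcases with ⟨-, -, e1⟩ | ⟨-, e1⟩ <;> rw [← e1]
        · omega
        · exact Nat.mul_le_mul (Nat.gcd_le_left _ Nat.two_pos) hMle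
      have h42 : (6 + 1) * (6 * (6 - 1)) ≤
          (Fintype.card K + 1) * (Fintype.card K * (Fintype.card K - 1)) :=
        Nat.mul_le_mul (by omega) (Nat.mul_le_mul (by omega) (by omega))
      omega
    generalize hN : Nat.card (pslSub ι) = N at hcases hdvd heq ⊢
    rcases hcases with ⟨-, ho, e1⟩ | ⟨hodd, e1⟩
    · have hKo : Odd (Fintype.card K) := by rw [← hK, Nat.odd_pow_iff hr.ne_zero] at ho; exact ho
      rw [Nat.odd_iff] at hKo
      interval_cases h : Fintype.card K <;> norm_num at hKo <;> norm_num at e1 <;> rw [e1, hcM] at hdvd <;>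
        rcases hc with rfl | rfl | rfl <;> norm_num at hdvd <;> exact heq (by omega)
    interval_cases h : Fintype.card K <;> norm_num at e1
    · have e12 : N = 12 := by omega
      rcases hc with rfl | rfl | rfl
      · exact heq (hcM.trans e12.symm)
      all_goals exfalso
      all_goals
        have ho : Odd (Fintype.card F) := by rw [← hK, Nat.odd_pow_iff hr.ne_zero]; decide
        obtain ⟨j, hj⟩ := hodd.resolve_right (Nat.not_even_iff_odd.2 ho)
      · have hq8 : Fintype.card F % 8 = 3 := by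
          rw [← hK, hj, pow_succ, pow_mul, Nat.mul_mod, Nat.pow_mod]; norm_num
        obtain ⟨e⟩ := hS4 hcM
        have hsq := isSquare_two_of_symm_four (two_ne_zero_of_odd ho) (map_toPGL_le M)
          ((Subgroup.equivMapOfInjective M _ ProjectiveSpecialLinearGroup.toPGL_injective).symm.trans e)
        rw [FiniteField.isSquare_two_iff] at hsq
        omega
      · have h5 : 5 ∣ Nat.card PSL := Nat.dvd_trans (hcM ▸ (by norm_num : 5 ∣ 60)) M.card_subgroup_dvd_card
        have h5' : 5 ∣ (Fintype.card F + 1) * (Fintype.card F * (Fintype.card F - 1)) :=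
          card_psl (F := F) ▸ h5.mul_left _
        have hq5 : Fintype.card F % 5 = 2 ∨ Fintype.card F % 5 = 3 := by
          rw [← hK, hj]
          clear hj
          induction j with
          | zero => simp
          | succ l ih =>
            rw [show 2 * (l + 1) + 1 = 2 * l + 1 + 2 by ring, pow_add, Nat.mul_mod]
            rcases ih with e | e <;> rw [e] <;> norm_num
        rcases (Nat.prime_five.dvd_mul).1 h5' with h' | h'
        · omega
        rcases (Nat.prime_five.dvd_mul).1 h' with h'' | h'' <;> omega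
    all_goals
      have e60 : N = 60 := by omega
      rcases hc with rfl | rfl | rfl <;>
        first
          | exact heq (hcM.trans e60.symm)
          | (exfalso; rw [e60, hcM] at hdvd; norm_num at hdvd)
  rcases dickson_psl p M with ⟨x, hx⟩ | ⟨k, hk, hshape⟩ | ⟨⟨e⟩⟩ | ⟨⟨e⟩⟩ | ⟨⟨e⟩⟩ | ⟨S, hS, hiso⟩
  · exfalso
    have hm : ∀ A : GL (Fin 2) K, (A : Matrix (Fin 2) (Fin 2) K).det = 1 →
        GeneralLinearGroup.map ι A • x = x := by
      intro A hA
      have hh := mk_mem_pslSub_of_det ι hA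
      rw [← map_pslSub] at hh
      obtain ⟨g, hg, hge⟩ := hh
      have h1 := hx g (hle hg)
      rwa [hge, ProjGenLinGroup.map_mk, pglPerm_mk] at h1
    have h1 := hm (GeneralLinearGroup.mkOfDetNeZero !![1, 1; 0, 1] (by simp [Matrix.det_fin_two]))
      (by simp [Matrix.det_fin_two])
    have h2 := hm (GeneralLinearGroup.mkOfDetNeZero !![1, 0; 1, 1] (by simp [Matrix.det_fin_two]))
      (by simp [Matrix.det_fin_two])
    cases x with
    | infty => simp [smul_infty_eq_ite] at h2
    | coe z => simp [smul_some_eq_ite] at h1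
  · exfalso
    have hdk : Nat.card (pslSub ι) ∣ 2 * k := by
      rcases hshape with ⟨-, hc⟩ | ⟨⟨e⟩⟩
      · rw [← hc]; exact hdvd.mul_left 2
      · rwa [Nat.card_congr e.toEquiv, DihedralGroup.nat_card] at hdvd
    have hsd : Fintype.card K * ((Fintype.card K + 1) * (Fintype.card K - 1)) ∣
        2 * Nat.card (pslSub ι) := by
      rw [show Fintype.card K * ((Fintype.card K + 1) * (Fintype.card K - 1)) =
        (Fintype.card K + 1) * (Fintype.card K * (Fintype.card K - 1)) by ring]
      rcases hcases with ⟨-, -, hc⟩ | ⟨-, hc⟩ <;> rw [← hc]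
      · exact dvd_mul_left _ _
      · exact Nat.mul_dvd_mul_right (Nat.gcd_dvd_left _ _) _
    rcases Nat.even_or_odd (Fintype.card F) with he | ho
    · have hKe : Even (Fintype.card K) := by rw [← hK] at he; exact (Nat.even_pow.1 he).1
      have hp2 : p = 2 := by
        have h2 : 2 ∣ p ^ (n : ℕ) := hn ▸ even_iff_two_dvd.1 he
        exact ((Nat.prime_dvd_prime_iff_eq Nat.prime_two Fact.out).1 (Nat.prime_two.dvd_of_dvd_pow h2)).symm
      subst hp2
      rcases hcases with ⟨-, ho, -⟩ | ⟨-, hc⟩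
      · exact (Nat.not_even_iff_odd.2 ho) he
      rw [gcd_eq_one hKe, one_mul] at hc
      refine hpdvd k hk ?_
      have h4 : 4 ∣ Fintype.card K := by
        rw [ha]
        have : (a : ℕ) ≠ 1 := fun e1 => by rw [ha, e1] at hs3; omega
        have := a.pos
        exact (show 4 = 2 ^ 2 from rfl) ▸ pow_dvd_pow 2 (by omega)
      have : 2 * 2 ∣ 2 * k := by
        refine Nat.dvd_trans ?_ hdk
        rw [hc]
        exact (h4.mul_right _).mul_left _
      exact Nat.dvd_of_mul_dvd_mul_left Nat.two_pos this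
    · have hpo : p ≠ 2 := fun e2 => by
        rw [hn, e2, Nat.odd_pow_iff n.ne_zero] at ho
        exact absurd ho (by decide)
      refine hpdvd k hk ?_
      have h1 : p ∣ 2 * (2 * k) :=
        ((ha ▸ dvd_pow_self p a.ne_zero : p ∣ Fintype.card K).mul_right _).trans
          (hsd.trans (Nat.mul_dvd_mul_left 2 hdk))
      have hnd : ¬ p ∣ 2 := fun h => hpo ((Nat.prime_dvd_prime_iff_eq Fact.out Nat.prime_two).1 h)
      exact (((Fact.out : p.Prime).dvd_mul.1 (((Fact.out : p.Prime).dvd_mul.1 h1).resolve_left hnd))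
        ).resolve_left hnd
  rotate_right
  · obtain ⟨k, hk⟩ := exists_conj_le_of_definedOver hS
    have hrange : ∀ b : K, ι b ∈ S.subtype.fieldRange := by
      refine mem_range_of_conj_le ι S.subtype k fun A hA => hk (Subgroup.map_mono hle ?_)
      rw [map_pslSub]
      exact mk_mem_pslSub_of_det ι hA
    let e : S ≃+* S.subtype.fieldRange :=
      RingEquiv.ofBijective S.subtype.rangeRestrictField S.subtype.rangeRestrictField_bijective
    let j : K →+* S := e.symm.toRingHom.comp (ι.codRestrict S.subtype.fieldRange hrange)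
    obtain ⟨i, -, hi⟩ := exists_degree j
    obtain ⟨m, -, hm⟩ := exists_degree S.subtype
    rcases eq_or_eq_one_of_prime_degree (s := Fintype.card K) (j := i) (m := m) (by omega) hr
      (by rw [hi, hm, hK]) with ⟨rfl, hmr⟩ | rfl
    · refine heq (le_antisymm ?_ (Nat.le_of_dvd Nat.card_pos hdvd))
      rw [pow_one] at hi
      have hsub : pglSub S.subtype = pglSub ι := by
        refine (Subgroup.eq_of_le_of_card_ge (pglSub_mono ι S.subtype hrange) (le_of_eq ?_)).symm
        rw [card_pglSub, card_pglSub, card_pgl, card_pgl, hi]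
      rw [← Subgroup.card_map_of_injective (K := pslSub ι) ProjectiveSpecialLinearGroup.toPGL_injective,
        ← Subgroup.card_map_of_injective (K := M) ProjectiveSpecialLinearGroup.toPGL_injective,
        map_pslSub]
      refine le_trans (Subgroup.card_le_of_le (K := ((pglSub ι) ⊓ pslImage F).map
        (MulAut.conj k).toMonoidHom) ?_)
        (le_of_eq (Subgroup.card_map_of_injective (MulEquiv.injective _)))
      intro g hg
      obtain ⟨h, hh, rfl⟩ := hk hg
      refine ⟨h, ⟨hsub ▸ hh, ?_⟩, rfl⟩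
      have h1 := pslImage_normal.conj_mem _ (map_toPGL_le M hg) k⁻¹
      simpa [mul_assoc] using h1
    · exfalso
      rw [pow_one] at hm
      refine hM (Subgroup.eq_top_of_card_eq _ (le_antisymm
        (Nat.le_of_dvd Nat.card_pos M.card_subgroup_dvd_card) ?_))
      have h1 : Nat.card (ProjectiveSpecialLinearGroup (Fin 2) S) = Nat.card PSL := by
        refine Nat.eq_of_mul_eq_mul_left (Nat.gcd_pos_of_pos_left (Fintype.card F - 1) Nat.two_pos) ?_
        rw [card_psl (F := F), ← hm, card_psl (F := S)]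
      rcases hiso with ⟨⟨φ⟩⟩ | ⟨⟨φ⟩⟩ <;> rw [Nat.card_congr φ.toEquiv]
      · exact h1.ge
      · exact h1.ge.trans card_psl_le_pgl
  · exact small _ (Or.inl (by rw [Nat.card_congr e.toEquiv, card_alt_four])) rfl (fun h => absurd h (by
      rw [Nat.card_congr e.toEquiv, card_alt_four]; norm_num))
  · exact small _ (Or.inr (Or.inl (by
      rw [Nat.card_congr e.toEquiv, Nat.card_perm, Nat.card_fin]; rfl))) rfl fun _ => ⟨e⟩
  · exact small _ (Or.inr (Or.inr (by rw [Nat.card_congr e.toEquiv, card_alt_five]))) rfl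
      (fun h => absurd h (by rw [Nat.card_congr e.toEquiv, card_alt_five]; norm_num))

theorem isCoatom_pslSub {r : ℕ} (hr : r.Prime) (hK : Fintype.card K ^ r = Fintype.card F)
    (hs3 : 3 ≤ Fintype.card K) : IsCoatom (pslSub ι) :=
  ⟨pslSub_ne_top ι hr hK, fun M hM => by
    by_contra hne
    exact hM.ne (eq_pslSub_of_le ι hr hK hs3 hM.le hne).symm⟩

end CfsgLib.PSL2
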