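import Cfsg.Agent.Lib.PSL2.PglClassify

/-!
Maximal subgroups of `PGL₂(q)` meet `PSL₂(q)` in maximal subgroups.
-/

set_option autoImplicit false
set_option linter.unusedSectionVars false

open Matrix

namespace CfsgLib.PSL2

variable {F : Type*} [Field F] [Fintype F]

local notation "PGL" => ProjGenLinGroup (Fin 2) F
local notation "PSL" => ProjectiveSpecialLinearGroup (Fin 2) F

theorem isCoatom_subgroupOf_of_comap {W : Subgroup PGL}
    (h : IsCoatom (W.comap (ProjectiveSpecialLinearGroup.toPGL (n := Fin 2) (R := F)))) :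
    IsCoatom ((W ⊓ pslImage F).subgroupOf (pslImage F)) := by
  have e : (W ⊓ pslImage F).subgroupOf (pslImage F) =
      (W.comap (ProjectiveSpecialLinearGroup.toPGL (n := Fin 2) (R := F))).map
        (pslEquiv (F := F)).toMonoidHom := by
    ext g
    rw [Subgroup.mem_subgroupOf, Subgroup.mem_map]
    constructor
    · intro hg
      refine ⟨pslEquiv.symm g, ?_, pslEquiv.apply_symm_apply g⟩
      show ProjectiveSpecialLinearGroup.toPGL (pslEquiv.symm g) ∈ W
      rw [← coe_pslEquiv, pslEquiv.apply_symm_apply]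
      exact hg.1
    · rintro ⟨a, ha, rfl⟩
      exact ⟨ha, (pslEquiv a).2⟩
  rw [e]
  exact (OrderIso.isCoatom_iff (MulEquiv.mapSubgroup (pslEquiv (F := F))) _).2 h

theorem comap_map_conj (W : Subgroup PGL) (k : PGL) :
    (W.map (MulAut.conj k).toMonoidHom).comap (ProjectiveSpecialLinearGroup.toPGL (n := Fin 2) (R := F)) =
      (W.comap ProjectiveSpecialLinearGroup.toPGL).map (pslConj k).toMonoidHom := by
  ext g
  rw [Subgroup.mem_comap, Subgroup.mem_map, Subgroup.mem_map]
  constructor
  · rintro ⟨w, hw, hwg⟩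
    refine ⟨(pslConj k).symm g, ?_, (pslConj k).apply_symm_apply g⟩
    show ProjectiveSpecialLinearGroup.toPGL ((pslConj k).symm g) ∈ W
    have h := toPGL_pslConj k ((pslConj k).symm g)
    rw [MulEquiv.apply_symm_apply, ← hwg] at h
    rw [← (mul_left_cancel (mul_right_cancel h) : w = _)]
    exact hw
  · rintro ⟨a, ha, rfl⟩
    exact ⟨_, ha, (toPGL_pslConj k a).symm⟩

variable [DecidableEq F]

theorem isCoatom_pslPointStab (p : ℕ) [Fact p.Prime] [CharP F p] (x : OnePoint F) :
    IsCoatom (pslPointStab x) := by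
  classical
  have hq := Fintype.one_lt_card (α := F)
  let ι : F →+* AlgebraicClosure F := algebraMap F _
  have : CharP (AlgebraicClosure F) p := charP_of_injective_ringHom ι.injective p
  obtain ⟨Φ, hΦ⟩ := exists_frob (F := F) (L := AlgebraicClosure F) p
  classical
  refine ⟨fun e => ?_, fun H hH => ?_⟩
  · have h := index_pslPointStab x
    rw [e, Subgroup.index_top] at h
    omega
  obtain ⟨g, hgH, hgx⟩ := SetLike.exists_of_lt hH
  rw [mem_pslPointStab] at hgx
  have htrans : ∀ y, ∃ h ∈ H, pslPerm F h x = y := by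
    intro y
    rcases eq_or_ne y x with rfl | hy
    · exact ⟨1, one_mem _, by simp⟩
    have hpair : ∀ w : OnePoint F, w ≠ x → IsPair ι Φ (x.map ι) (w.map ι) (Fintype.card F - 1) :=
      fun w hw => ⟨fun e => hw (map_onePoint_injective ι e).symm, Or.inl ⟨⟨x, w, rfl, rfl⟩, rfl⟩⟩
    obtain ⟨a, haL, hax, hay⟩ := exists_pair_conj hΦ (hpair _ hgx) (hpair y hy)
    obtain ⟨b, rfl⟩ := range_toPGL.ge haL
    rw [lineHom_apply_map] at hax hay
    have hb : b ∈ H := hH.le (mem_pslPointStab.2 (map_onePoint_injective ι hax))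
    refine ⟨b * g, mul_mem hb hgH, ?_⟩
    rw [map_mul, Equiv.Perm.mul_apply]
    exact map_onePoint_injective ι hay
  refine eq_top_iff.2 fun z _ => ?_
  obtain ⟨h, hh, hhx⟩ := htrans (pslPerm F z x)
  have hz : h⁻¹ * z ∈ pslPointStab x := by
    rw [mem_pslPointStab, map_mul, Equiv.Perm.mul_apply, ← hhx, map_inv, Equiv.Perm.coe_inv,
      Equiv.symm_apply_apply]
  simpa using mul_mem hh (hH.le hz)

omit [DecidableEq F] in
/-- `A₄ = N(V) ∩ PSL₂(p)` is maximal. -/
theorem isCoatom_normV_inf (p : ℕ) [Fact p.Prime] [CharP F p] (hqp : Fintype.card F = p) (h5 : 5 ≤ p)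
    (hsq : ¬ IsSquare (2 : F)) (h10 : p % 10 ≠ 1 ∧ p % 10 ≠ 9) {h2 : (2 : F) ≠ 0}
    {I J : Matrix (Fin 2) (Fin 2) F} (h : QPair I J) :
    IsCoatom ((h.normV h2).comap (ProjectiveSpecialLinearGroup.toPGL (n := Fin 2) (R := F))) := by
  classical
  have hodd : Odd (Fintype.card F) := by
    rw [hqp]; exact (Fact.out : p.Prime).odd_of_ne_two (by omega)
  set H := (h.normV h2).comap (ProjectiveSpecialLinearGroup.toPGL (n := Fin 2) (R := F))
  have hc : Nat.card H = 12 := by
    rw [Nat.card_congr (comapEquivInf _).toEquiv, h.card_normV_inf h2 hsq]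
  have hbig := lt_card_psl hodd (b := 5) (by omega) 12 (by norm_num) (by norm_num)
  refine isCoatom_of_overgroups (fun e => by rw [e, Subgroup.card_top] at hc; omega) fun M hle hM => ?_
  obtain ⟨σ⟩ := h.normV_equiv_symm h2
  let f0 : alternatingGroup (Fin 4) →* PGL :=
    (h.normV h2).subtype.comp (σ.symm.toMonoidHom.comp (alternatingGroup (Fin 4)).subtype)
  have hf0 : f0.range ≤ pslImage F := alternatingGroup_range_le index_pslImage_dvd_two f0
  let f1 : alternatingGroup (Fin 4) →* pslImage F := f0.codRestrict _ fun a => hf0 ⟨a, rfl⟩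
  let f2 : alternatingGroup (Fin 4) →* H := (pslEquiv.symm.toMonoidHom.comp f1).codRestrict _ fun a => by
    show ProjectiveSpecialLinearGroup.toPGL (pslEquiv.symm (f1 a)) ∈ h.normV h2
    rw [← coe_pslEquiv, pslEquiv.apply_symm_apply]
    exact (σ.symm (a : Equiv.Perm (Fin 4))).2
  have hf2 : Function.Injective f2 := fun a b hab => by
    have e1 : f1 a = f1 b := pslEquiv.symm.injective (congrArg Subtype.val hab)
    have e2 : f0 a = f0 b := congrArg (fun z : pslImage F => (z : PGL)) e1
    exact Subtype.ext (σ.symm.injective (Subtype.ext e2))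
  obtain ⟨f, hf⟩ := exists_alt_four_hom hle f2 hf2
  rw [hc]
  rcases alt_four_overgroup p h2 f hf with ⟨⟨g⟩⟩ | ⟨⟨g⟩⟩ | ⟨⟨g⟩⟩ | ⟨S, hS⟩
  · rw [Nat.card_congr g.toEquiv, card_alt_four]
  · exact absurd (isSquare_two_of_symm_four h2 (map_toPGL_le M)
      ((Subgroup.equivMapOfInjective M _
        ProjectiveSpecialLinearGroup.toPGL_injective).symm.trans g)) hsq
  · exfalso
    have hM60 : Nat.card M = 60 := by rw [Nat.card_congr g.toEquiv, card_alt_five]
    have h5' : 5 ∣ Nat.card M := by rw [hM60]; norm_num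
    rcases mod_five_of_dvd_psl hodd (h5'.trans M.card_subgroup_dvd_card) with hm | hm | hm
    · have hp5 : p = 5 := ((Nat.prime_dvd_prime_iff_eq Nat.prime_five Fact.out).1
        (hqp ▸ Nat.dvd_of_mod_eq_zero hm)).symm
      refine hM (Subgroup.eq_top_of_card_eq _ ?_)
      have h60 := psl_card_odd (F := F) hodd
      rw [hqp, hp5] at h60
      omega
    all_goals
      have : p % 2 = 1 := Nat.odd_iff.1 (hqp ▸ hodd)
      omega
  · exact absurd (eq_top_of_model
      ((subfield_of_card_prime Fact.out hqp S).trans hqp.symm) hS) hM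

end CfsgLib.PSL2
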