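import Cfsg.Agent.Lib.PSL2.Basic

/-!
Quaternion pairs in `SL₂`: Klein four-subgroups of `PSL₂` and their normalisers in `PGL₂`.
-/

set_option autoImplicit false
set_option linter.unusedSectionVars false

open Matrix

namespace CfsgLib.PSL2

/-- Two anticommuting square roots of `-1`. -/
structure QPair {F : Type*} [Field F] (I J : Matrix (Fin 2) (Fin 2) F) : Prop where
  hI : I * I = -1
  hJ : J * J = -1
  hIJ : I * J = -(J * I)

variable {F : Type*} [Field F]

theorem trace_mul_self (A : Matrix (Fin 2) (Fin 2) F) : A * A = A.trace • A - A.det • 1 := by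
  ext i j
  fin_cases i <;> fin_cases j <;>
    simp [Matrix.mul_apply, Fin.sum_univ_two, Matrix.trace_fin_two, Matrix.det_fin_two] <;> ring

theorem det_one_add (A : Matrix (Fin 2) (Fin 2) F) : (1 + A).det = 1 + A.trace + A.det := by
  simp [Matrix.det_fin_two, Matrix.trace_fin_two, Matrix.one_apply]
  ring

theorem mul_add_mul_comm_of_trace_zero (A B : Matrix (Fin 2) (Fin 2) F) (hA : A.trace = 0) (hB : B.trace = 0) :
    A * B + B * A = (A * B).trace • 1 := by
  rw [Matrix.trace_fin_two] at hA hB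
  have ha : A 1 1 = -A 0 0 := by linear_combination hA
  have hb : B 1 1 = -B 0 0 := by linear_combination hB
  ext i j
  fin_cases i <;> fin_cases j <;>
    simp [Matrix.mul_apply, Fin.sum_univ_two, Matrix.trace_fin_two, ha, hb] <;> ring

theorem smul_one_ext {a b : F} (h : a • (1 : Matrix (Fin 2) (Fin 2) F) = b • 1) : a = b := by
  simpa using congrFun (congrFun h 0) 0

namespace QPair

variable {I J : Matrix (Fin 2) (Fin 2) F}

theorem symm (h : QPair I J) : QPair J I := ⟨h.hJ, h.hI, by rw [h.hIJ, neg_neg]⟩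

theorem isUnit_left (h : QPair I J) : IsUnit I :=
  ⟨⟨I, -I, by rw [mul_neg, h.hI, neg_neg], by rw [neg_mul, h.hI, neg_neg]⟩, rfl⟩

theorem not_scalar (h2 : (2 : F) ≠ 0) (h : QPair I J) (s : F) : I ≠ s • 1 := by
  intro e
  have hc : I * J = J * I := by rw [e]; simp
  have h0 : (2 : F) • (I * J) = 0 := by
    rw [two_smul]
    nth_rewrite 2 [h.hIJ]
    rw [hc, add_neg_cancel]
  have h1 : I * J = 0 := (smul_eq_zero.1 h0).resolve_left h2
  have : (1 : Matrix (Fin 2) (Fin 2) F) = 0 := by
    calc (1 : Matrix (Fin 2) (Fin 2) F) = I * J * (J * I) := by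
          rw [mul_assoc, ← mul_assoc J J, h.hJ, neg_mul, one_mul, mul_neg, h.hI, neg_neg]
      _ = 0 := by rw [h1, zero_mul]
  exact one_ne_zero this

theorem trace_eq_zero (h2 : (2 : F) ≠ 0) (h : QPair I J) : I.trace = 0 := by
  by_contra ht
  refine h.not_scalar h2 ((I.det - 1) / I.trace) ?_
  have e : I.trace • I = (I.det - 1) • (1 : Matrix (Fin 2) (Fin 2) F) := by
    have := trace_mul_self I
    rw [h.hI] at this
    rw [sub_smul, one_smul, sub_eq_add_neg, this]
    abel
  rw [div_eq_inv_mul, ← smul_smul, ← e, smul_smul, inv_mul_cancel₀ ht, one_smul]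

theorem det_eq_one (h2 : (2 : F) ≠ 0) (h : QPair I J) : I.det = 1 := by
  have := trace_mul_self I
  rw [h.hI, h.trace_eq_zero h2, zero_smul, zero_sub, neg_inj] at this
  exact (smul_one_ext (a := I.det) (b := 1) (by rw [one_smul, ← this])).trans rfl

theorem mulPair (h : QPair I J) : QPair I (I * J) := by
  refine ⟨h.hI, ?_, ?_⟩
  · rw [show I * J * (I * J) = I * (J * I) * J by noncomm_ring,
      show J * I = -(I * J) by rw [h.hIJ, neg_neg]]
    rw [show I * -(I * J) * J = -(I * I * (J * J)) by noncomm_ring, h.hI, h.hJ]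
    simp
  · rw [show I * J * I = I * (J * I) by rw [mul_assoc], show J * I = -(I * J) by rw [h.hIJ, neg_neg]]
    simp

theorem trace_mul_eq_zero (h2 : (2 : F) ≠ 0) (h : QPair I J) : (I * J).trace = 0 :=
  h.mulPair.symm.trace_eq_zero h2

theorem commutant (h2 : (2 : F) ≠ 0) (h : QPair I J) {M : Matrix (Fin 2) (Fin 2) F} (hMI : M * I = I * M)
    (hMJ : M * J = J * M) : ∃ s : F, M = s • 1 := by
  set t := M.trace / 2 with ht
  set N := M - t • 1 with hN
  have hNt : N.trace = 0 := by
    rw [hN, Matrix.trace_sub, Matrix.trace_smul, Matrix.trace_one, Fintype.card_fin, ht]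
    simp only [Nat.cast_ofNat, smul_eq_mul]
    field_simp
    ring
  have hNI : N * I = I * N := by simp [hN, sub_mul, mul_sub, hMI]
  have hNJ : N * J = J * N := by simp [hN, sub_mul, mul_sub, hMJ]
  have hc := mul_add_mul_comm_of_trace_zero N I hNt (h.trace_eq_zero h2)
  rw [← hNI, ← two_smul F] at hc
  have e1 : N = -((N * I).trace / 2) • I := by
    have h1 : N * I = ((N * I).trace / 2) • (1 : Matrix (Fin 2) (Fin 2) F) := by
      rw [div_eq_inv_mul, ← smul_smul, ← hc, smul_smul, inv_mul_cancel₀ h2, one_smul]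
    calc N = -(N * I * I) := by rw [mul_assoc, h.hI, mul_neg, mul_one, neg_neg]
      _ = _ := by
        generalize (N * I).trace = τ at h1 ⊢
        rw [h1]; simp
  set c := -((N * I).trace / 2) with hcdef
  refine ⟨t, ?_⟩
  have h3 : N = 0 := by
    by_contra hne
    have hc0 : c ≠ 0 := fun e => hne (by rw [e1, e, zero_smul])
    rw [e1, smul_mul_assoc, mul_smul_comm] at hNJ
    have hIJ : I * J = J * I := smul_right_injective _ hc0 hNJ
    refine h.not_scalar h2 0 ?_
    have h0 : (2 : F) • (I * J) = 0 := by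
      rw [two_smul]
      nth_rewrite 2 [h.hIJ]
      rw [hIJ, add_neg_cancel]
    have h1 : I * J = 0 := (smul_eq_zero.1 h0).resolve_left h2
    calc I = -(I * J * J) := by rw [mul_assoc, h.hJ, mul_neg, mul_one, neg_neg]
      _ = (0 : F) • 1 := by rw [h1]; simp
  rw [← sub_eq_zero, ← hN]
  exact h3

/-- Any two quaternion pairs are conjugate under `GL₂`. -/
theorem conj (h2 : (2 : F) ≠ 0) (h : QPair I J) {I' J' : Matrix (Fin 2) (Fin 2) F} (h' : QPair I' J') :
    ∃ k : Matrix (Fin 2) (Fin 2) F, k.det ≠ 0 ∧ k * I = I' * k ∧ k * J = J' * k := by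
  obtain ⟨R, hR, hRI⟩ := CfsgLib.SpecLin.SLTwo.similar_of_trace_eq (h.det_eq_one h2) (h'.det_eq_one h2)
    (h.not_scalar h2) (h'.not_scalar h2) (by rw [h.trace_eq_zero h2, h'.trace_eq_zero h2])
  set J₁ := R * J * R⁻¹ with hJ₁
  have hu : IsUnit R.det := Ne.isUnit hR
  have hRJ : R * J = J₁ * R := by rw [hJ₁, mul_assoc, Matrix.nonsing_inv_mul R hu, mul_one]
  have h1 : QPair I' J₁ := by
    refine ⟨h'.hI, ?_, ?_⟩
    · calc J₁ * J₁ = R * J * (R⁻¹ * R) * J * R⁻¹ := by rw [hJ₁]; simp only [mul_assoc]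
        _ = -1 := by
          rw [Matrix.nonsing_inv_mul R hu, mul_one, mul_assoc R, h.hJ, mul_neg, mul_one, neg_mul,
            Matrix.mul_nonsing_inv R hu]
    · calc I' * J₁ = I' * R * J * R⁻¹ := by rw [hJ₁]; simp only [mul_assoc]
        _ = R * (I * J) * R⁻¹ := by rw [← hRI, mul_assoc R]
        _ = -(R * J * (I * R⁻¹)) := by rw [h.hIJ]; simp [mul_assoc]
        _ = -(R * J * (R⁻¹ * I')) := by
          congr 2
          calc I * R⁻¹ = R⁻¹ * (R * I) * R⁻¹ := by
                rw [← mul_assoc R⁻¹, Matrix.nonsing_inv_mul R hu, one_mul]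
            _ = R⁻¹ * I' := by
                rw [hRI, mul_assoc, mul_assoc I', Matrix.mul_nonsing_inv R hu, mul_one]
        _ = -(J₁ * I') := by rw [hJ₁]; simp only [mul_assoc]
  set W := J' * J₁ with hW
  have hWI : W * I' = I' * W := by
    rw [hW, mul_assoc, show J₁ * I' = -(I' * J₁) by rw [h1.hIJ, neg_neg], mul_neg, ← mul_assoc,
      show J' * I' = -(I' * J') by rw [h'.hIJ, neg_neg], neg_mul, neg_neg, mul_assoc]
  have hdW : W.det = 1 := by
    rw [hW, det_mul, h'.symm.det_eq_one h2, h1.symm.det_eq_one h2, one_mul]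
  have key : ∀ k : Matrix (Fin 2) (Fin 2) F, k.det ≠ 0 → k * I' = I' * k → k * J₁ = J' * k →
      ∃ k : Matrix (Fin 2) (Fin 2) F, k.det ≠ 0 ∧ k * I = I' * k ∧ k * J = J' * k := fun k hk hkI hkJ =>
    ⟨k * R, by rw [det_mul]; exact mul_ne_zero hk hR,
      by rw [mul_assoc, hRI, ← mul_assoc, hkI, mul_assoc],
      by rw [mul_assoc, hRJ, ← mul_assoc, hkJ, mul_assoc]⟩
  have hWJ : W * J₁ = -J' := by rw [hW, mul_assoc, h1.hJ, mul_neg, mul_one]
  have hJW : J' * W = -J₁ := by rw [hW, ← mul_assoc, h'.hJ, neg_mul, one_mul]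
  by_cases ht : W.trace = 2
  · refine key (I' * (1 + W)) ?_ ?_ ?_
    · rw [det_mul, h'.det_eq_one h2, det_one_add, hdW, ht, one_mul]
      intro e
      exact mul_ne_zero h2 h2 (by linear_combination e)
    · rw [mul_assoc, add_mul, hWI, one_mul, mul_add, mul_add, mul_one, ← mul_assoc, ← mul_assoc]
      noncomm_ring
    · rw [mul_assoc, show (1 + W) * J₁ = J₁ + -J' by rw [add_mul, one_mul, hWJ], ← mul_assoc J',
        show J' * I' = -(I' * J') by rw [h'.hIJ, neg_neg], neg_mul, mul_assoc,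
        show J' * (1 + W) = J' + -J₁ by rw [mul_add, mul_one, hJW]]
      noncomm_ring
  · refine key (1 - W) ?_ ?_ ?_
    · rw [sub_eq_add_neg, det_one_add, Matrix.trace_neg, Matrix.det_neg, hdW]
      simp only [Fintype.card_fin, neg_one_sq, one_mul]
      intro e
      exact ht (by linear_combination -e)
    · rw [sub_mul, mul_sub, hWI, one_mul, mul_one]
    · rw [sub_mul, mul_sub, hWJ, hJW, one_mul, mul_one]
      abel

end QPair

theorem exists_qpair [Fintype F] (h2 : (2 : F) ≠ 0) : ∃ I J : Matrix (Fin 2) (Fin 2) F, QPair I J := by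
  obtain ⟨a, b, hab⟩ := CfsgLib.SpecLin.SLTwo.exists_form_eq (0 : F)
    (Or.inr (by
      intro e
      apply mul_ne_zero h2 h2
      linear_combination -e)) (-1)
  refine ⟨!![0, -1; 1, 0], !![a, b; b, -a], ⟨?_, ?_, ?_⟩⟩
  · ext i j; fin_cases i <;> fin_cases j <;> simp [Matrix.mul_apply, Fin.sum_univ_two]
  · ext i j
    fin_cases i <;> fin_cases j <;> simp [Matrix.mul_apply, Fin.sum_univ_two] <;>
      first | ring1 | linear_combination hab
  · ext i j; fin_cases i <;> fin_cases j <;> simp [Matrix.mul_apply, Fin.sum_univ_two]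

end CfsgLib.PSL2
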