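import Cfsg.Agent.Lib.PSL2.MinIndex
import Cfsg.Agent.Lib.PSL2.MinimalSimple
import Cfsg.Agent.Lib.PSL2.Involution
import Cfsg.Agent.Lib.Small.Basic

/-!
In `PSL(2, 13)`, and in `SL(2, 13)`, every non-normal subgroup has a maximal normaliser.
-/

set_option autoImplicit false

namespace CfsgLib.PSLThirteen

open Subgroup
open scoped commutatorElement

theorem isCoatom_comap {G H : Type*} [Group G] [Group H] {f : G →* H}
    (hf : Function.Surjective f) {M : Subgroup H} (hM : IsCoatom M) : IsCoatom (M.comap f) := by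
  refine ⟨fun h => hM.1 ?_, fun L hL => ?_⟩
  · rw [eq_top_iff, ← map_top_of_surjective f hf, map_le_iff_le_comap, h]
  · have hker : f.ker ≤ L := (ker_le_comap f M).trans hL.le
    have h1 : M < L.map f := by
      refine lt_of_le_of_ne ?_ fun e => hL.ne ?_
      · rw [← map_comap_eq_self_of_surjective hf M]
        exact map_mono hL.le
      · rw [e, comap_map_eq, sup_eq_left.2 hker]
    have h2 := comap_map_eq f L
    rw [hM.2 _ h1, comap_top, sup_eq_left.2 hker] at h2
    exact h2.symm

theorem map_equiv_isCoatom {G H : Type*} [Group G] [Group H] (e : G ≃* H) {L : Subgroup G}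
    (h : IsCoatom (L.map e.toMonoidHom)) : IsCoatom L := by
  have h1 := isCoatom_comap (f := e.toMonoidHom) e.surjective h
  rwa [comap_map_eq_self_of_injective e.injective] at h1

section Abstract

variable {G : Type*} [Group G] [Finite G]

/-- The Sylow subgroup of prime order in a small group is normal. -/
theorem sylow_le_of_unique {H : Subgroup G} {p : ℕ} [hp : Fact p.Prime]
    (hdvd : p ∣ Nat.card H) (hone : ∀ n : ℕ, n ∣ Nat.card H / p → n % p = 1 → n = 1)
    (hmult : ¬ p * p ∣ Nat.card G) :
    ∃ P : Sylow p G, (P : Subgroup G) ≤ H ∧ H ≤ normalizer (P : Set G) := by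
  obtain ⟨P₀⟩ : Nonempty (Sylow p H) := inferInstance
  set P' := (P₀ : Subgroup H).map H.subtype with hP'
  obtain ⟨P, hP⟩ := (P₀.isPGroup'.map H.subtype).exists_le_sylow
  have hPc : Nat.card (P : Subgroup G) ≤ Nat.card P' := by
    obtain ⟨k, hk⟩ := P.isPGroup'.exists_card_eq
    rw [hP', card_map_of_injective H.subtype_injective, hk]
    have h1 : p ∣ Nat.card (P₀ : Subgroup H) := P₀.dvd_card_of_dvd_card hdvd
    rcases Nat.lt_or_ge k 2 with h2 | h2
    · calc p ^ k ≤ p ^ 1 := Nat.pow_le_pow_right hp.out.pos (by omega)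
        _ = p := pow_one p
        _ ≤ _ := Nat.le_of_dvd Nat.card_pos h1
    · exact absurd (((pow_two p) ▸ (pow_dvd_pow p h2)).trans
        (hk ▸ card_subgroup_dvd_card (P : Subgroup G))) hmult
  have he : P' = P := eq_of_le_of_card_ge hP hPc
  refine ⟨P, he ▸ map_subtype_le _, ?_⟩
  have hcard : Nat.card (P₀ : Subgroup H) = p := by
    obtain ⟨k, hk⟩ := P₀.isPGroup'.exists_card_eq
    have h1 : p ∣ p ^ k := hk ▸ P₀.dvd_card_of_dvd_card hdvd
    rcases k with _ | _ | k
    · simp at h1; exact absurd h1 hp.out.ne_one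
    · rw [hk, pow_one]
    · exfalso
      refine hmult (Dvd.dvd.trans ?_ ((hk ▸ card_subgroup_dvd_card (P₀ : Subgroup H)).trans
        (card_subgroup_dvd_card H)))
      rw [← pow_two]
      exact pow_dvd_pow p (by omega)
  have hn : Nat.card (Sylow p H) = 1 := by
    refine hone _ ?_ ?_
    · have h2 := (P₀ : Subgroup H).card_mul_index
      rw [hcard] at h2
      rw [← h2, Nat.mul_div_cancel_left _ hp.out.pos]
      exact P₀.card_dvd_index
    · have := card_sylow_modEq_one p H
      rwa [Nat.ModEq, Nat.one_mod_eq_one.2 hp.out.ne_one] at this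
  haveI : Subsingleton (Sylow p H) := (Nat.card_eq_one_iff_unique.1 hn).1
  have hnorm : (P₀ : Subgroup H).Normal := P₀.normal_of_subsingleton
  intro h hh
  have hPP : (P : Set G) = (P' : Set G) := by rw [he]; rfl
  rw [hPP, mem_normalizer_iff]
  intro x
  constructor
  · rintro ⟨y, hy, rfl⟩
    exact ⟨⟨h, hh⟩ * y * ⟨h, hh⟩⁻¹, hnorm.conj_mem y hy _, rfl⟩
  · rintro ⟨y, hy, hyx⟩
    refine ⟨⟨h, hh⟩⁻¹ * y * ⟨h, hh⟩, by
      have := hnorm.conj_mem y hy (⟨h, hh⟩⁻¹)
      rwa [inv_inv] at this, ?_⟩
    simp only [map_mul, map_inv, Subgroup.coe_subtype] at hyx ⊢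
    rw [hyx]
    group

variable [IsSimpleGroup G] (hG : Nat.card G = 1092) (hnc : ¬ IsMulCommutative G)
  (hbig : ∀ M : Subgroup G, M ≠ ⊤ → Nat.card M ≤ 78)
  (hinv : ∀ t : G, orderOf t = 2 → Nat.card (centralizer ({t} : Set G)) = 12)

include hG hnc in
theorem index_bound {p : ℕ} [Fact p.Prime] (hp : p ∣ 1092) (P : Sylow p G) :
    Nat.card (Sylow p G) % p = 1 ∧ Nat.card (Sylow p G) ∣ (P : Subgroup G).index ∧
      1 < Nat.card (Sylow p G) ∧
      Nat.card (normalizer (P : Set G)) * Nat.card (Sylow p G) = 1092 := by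
  refine ⟨?_, P.card_dvd_index, CfsgLib.Small.one_lt_card_sylow hnc (hG ▸ hp), ?_⟩
  · have := card_sylow_modEq_one p G
    rwa [Nat.ModEq, Nat.one_mod_eq_one.2 (Fact.out : p.Prime).ne_one] at this
  · rw [P.card_eq_index_normalizer, Subgroup.card_mul_index, hG]

include hG in
theorem card_sylow_of_exact {p m : ℕ} [hp : Fact p.Prime] (h : 1092 = p * m) (hm : ¬ p ∣ m)
    (P : Sylow p G) : Nat.card (P : Subgroup G) = p ∧ (P : Subgroup G).index = m := by
  have hc : Nat.card (P : Subgroup G) = p := by
    rw [P.card_eq_multiplicity, hG, h, Nat.factorization_mul hp.out.ne_zero (by rintro rfl; simp at h),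
      Finsupp.add_apply, Nat.Prime.factorization_self hp.out,
      Nat.factorization_eq_zero_of_not_dvd hm, add_zero, pow_one]
  refine ⟨hc, ?_⟩
  have := (P : Subgroup G).card_mul_index
  rw [hc, hG, h] at this
  exact Nat.eq_of_mul_eq_mul_left hp.out.pos this

include hG hnc hbig in
theorem card_normalizer_thirteen (P : Sylow 13 G) (h13 : Nat.Prime 13) :
    Nat.card (normalizer (P : Set G)) = 78 := by
  haveI := Fact.mk h13
  obtain ⟨h1, h2, h3, h4⟩ := index_bound hG hnc (p := 13) (by norm_num) P
  rw [(card_sylow_of_exact hG (p := 13) (m := 84) (by norm_num) (by norm_num) P).2] at h2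
  have h5 : Nat.card (Sylow 13 G) ∈ Nat.divisors 84 := Nat.mem_divisors.2 ⟨h2, by norm_num⟩
  generalize Nat.card (Sylow 13 G) = n at h1 h3 h4 h5
  have : ∀ n ∈ Nat.divisors 84, n % 13 = 1 → 1 < n → n = 14 := by decide
  rw [this n h5 h1 h3] at h4
  omega

include hG hnc hbig in
theorem card_normalizer_seven (P : Sylow 7 G) [Fact (Nat.Prime 7)] :
    Nat.card (normalizer (P : Set G)) = 14 := by
  obtain ⟨h1, h2, h3, h4⟩ := index_bound hG hnc (p := 7) (by norm_num) P
  rw [(card_sylow_of_exact hG (p := 7) (m := 156) (by norm_num) (by norm_num) P).2] at h2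
  have h5 : Nat.card (Sylow 7 G) ∈ Nat.divisors 156 := Nat.mem_divisors.2 ⟨h2, by norm_num⟩
  generalize Nat.card (Sylow 7 G) = n at h1 h3 h4 h5
  have : ∀ n ∈ Nat.divisors 156, n % 7 = 1 → 1 < n → n = 78 := by decide +kernel
  rw [this n h5 h1 h3] at h4
  omega

include hG hnc hbig hinv in
theorem card_normalizer_three (P : Sylow 3 G) [Fact (Nat.Prime 3)] :
    Nat.card (normalizer (P : Set G)) = 12 := by
  haveI : Fact (Nat.Prime 7) := ⟨by norm_num⟩
  have h13p : Nat.Prime 13 := by norm_num
  haveI := Fact.mk h13p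
  obtain ⟨h1, h2, h3, h4⟩ := index_bound hG hnc (p := 3) (by norm_num) P
  obtain ⟨hPc, hPi⟩ := card_sylow_of_exact hG (p := 3) (m := 364) (by norm_num) (by norm_num) P
  rw [hPi] at h2
  have h5 : Nat.card (Sylow 3 G) ∈ Nat.divisors 364 := Nat.mem_divisors.2 ⟨h2, by norm_num⟩
  have hle : Nat.card (normalizer (P : Set G)) ≤ 78 := hbig _ (CfsgLib.Small.normalizer_ne_top
    (fun h => by rw [h, card_bot] at hPc; omega) fun h => by rw [h, card_top, hG] at hPc; omega)
  have hcases : Nat.card (normalizer (P : Set G)) ∈ ({3, 12, 21, 39} : Finset ℕ) := by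
    generalize Nat.card (Sylow 3 G) = n at h1 h3 h4 h5
    generalize Nat.card (normalizer (P : Set G)) = N at h4 hle ⊢
    have : ∀ n ∈ Nat.divisors 364, n % 3 = 1 → 1 < n → ∀ N < 79, N * n = 1092 →
        N ∈ ({3, 12, 21, 39} : Finset ℕ) := by decide +kernel
    exact this n h5 h1 h3 N (by omega) h4
  simp only [Finset.mem_insert, Finset.mem_singleton] at hcases
  rcases hcases with h | h | h | h
  · -- Burnside transfer
    exfalso
    refine CfsgLib.Small.not_normalizer_le_centralizer hnc (hG ▸ by norm_num) P ?_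
    haveI : IsCyclic (P : Subgroup G) := isCyclic_of_prime_card hPc
    have he : (P : Subgroup G) = normalizer (P : Set G) :=
      eq_of_le_of_card_ge le_normalizer
        (show Nat.card (normalizer (P : Set G)) ≤ Nat.card (P : Subgroup G) by omega)
    show normalizer (P : Set G) ≤ _
    rw [← he]
    exact (P : Subgroup G).le_centralizer
  · exact h
  · exfalso
    obtain ⟨R, -, hR⟩ := sylow_le_of_unique (p := 7) (H := normalizer (P : Set G))
      (h ▸ by norm_num) (by
        rw [h]
        intro n hn hn1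
        have : ∀ n ∈ Nat.divisors (21 / 7), n % 7 = 1 → n = 1 := by decide
        exact this n (Nat.mem_divisors.2 ⟨hn, by norm_num⟩) hn1) (hG ▸ by norm_num)
    have h6 := card_dvd_of_le hR
    rw [card_normalizer_seven hG hnc hbig R, h] at h6
    norm_num at h6
  · exfalso
    obtain ⟨R, hRle, hR⟩ := sylow_le_of_unique (p := 13) (H := normalizer (P : Set G))
      (h ▸ by norm_num) (by
        rw [h]
        intro n hn hn1
        have : ∀ n ∈ Nat.divisors (39 / 13), n % 13 = 1 → n = 1 := by decide
        exact this n (Nat.mem_divisors.2 ⟨hn, by norm_num⟩) hn1) (hG ▸ by norm_num)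
    set N := normalizer (R : Set G) with hN
    have hRc := (card_sylow_of_exact hG (p := 13) (m := 84) (by norm_num) (by norm_num) R).1
    set C := centralizer ((R : Subgroup G) : Set G) with hC
    have hCN : C ≤ N := centralizer_le_normalizer _
    haveI : IsCyclic (R : Subgroup G) := isCyclic_of_prime_card hRc
    have hRC : (R : Subgroup G) ≤ C := (R : Subgroup G).le_centralizer
    -- `P` centralises `R`
    have hPR : (P : Subgroup G) ≤ C := by
      intro x hx
      refine mem_centralizer_iff.2 fun y hy => ?_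
      have h7 : ⁅x, y⁆ ∈ (P : Subgroup G) ⊓ (R : Subgroup G) := by
        refine mem_inf.2 ⟨?_, ?_⟩
        · rw [commutatorElement_def, mul_assoc, mul_assoc]
          refine mul_mem hx ?_
          rw [← mul_assoc]
          exact (mem_normalizer_iff.1 (hRle hy) _).1 (inv_mem hx)
        · rw [commutatorElement_def]
          exact mul_mem ((mem_normalizer_iff.1 (hR (le_normalizer hx)) y).1 hy) (inv_mem hy)
      rw [inf_eq_bot_of_coprime (by rw [hPc, hRc]; norm_num), mem_bot,
        commutatorElement_eq_one_iff_mul_comm] at h7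
      exact h7.symm
    have hCc : Nat.card C = 39 := by
      have h7 := card_dvd_of_le hCN
      rw [hN, card_normalizer_thirteen hG hnc hbig R h13p] at h7
      have h8 : 3 ∣ Nat.card C := hPc.symm.dvd.trans (card_dvd_of_le hPR)
      have h9 : 13 ∣ Nat.card C := hRc.symm.dvd.trans (card_dvd_of_le hRC)
      have h10 : Nat.card C ≠ 78 := by
        intro h78
        haveI : Fact (Nat.Prime 2) := ⟨Nat.prime_two⟩
        obtain ⟨⟨t, htC⟩, ht⟩ := exists_prime_orderOf_dvd_card' (G := C) 2 (h78 ▸ by norm_num)
        rw [Subgroup.orderOf_mk] at ht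
        have h11 : (R : Subgroup G) ≤ centralizer {t} := fun y hy =>
          mem_centralizer_singleton_iff.2 (mem_centralizer_iff.1 htC y hy)
        have h12 := card_dvd_of_le h11
        rw [hRc, hinv t ht] at h12
        norm_num at h12
      have h11 : Nat.card C ∈ Nat.divisors 78 := Nat.mem_divisors.2 ⟨h7, by norm_num⟩
      generalize Nat.card C = c at h8 h9 h10 h11
      have : ∀ c ∈ Nat.divisors 78, 3 ∣ c → 13 ∣ c → c ≠ 78 → c = 39 := by decide
      exact this c h11 h8 h9 h10
    have hNP : N ≤ normalizer (P : Set G) := by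
      have hsup : (P : Subgroup G) ⊔ R = C := by
        refine eq_of_le_of_card_ge (sup_le hPR hRC) ?_
        rw [hCc]
        refine Nat.le_of_dvd Nat.card_pos ?_
        exact (show Nat.Coprime 3 13 by norm_num).mul_dvd_of_dvd_of_dvd
          (hPc.symm.dvd.trans (card_dvd_of_le le_sup_left))
          (hRc.symm.dvd.trans (card_dvd_of_le le_sup_right))
      have hCP : C ≤ normalizer (P : Set G) := hsup ▸ sup_le le_normalizer hRle
      intro g hg
      have hgC : ∀ y ∈ C, g * y * g⁻¹ ∈ C := by
        intro y hy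
        refine mem_centralizer_iff.2 fun z hz => ?_
        have hz' : g⁻¹ * z * g ∈ (R : Subgroup G) := by
          have := (mem_normalizer_iff.1 (inv_mem hg) z).1 hz
          simpa using this
        have h12 := mem_centralizer_iff.1 hy _ hz'
        calc z * (g * y * g⁻¹) = g * (g⁻¹ * z * g * y) * g⁻¹ := by group
          _ = g * (y * (g⁻¹ * z * g)) * g⁻¹ := by rw [h12]
          _ = g * y * g⁻¹ * z := by group
      apply Sylow.smul_eq_iff_mem_normalizer.1
      apply Sylow.ext
      have hle' : ((g • P : Sylow 3 G) : Subgroup G) ≤ normalizer (P : Set G) := by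
        rintro _ ⟨y, hy, rfl⟩
        exact hCP (hgC y (hPR hy))
      have h12 := (g • P).isPGroup'.inf_normalizer_sylow P
      rw [inf_eq_left.2 hle'] at h12
      exact eq_of_le_of_card_ge (h12 ▸ inf_le_right) (by
        rw [(g • P).card_eq_multiplicity, P.card_eq_multiplicity])
    have := (card_le_of_le hNP)
    rw [hN, card_normalizer_thirteen hG hnc hbig R h13p, h] at this
    omega

include hG hnc hbig hinv in
theorem card_normalizer_two (P : Sylow 2 G) [Fact (Nat.Prime 2)] :
    Nat.card (normalizer (P : Set G)) = 12 := by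
  haveI : Fact (Nat.Prime 7) := ⟨by norm_num⟩
  have h13p : Nat.Prime 13 := by norm_num
  haveI := Fact.mk h13p
  obtain ⟨h1, h2, h3, h4⟩ := index_bound hG hnc (p := 2) (by norm_num) P
  have hPc : Nat.card (P : Subgroup G) = 4 := by
    rw [P.card_eq_multiplicity, hG, show (1092 : ℕ) = 2 ^ 2 * 273 by norm_num,
      Nat.factorization_mul (by norm_num) (by norm_num), Finsupp.add_apply,
      Nat.Prime.factorization_pow Nat.prime_two, Nat.factorization_eq_zero_of_not_dvd (by norm_num)]
    simp
  have hPi : (P : Subgroup G).index = 273 := by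
    have := (P : Subgroup G).card_mul_index
    rw [hPc, hG] at this
    omega
  rw [hPi] at h2
  have h5 : Nat.card (Sylow 2 G) ∈ Nat.divisors 273 := Nat.mem_divisors.2 ⟨h2, by norm_num⟩
  have hle : Nat.card (normalizer (P : Set G)) ≤ 78 := hbig _ (CfsgLib.Small.normalizer_ne_top
    (fun h => by rw [h, card_bot] at hPc; omega) fun h => by rw [h, card_top, hG] at hPc; omega)
  have hcases : Nat.card (normalizer (P : Set G)) ∈ ({4, 12, 28, 52} : Finset ℕ) := by
    generalize Nat.card (Sylow 2 G) = n at h1 h3 h4 h5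
    generalize Nat.card (normalizer (P : Set G)) = N at h4 hle ⊢
    have : ∀ n ∈ Nat.divisors 273, n % 2 = 1 → 1 < n → ∀ N < 79, N * n = 1092 →
        N ∈ ({4, 12, 28, 52} : Finset ℕ) := by decide +kernel
    exact this n h5 h1 h3 N (by omega) h4
  simp only [Finset.mem_insert, Finset.mem_singleton] at hcases
  rcases hcases with h | h | h | h
  · exfalso
    refine CfsgLib.Small.not_normalizer_le_centralizer hnc (hG ▸ by norm_num) P ?_
    have hcomm : IsMulCommutative (P : Subgroup G) :=
      IsPGroup.isMulCommutative_of_card_eq_prime_sq (p := 2) hPc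
    have he : (P : Subgroup G) = normalizer (P : Set G) :=
      eq_of_le_of_card_ge le_normalizer
        (show Nat.card (normalizer (P : Set G)) ≤ Nat.card (P : Subgroup G) by omega)
    show normalizer (P : Set G) ≤ _
    rw [← he]
    exact (P : Subgroup G).le_centralizer
  · exact h
  · exfalso
    obtain ⟨R, -, hR⟩ := sylow_le_of_unique (p := 7) (H := normalizer (P : Set G))
      (h ▸ by norm_num) (by
        rw [h]
        intro n hn hn1
        have : ∀ n ∈ Nat.divisors (28 / 7), n % 7 = 1 → n = 1 := by decide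
        exact this n (Nat.mem_divisors.2 ⟨hn, by norm_num⟩) hn1) (hG ▸ by norm_num)
    have h6 := card_dvd_of_le hR
    rw [card_normalizer_seven hG hnc hbig R, h] at h6
    norm_num at h6
  · exfalso
    obtain ⟨R, -, hR⟩ := sylow_le_of_unique (p := 13) (H := normalizer (P : Set G))
      (h ▸ by norm_num) (by
        rw [h]
        intro n hn hn1
        have : ∀ n ∈ Nat.divisors (52 / 13), n % 13 = 1 → n = 1 := by decide
        exact this n (Nat.mem_divisors.2 ⟨hn, by norm_num⟩) hn1) (hG ▸ by norm_num)
    have h6 := card_dvd_of_le hR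
    rw [card_normalizer_thirteen hG hnc hbig R h13p, h] at h6
    norm_num at h6

include hG hnc hbig in
theorem isCoatom_of_card {K : Subgroup G}
    (hK : Nat.card K = 12 ∨ Nat.card K = 14 ∨ Nat.card K = 78) : IsCoatom K := by
  have hne : K ≠ ⊤ := by
    intro h
    rw [h, card_top, hG] at hK
    omega
  refine ⟨hne, fun M hKM => ?_⟩
  by_contra hM
  have h1 := hbig M hM
  have h2 := card_dvd_of_le hKM.le
  have h3 : Nat.card M ∣ 1092 := hG ▸ card_subgroup_dvd_card M
  have h4 : Nat.card M ≠ Nat.card K := fun e => hKM.ne (eq_of_le_of_card_ge hKM.le e.le)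
  obtain ⟨hc1, hc2⟩ : Nat.card K = 14 ∧ (Nat.card M = 28 ∨ Nat.card M = 42) := by
    generalize Nat.card M = m at h1 h2 h3 h4
    generalize Nat.card K = k at hK h2 h4
    rcases hK with rfl | rfl | rfl
    · have : ∀ m < 79, m ∣ 1092 → 12 ∣ m → m = 12 := by decide +kernel
      exact absurd (this m (by omega) h3 h2) h4
    · have : ∀ m < 79, m ∣ 1092 → 14 ∣ m → m = 14 ∨ m = 28 ∨ m = 42 := by decide +kernel
      exact ⟨rfl, (this m (by omega) h3 h2).resolve_left h4⟩
    · have : ∀ m < 79, m ∣ 1092 → 78 ∣ m → m = 78 := by decide +kernel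
      exact absurd (this m (by omega) h3 h2) h4
  haveI : Fact (Nat.Prime 7) := ⟨by norm_num⟩
  obtain ⟨R, -, hR⟩ := sylow_le_of_unique (p := 7) (H := M)
    (by rcases hc2 with e | e <;> rw [e] <;> norm_num) (by
      intro n hn hn1
      have : ∀ n ∈ Nat.divisors 4 ∪ Nat.divisors 6, n % 7 = 1 → n = 1 := by decide
      refine this n (Finset.mem_union.2 ?_) hn1
      rcases hc2 with e | e <;> rw [e] at hn
      · exact Or.inl (Nat.mem_divisors.2 ⟨hn, by norm_num⟩)
      · exact Or.inr (Nat.mem_divisors.2 ⟨hn, by norm_num⟩)) (hG ▸ by norm_num)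
  have h6 := card_le_of_le hR
  rw [card_normalizer_seven hG hnc hbig R] at h6
  omega

include hG hnc hbig in
theorem isCoatom_normalizer_of_le {H K : Subgroup G}
    (hK : Nat.card K = 12 ∨ Nat.card K = 14 ∨ Nat.card K = 78)
    (hne : normalizer (H : Set G) ≠ ⊤) (hle : K ≤ normalizer (H : Set G)) :
    IsCoatom (normalizer (H : Set G)) := by
  have h := isCoatom_of_card hG hnc hbig hK
  rwa [show normalizer (H : Set G) = K from by
    by_contra hn
    exact hne (h.2 _ (lt_of_le_of_ne hle (Ne.symm hn)))]

include hG hnc hbig hinv in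
theorem isCoatom_normalizer {H : Subgroup G} (hH : ¬ H.Normal) :
    IsCoatom (normalizer (H : Set G)) := by
  have hne : normalizer (H : Set G) ≠ ⊤ := fun h => hH (normalizer_eq_top_iff.1 h)
  have key := @isCoatom_normalizer_of_le G _ _ _ hG hnc hbig H
  have hbot : H ≠ ⊥ := fun h => hH (h ▸ normal_bot)
  have htop : H ≠ ⊤ := fun h => hH (h ▸ inferInstance)
  have h1 := hbig H htop
  have h2 : Nat.card H ∣ 1092 := hG ▸ card_subgroup_dvd_card H
  have h3 : Nat.card H ≠ 1 := fun h => hbot (Subgroup.card_eq_one.1 h)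
  haveI : Fact (Nat.Prime 2) := ⟨Nat.prime_two⟩
  haveI : Fact (Nat.Prime 3) := ⟨Nat.prime_three⟩
  haveI : Fact (Nat.Prime 7) := ⟨by norm_num⟩
  have h13p : Nat.Prime 13 := by norm_num
  haveI := Fact.mk h13p
  -- a subgroup between a self-centralising normal cyclic subgroup and its normaliser is normal
  have habove : ∀ {p : ℕ} (R : Sylow p G), Nat.card (normalizer (R : Set G)) ≤ 2 * Nat.card H →
      H ≤ normalizer (R : Set G) → normalizer (R : Set G) ≤ normalizer (H : Set G) := by
    intro p R hc hHN
    have h4 := H.relIndex_dvd_card (normalizer (R : Set G))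
    have h5 : H.relIndex (normalizer (R : Set G)) ≤ 2 := by
      have h6 := (H.subgroupOf (normalizer (R : Set G))).card_mul_index
      rw [Nat.card_congr (subgroupOfEquivOfLe hHN).toEquiv] at h6
      rw [relIndex]
      by_contra hlt
      have h7 : Nat.card H * 3 ≤ Nat.card H * (H.subgroupOf (normalizer (R : Set G))).index :=
        Nat.mul_le_mul_left _ (by omega)
      have := Nat.card_pos (α := H)
      omega
    have hn : (H.subgroupOf (normalizer (R : Set G))).Normal := by
      rw [relIndex] at h5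
      rcases Nat.lt_or_ge (H.subgroupOf (normalizer (R : Set G))).index 2 with h6 | h6
      · have : (H.subgroupOf (normalizer (R : Set G))) = ⊤ := index_eq_one.1 (by
          have := (H.subgroupOf (normalizer (R : Set G))).index_ne_zero_of_finite
          omega)
        rw [this]; infer_instance
      · exact normal_of_index_eq_two (by omega)
    exact (normal_subgroupOf_iff_le_normalizer hHN).1 hn
  have hcases : Nat.card H ∈ ({2, 3, 4, 6, 12, 7, 14, 21, 28, 42, 13, 26, 39, 52, 78} : Finset ℕ) := by
    generalize Nat.card H = d at h1 h2 h3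
    have : ∀ d < 79, d ∣ 1092 → d ≠ 1 →
        d ∈ ({2, 3, 4, 6, 12, 7, 14, 21, 28, 42, 13, 26, 39, 52, 78} : Finset ℕ) := by decide +kernel
    exact this d (by omega) h2 h3
  simp only [Finset.mem_insert, Finset.mem_singleton] at hcases
  by_cases h13 : 13 ∣ Nat.card H
  · obtain ⟨R, hRH, hR⟩ := sylow_le_of_unique (p := 13) h13 (by
      intro n hn hn1
      have hd : Nat.card H / 13 ≤ 6 := Nat.div_le_of_le_mul (by omega)
      have hd0 : 0 < Nat.card H / 13 := Nat.div_pos (Nat.le_of_dvd Nat.card_pos h13) (by norm_num)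
      have := Nat.le_of_dvd hd0 hn
      omega) (hG ▸ by norm_num)
    have hN := card_normalizer_thirteen hG hnc hbig R h13p
    refine key (Or.inr (Or.inr hN)) hne ?_
    -- the quotient of the normaliser is abelian
    have hRc := (card_sylow_of_exact hG (p := 13) (m := 84) (by norm_num) (by norm_num) R).1
    haveI : IsCyclic (R : Subgroup G) := isCyclic_of_prime_card hRc
    have hC : centralizer ((R : Subgroup G) : Set G) = R := by
      refine (eq_of_le_of_card_ge (R : Subgroup G).le_centralizer ?_).symm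
      set C := centralizer ((R : Subgroup G) : Set G)
      have h7 := card_dvd_of_le (centralizer_le_normalizer ((R : Subgroup G) : Set G))
      rw [show Nat.card (normalizer ((R : Subgroup G) : Set G)) = 78 from hN] at h7
      have hno : ∀ q : ℕ, [Fact q.Prime] → q ∣ Nat.card C → q ≠ 13 →
          ∃ K : Subgroup G, (R : Subgroup G) ≤ K ∧ (Nat.card K = 12) := by
        intro q _ hq hq13
        obtain ⟨⟨x, hxC⟩, hx⟩ := exists_prime_orderOf_dvd_card' (G := C) q hq
        rw [Subgroup.orderOf_mk] at hx
        have hle : (R : Subgroup G) ≤ centralizer {x} := fun y hy =>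
          mem_centralizer_singleton_iff.2 (mem_centralizer_iff.1 hxC y hy)
        have hq78 : q ∣ 78 := hq.trans h7
        have : q ∈ Nat.primeFactors 78 := Nat.mem_primeFactors.2 ⟨Fact.out, hq78, by norm_num⟩
        have hq' : q = 2 ∨ q = 3 := by
          have h8 : Nat.primeFactors 78 = {2, 3, 13} := by decide +kernel
          rw [h8] at this
          simp at this
          omega
        rcases hq' with rfl | rfl
        · exact ⟨_, hle, hinv x hx⟩
        · obtain ⟨P, hP⟩ := ((IsPGroup.of_card (n := 1) (by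
            rw [Nat.card_zpowers, hx, pow_one])) : IsPGroup 3 (zpowers x)).exists_le_sylow
          refine ⟨normalizer (P : Set G), hle.trans ?_, card_normalizer_three hG hnc hbig hinv P⟩
          have hPz : zpowers x = (P : Subgroup G) := eq_of_le_of_card_ge hP (by
            rw [(card_sylow_of_exact hG (p := 3) (m := 364) (by norm_num) (by norm_num) P).1,
              Nat.card_zpowers, hx])
          show centralizer {x} ≤ normalizer ((P : Subgroup G) : Set G)
          rw [← hPz]
          intro y hy
          have hy' := mem_centralizer_singleton_iff.1 hy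
          refine mem_normalizer_iff.2 fun z => ⟨fun hz => ?_, fun hz => ?_⟩
          · obtain ⟨k, rfl⟩ := hz
            refine ⟨k, ?_⟩
            rw [eq_mul_inv_iff_mul_eq]
            exact ((show Commute x y from hy'.symm).zpow_left k).eq
          · obtain ⟨k, hk⟩ := hz
            refine ⟨k, ?_⟩
            have hk' : x ^ k = y * z * y⁻¹ := hk
            have h9 : x ^ k * y = y * z := by rw [hk', inv_mul_cancel_right]
            rw [((show Commute x y from hy'.symm).zpow_left k).eq] at h9
            exact mul_left_cancel h9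
      rw [hRc]
      by_contra hlt
      push Not at hlt
      obtain ⟨q, hq, hqd, hq13⟩ : ∃ q, q.Prime ∧ q ∣ Nat.card C ∧ q ≠ 13 := by
        have h8 : Nat.card C ∈ Nat.divisors 78 := Nat.mem_divisors.2 ⟨h7, by norm_num⟩
        generalize Nat.card C = c at hlt h8
        have : ∀ c ∈ Nat.divisors 78, 13 < c → 2 ∣ c ∨ 3 ∣ c := by decide
        rcases this c h8 hlt with h9 | h9
        exacts [⟨2, Nat.prime_two, h9, by norm_num⟩, ⟨3, Nat.prime_three, h9, by norm_num⟩]
      haveI := Fact.mk hq
      obtain ⟨K, hRK, hK⟩ := hno q hqd hq13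
      have := card_dvd_of_le hRK
      rw [hRc, hK] at this
      norm_num at this
    intro g hg
    refine mem_normalizer_iff.2 fun x => ?_
    have hcj : ∀ g ∈ normalizer (R : Set G), ∀ x ∈ H, g * x * g⁻¹ ∈ H := by
      intro g hg x hx
      have h9 : ⁅g, x⁆ ∈ centralizer ((R : Subgroup G) : Set G) := by
        let f := (R : Subgroup G).normalizerMonoidHom
        have h10 : f (⁅(⟨g, hg⟩ : normalizer ((R : Subgroup G) : Set G)),
            (⟨x, hR hx⟩ : normalizer ((R : Subgroup G) : Set G))⁆) = 1 := by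
          rw [map_commutatorElement, commutatorElement_eq_one_iff_mul_comm]
          apply (IsCyclic.mulAutMulEquiv (R : Subgroup G)).injective
          rw [map_mul, map_mul, mul_comm]
        rw [← MonoidHom.mem_ker, Subgroup.normalizerMonoidHom_ker] at h10
        exact h10
      rw [hC] at h9
      have := mul_mem (hRH h9) hx
      rwa [commutatorElement_def, inv_mul_cancel_right] at this
    refine ⟨hcj g hg x, fun h => ?_⟩
    have := hcj g⁻¹ (inv_mem hg) _ h
    simpa [mul_assoc] using this
  by_cases h7 : 7 ∣ Nat.card H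
  · obtain ⟨R, hRH, hR⟩ := sylow_le_of_unique (p := 7) h7 (by
      intro n hn hn1
      have hd : Nat.card H / 7 ≤ 6 := by
        rcases hcases with h | h | h | h | h | h | h | h | h | h | h | h | h | h | h <;>
          rw [h] at h7 h13 ⊢ <;> omega
      have hd0 : 0 < Nat.card H / 7 := Nat.div_pos (Nat.le_of_dvd Nat.card_pos h7) (by norm_num)
      have := Nat.le_of_dvd hd0 hn
      omega) (hG ▸ by norm_num)
    have hN := card_normalizer_seven hG hnc hbig R
    refine key (Or.inr (Or.inl hN)) hne (habove R ?_ hR)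
    have := Nat.le_of_dvd Nat.card_pos h7
    omega
  have hd : Nat.card H = 2 ∨ Nat.card H = 3 ∨ Nat.card H = 4 ∨ Nat.card H = 6 ∨ Nat.card H = 12 := by
    rcases hcases with h | h | h | h | h | h | h | h | h | h | h | h | h | h | h <;>
      rw [h] at h7 h13 <;> omega
  rcases hd with h | h | h | h | h
  · obtain ⟨⟨t, htH⟩, ht⟩ := exists_prime_orderOf_dvd_card' (G := H) 2 h.symm.dvd
    rw [Subgroup.orderOf_mk] at ht
    refine key (Or.inl (hinv t ht)) hne ?_
    have hz : zpowers t = H := eq_of_le_of_card_ge (zpowers_le.2 htH) (by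
      rw [h, Nat.card_zpowers, ht])
    intro y hy
    have hy' := mem_centralizer_singleton_iff.1 hy
    rw [← hz]
    refine mem_normalizer_iff.2 fun z => ⟨fun hz => ?_, fun hz => ?_⟩
    · obtain ⟨k, rfl⟩ := hz
      refine ⟨k, ?_⟩
      rw [eq_mul_inv_iff_mul_eq]
      exact ((show Commute t y from hy'.symm).zpow_left k).eq
    · obtain ⟨k, hk⟩ := hz
      refine ⟨k, ?_⟩
      have hk' : t ^ k = y * z * y⁻¹ := hk
      have h9 : t ^ k * y = y * z := by rw [hk', inv_mul_cancel_right]
      rw [((show Commute t y from hy'.symm).zpow_left k).eq] at h9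
      exact mul_left_cancel h9
  · obtain ⟨P, hP⟩ := ((IsPGroup.of_card (n := 1) (by rw [h, pow_one])) : IsPGroup 3 H).exists_le_sylow
    have hPH : H = P := eq_of_le_of_card_ge hP (by
      rw [(card_sylow_of_exact hG (p := 3) (m := 364) (by norm_num) (by norm_num) P).1, h])
    exact key (Or.inl (card_normalizer_three hG hnc hbig hinv P)) hne (by rw [hPH]; exact le_rfl)
  · obtain ⟨P, hP⟩ := ((IsPGroup.of_card (n := 2) (by rw [h]; norm_num)) : IsPGroup 2 H).exists_le_sylow
    have hPH : H = P := eq_of_le_of_card_ge hP (by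
      have h5 := card_subgroup_dvd_card (P : Subgroup G)
      obtain ⟨k, hk⟩ := P.isPGroup'.exists_card_eq
      rw [hk, hG] at h5
      rcases Nat.lt_or_ge k 3 with h6 | h6
      · rw [hk, h]
        calc 2 ^ k ≤ 2 ^ 2 := Nat.pow_le_pow_right (by norm_num) (by omega)
          _ = 4 := by norm_num
      · exact absurd ((pow_dvd_pow 2 h6).trans h5) (by norm_num))
    exact key (Or.inl (card_normalizer_two hG hnc hbig hinv P)) hne (by rw [hPH]; exact le_rfl)
  · obtain ⟨R, hRH, hR⟩ := sylow_le_of_unique (p := 3) (H := H) (by rw [h]; norm_num) (by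
      rw [h]
      intro n hn hn1
      have := Nat.le_of_dvd (by norm_num) hn
      omega) (hG ▸ by norm_num)
    have hN := card_normalizer_three hG hnc hbig hinv R
    exact key (Or.inl hN) hne (habove R (by omega) hR)
  · exact key (Or.inl h) hne le_normalizer

end Abstract

theorem two_ne_zero_thirteen : (2 : ZMod 13) ≠ 0 := by decide

/-- `PSL(2, 13)`. -/
theorem psl_isCoatom_normalizer {H : Subgroup (Matrix.ProjectiveSpecialLinearGroup (Fin 2) (ZMod 13))}
    (hH : ¬ H.Normal) : IsCoatom (normalizer (H : Set (Matrix.ProjectiveSpecialLinearGroup (Fin 2) (ZMod 13)))) := by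
  haveI : Fact (Nat.Prime 13) := ⟨by norm_num⟩
  have hc : Fintype.card (ZMod 13) = 13 := ZMod.card 13
  have hG : Nat.card (Matrix.ProjectiveSpecialLinearGroup (Fin 2) (ZMod 13)) = 1092 := by
    have h := CfsgLib.PSL2.card_psl (F := ZMod 13)
    rw [hc, show Nat.gcd 2 (13 - 1) = 2 by decide] at h
    omega
  obtain ⟨-, hs, hnc⟩ := CfsgLib.PSL2.psl_not_solvable (K := ZMod 13) (by rw [hc]; norm_num)
  haveI := hs
  refine isCoatom_normalizer hG hnc (fun M hM => ?_) (fun t ht => ?_) hH
  · have h := CfsgLib.PSL2.card_proper_subgroup_le (F := ZMod 13) (by rw [hc]; decide) hM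
    rw [hc, show Nat.gcd 2 (13 - 1) = 2 by decide] at h
    omega
  · rw [CfsgLib.PSL2.card_centralizer_involution (F := ZMod 13) (by rw [hc]; decide) ht, hc]
    norm_num

/-- `SL(2, 13)`. -/
theorem sl_isCoatom_normalizer {H : Subgroup (Matrix.SpecialLinearGroup (Fin 2) (ZMod 13))}
    (hH : ¬ H.Normal) : IsCoatom (normalizer (H : Set (Matrix.SpecialLinearGroup (Fin 2) (ZMod 13)))) := by
  haveI : Fact (Nat.Prime 13) := ⟨by norm_num⟩
  set Z := center (Matrix.SpecialLinearGroup (Fin 2) (ZMod 13))
  have h2 : (2 : ZMod 13) ≠ 0 := two_ne_zero_thirteen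
  have hZ : Nat.card Z = 2 := CfsgLib.PSL2.card_center_sl h2
  let π : Matrix.SpecialLinearGroup (Fin 2) (ZMod 13) →*
      Matrix.ProjectiveSpecialLinearGroup (Fin 2) (ZMod 13) := QuotientGroup.mk' Z
  have hπ : Function.Surjective π := QuotientGroup.mk'_surjective Z
  have hker : π.ker = Z := QuotientGroup.ker_mk' Z
  have hle : normalizer (((H.map π).comap π : Subgroup _) : Set (Matrix.SpecialLinearGroup (Fin 2) (ZMod 13))) ≤ normalizer (H : Set (Matrix.SpecialLinearGroup (Fin 2) (ZMod 13))) := by
    by_cases hZH : Z ≤ H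
    · rw [comap_map_eq, hker, sup_eq_left.2 hZH]
    have hodd : ∀ z ∈ Z, z ∈ H → z = 1 := fun z hz hzH => by
      by_contra hz1
      refine hZH ?_
      have : zpowers z = Z := eq_of_le_of_card_ge (zpowers_le.2 hz) (by
        rw [hZ, Nat.card_zpowers]
        refine le_of_eq (orderOf_eq_prime ?_ hz1).symm
        have h2z := congrArg Subtype.val (pow_card_eq_one' (x := (⟨z, hz⟩ : Z)))
        rwa [hZ] at h2z)
      rw [← this]
      exact zpowers_le.2 hzH
    have hHodd : Odd (Nat.card H) := by
      rw [← Nat.not_even_iff_odd, even_iff_two_dvd]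
      intro h2d
      haveI : Fact (Nat.Prime 2) := ⟨Nat.prime_two⟩
      obtain ⟨⟨x, hx⟩, hxo⟩ := exists_prime_orderOf_dvd_card' (G := H) 2 h2d
      rw [Subgroup.orderOf_mk] at hxo
      have hxZ : x ∈ Z := CfsgLib.PSL2.mem_center_of_sq_eq_one h2 (orderOf_dvd_iff_pow_eq_one.1 hxo.dvd)
      rw [hodd x hxZ hx, orderOf_one] at hxo
      omega
    have hmem : ∀ g ∈ normalizer (((H.map π).comap π : Subgroup _) : Set (Matrix.SpecialLinearGroup (Fin 2) (ZMod 13))), ∀ h ∈ H,
        g * h * g⁻¹ ∈ H := by
      intro g hg h hh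
      have h1 := (mem_normalizer_iff.1 hg h).1 (mem_map_of_mem π hh)
      rw [comap_map_eq, hker, mem_sup_of_normal_right] at h1
      obtain ⟨y, hy, z, hz, hyz⟩ := h1
      have hpow : (g * h * g⁻¹) ^ Nat.card H = 1 := by
        rw [conj_pow, show h ^ Nat.card H = 1 from congrArg Subtype.val
          (pow_card_eq_one' (x := (⟨h, hh⟩ : H))), mul_one, mul_inv_cancel]
      have hyH : y ^ Nat.card H = 1 := congrArg Subtype.val (pow_card_eq_one' (x := (⟨y, hy⟩ : H)))
      have hz2 : z ^ 2 = 1 := by
        have h2z := congrArg Subtype.val (pow_card_eq_one' (x := (⟨z, hz⟩ : Z)))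
        rwa [hZ] at h2z
      obtain ⟨m, hm⟩ := hHodd
      rw [← hyz, (show Commute y z from mem_center_iff.1 hz y).mul_pow, hyH, one_mul, hm, pow_succ,
        pow_mul, hz2, one_pow, one_mul] at hpow
      rw [← hyz, hpow, mul_one]
      exact hy
    intro g hg
    refine mem_normalizer_iff.2 fun x => ⟨hmem g hg x, fun h => ?_⟩
    have := hmem g⁻¹ (inv_mem hg) _ h
    simpa [mul_assoc] using this
  rw [← comap_normalizer_eq_of_surjective _ hπ] at hle
  have hnn : ¬ (H.map π).Normal := by
    intro hn
    apply hH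
    rw [← normalizer_eq_top_iff, eq_top_iff]
    rw [(normalizer_eq_top_iff).2 hn, comap_top] at hle
    exact hle
  have hco := isCoatom_comap hπ (psl_isCoatom_normalizer hnn)
  have hne : normalizer (H : Set (Matrix.SpecialLinearGroup (Fin 2) (ZMod 13))) ≠ ⊤ := fun h => hH (normalizer_eq_top_iff.1 h)
  rcases hle.lt_or_eq with h | h
  · exact absurd (hco.2 _ h) hne
  · rwa [← h]

end CfsgLib.PSLThirteen
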