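import Cfsg.Agent.Lib.PSL2.Basic

/-!
Pairs of points of the projective line, tori and their dihedral normalisers.
-/

set_option autoImplicit false
set_option linter.unusedSectionVars false

open OnePoint Matrix

namespace CfsgLib.PSL2

open CfsgLib.PermSmall.Moebius

variable {F L : Type*} [Field F] [Fintype F] [DecidableEq F] [Field L] [DecidableEq L]
  (ι : F →+* L)

instance finite_pgl : Finite (ProjGenLinGroup (Fin 2) F) :=
  Finite.of_surjective _ ProjGenLinGroup.mk_surjective

/-- The stabiliser of two points. -/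
noncomputable def fixStab (x y : OnePoint L) : Subgroup (ProjGenLinGroup (Fin 2) F) :=
  (MulAction.stabilizer (Equiv.Perm (OnePoint L)) x ⊓
    MulAction.stabilizer (Equiv.Perm (OnePoint L)) y).comap (lineHom ι)

theorem mem_fixStab {x y : OnePoint L} {g : ProjGenLinGroup (Fin 2) F} :
    g ∈ fixStab ι x y ↔ lineHom ι g x = x ∧ lineHom ι g y = y := Iff.rfl

/-- The stabiliser of a pair of points. -/
noncomputable def pairStab (x y : OnePoint L) : Subgroup (ProjGenLinGroup (Fin 2) F) where
  carrier := {g | (lineHom ι g x = x ∧ lineHom ι g y = y) ∨ (lineHom ι g x = y ∧ lineHom ι g y = x)}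
  one_mem' := Or.inl ⟨by simp, by simp⟩
  mul_mem' := by
    rintro a b (⟨h1, h2⟩ | ⟨h1, h2⟩) (⟨h3, h4⟩ | ⟨h3, h4⟩)
    · exact Or.inl ⟨by rw [map_mul, Equiv.Perm.mul_apply, h3, h1], by rw [map_mul, Equiv.Perm.mul_apply, h4, h2]⟩
    · exact Or.inr ⟨by rw [map_mul, Equiv.Perm.mul_apply, h3, h2], by rw [map_mul, Equiv.Perm.mul_apply, h4, h1]⟩
    · exact Or.inr ⟨by rw [map_mul, Equiv.Perm.mul_apply, h3, h1], by rw [map_mul, Equiv.Perm.mul_apply, h4, h2]⟩
    · exact Or.inl ⟨by rw [map_mul, Equiv.Perm.mul_apply, h3, h2], by rw [map_mul, Equiv.Perm.mul_apply, h4, h1]⟩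
  inv_mem' := by
    rintro a (⟨h1, h2⟩ | ⟨h1, h2⟩)
    · exact Or.inl ⟨by rw [map_inv, Equiv.Perm.coe_inv, Equiv.symm_apply_eq, h1],
        by rw [map_inv, Equiv.Perm.coe_inv, Equiv.symm_apply_eq, h2]⟩
    · exact Or.inr ⟨by rw [map_inv, Equiv.Perm.coe_inv, Equiv.symm_apply_eq, h2],
        by rw [map_inv, Equiv.Perm.coe_inv, Equiv.symm_apply_eq, h1]⟩

theorem mem_pairStab {x y : OnePoint L} {g : ProjGenLinGroup (Fin 2) F} :
    g ∈ pairStab ι x y ↔
      (lineHom ι g x = x ∧ lineHom ι g y = y) ∨ (lineHom ι g x = y ∧ lineHom ι g y = x) := Iff.rfl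

theorem fixStab_le_pairStab (x y : OnePoint L) : fixStab ι x y ≤ pairStab ι x y :=
  fun _ h => Or.inl h

/-- A pair of points which is rational (`e = q - 1`) or Frobenius conjugate (`e = q + 1`). -/
def IsPair (Φ : L →+* L) (x y : OnePoint L) (e : ℕ) : Prop :=
  x ≠ y ∧ ((∃ x' y' : OnePoint F, x'.map ι = x ∧ y'.map ι = y) ∧ e = Fintype.card F - 1 ∨
    (¬ (∃ w : OnePoint F, w.map ι = x)) ∧ x.map Φ = y ∧ y.map Φ = x ∧ e = Fintype.card F + 1)

variable {ι} {Φ : L →+* L} (hΦ : ∀ z, Φ z = z ^ Fintype.card F)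
include hΦ

theorem isPair_of_fix {g : ProjGenLinGroup (Fin 2) F} (hg : g ≠ 1) {x y : OnePoint L} (hxy : x ≠ y)
    (hx : lineHom ι g x = x) (hy : lineHom ι g y = y) : ∃ e, IsPair ι Φ x y e := by
  by_cases hrat : ∃ w : OnePoint F, w.map ι = x
  · obtain ⟨x', rfl⟩ := hrat
    obtain ⟨y', hy'⟩ := rational_second ι hΦ hg hx hy hxy.symm
    exact ⟨_, hxy, Or.inl ⟨⟨x', y', rfl, hy'⟩, rfl⟩⟩
  · have hyx : x.map Φ ≠ x := fun h => hrat ((frob_fix_iff ι hΦ x).1 h)
    have hne := (map_ne_one_iff _ (lineHom_injective ι)).2 hg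
    have hfix : ∀ z, lineHom ι g z = z → z = x ∨ z = y := fun z hz => by
      rcases fix_le_two_perm (lineHom_mem_range ι g) hne hx hy hz with h | h | h
      · exact absurd h hxy
      · exact Or.inl h.symm
      · exact Or.inr h.symm
    have h1 : x.map Φ = y :=
      (hfix _ (by rw [frob_lineHom ι hΦ, hx])).resolve_left hyx
    have h2 : y.map Φ = x := by
      refine (hfix _ (by rw [frob_lineHom ι hΦ, hy])).resolve_right fun h => hxy ?_
      exact map_onePoint_injective Φ (h1.trans h.symm)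
    exact ⟨_, hxy, Or.inr ⟨hrat, h1, h2, rfl⟩⟩

theorem isPair_symm {x y : OnePoint L} {e : ℕ} (h : IsPair ι Φ x y e) : IsPair ι Φ y x e := by
  rcases h with ⟨hxy, ⟨⟨x', y', hx, hy⟩, he⟩ | ⟨hn, h1, h2, he⟩⟩
  · exact ⟨hxy.symm, Or.inl ⟨⟨y', x', hy, hx⟩, he⟩⟩
  · refine ⟨hxy.symm, Or.inr ⟨fun hr => hxy ?_, h2, h1, he⟩⟩
    rw [← h2, (frob_fix_iff ι hΦ y).2 hr]

omit hΦ in
theorem isCyclic_fixStab [Finite (ProjGenLinGroup (Fin 2) F)] {x y : OnePoint L} (hxy : x ≠ y) :
    IsCyclic (fixStab ι x y) := by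
  obtain ⟨B, hB, hB0⟩ := exists_glHom_pair hxy
  have hrep : ∀ g : fixStab ι x y, ∃ t : Lˣ,
      lineHom ι g = glHom L B * affinePerm t 0 * (glHom L B)⁻¹ := by
    intro g
    obtain ⟨t, b, htb⟩ := conj_affine (σ := lineHom ι g) (lineHom_mem_range ι _) (k := glHom L B)
      ⟨B, rfl⟩ (by rw [glHom_apply, hB]; exact g.2.1)
    have h0 := Equiv.congr_fun htb y
    rw [show lineHom ι g y = y from g.2.2, Equiv.Perm.mul_apply, Equiv.Perm.mul_apply, ← map_inv,
      glHom_apply B⁻¹, ← hB0, inv_smul_smul, glHom_apply, affinePerm_coe, mul_zero, zero_add] at h0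
    obtain rfl : (0 : L) = b := OnePoint.coe_eq_coe.1 (smul_left_cancel B h0)
    exact ⟨t, htb⟩
  choose t ht using hrep
  have huniq : ∀ g t', lineHom ι (g : fixStab ι x y) = glHom L B * affinePerm t' 0 * (glHom L B)⁻¹ →
      t' = t g := fun g t' h =>
    (affinePerm_inj (mul_left_cancel (mul_right_cancel (h.symm.trans (ht g))))).1
  let χ : fixStab ι x y →* Lˣ := MonoidHom.mk' t fun g h => (huniq (g * h) _ (by
    rw [Subgroup.coe_mul, map_mul, ht g, ht h,
      show affinePerm (t g * t h) (0 : L) = affinePerm (t g) 0 * affinePerm (t h) 0 by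
        rw [affinePerm_mul, mul_zero, add_zero]]
    group)).symm
  refine isCyclic_of_injective_ringHom ((Units.coeHom L).comp χ) (Units.val_injective.comp ?_)
  intro g h hgh
  apply Subtype.ext
  apply lineHom_injective ι
  rw [ht g, ht h, show t g = t h from hgh]

omit hΦ in
theorem mul_self_eq_one_of_swap [IsAlgClosed L] {g : ProjGenLinGroup (Fin 2) F} {x y : OnePoint L}
    (hxy : x ≠ y) (hx : lineHom ι g x = y) (hy : lineHom ι g y = x) : g * g = 1 := by
  by_contra hne
  obtain ⟨z, hz⟩ := exists_fix_of_isAlgClosed (lineHom_mem_range ι g)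
  have hne' := (map_ne_one_iff _ (lineHom_injective ι)).2 hne
  rcases fix_le_two_perm (lineHom_mem_range ι (g * g)) hne'
    (show lineHom ι (g * g) x = x by rw [map_mul, Equiv.Perm.mul_apply, hx, hy])
    (show lineHom ι (g * g) y = y by rw [map_mul, Equiv.Perm.mul_apply, hy, hx])
    (show lineHom ι (g * g) z = z by rw [map_mul, Equiv.Perm.mul_apply, hz, hz]) with h | h | h
  · exact hxy h
  · subst h; exact hxy (hz.symm.trans hx)
  · subst h; exact hxy (hy.symm.trans hz)

/-- The data of a non-rational point with two Galois conjugates. -/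
theorem exists_quadratic {x y : OnePoint L} (hn : ¬ ∃ w : OnePoint F, w.map ι = x)
    (h1 : x.map Φ = y) (h2 : y.map Φ = x) :
    ∃ (z : L) (s r : F), x = (z : OnePoint L) ∧ y = ((ι s - z : L) : OnePoint L) ∧
      z ^ 2 = ι s * z + ι r ∧ (∀ a : F, ι a ≠ z) ∧ (∀ a : F, a ^ 2 - s * a - r ≠ 0) := by
  cases x with
  | infty => exact absurd ⟨∞, rfl⟩ hn
  | coe z =>
    rw [OnePoint.map_some] at h1
    subst h1
    rw [OnePoint.map_some, OnePoint.coe_eq_coe] at h2
    have hfix : ∀ w : L, Φ w = w → ∃ a : F, ι a = w := fun w hw => by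
      obtain ⟨v, hv⟩ := (frob_fix_iff ι hΦ (w : OnePoint L)).1 (by rw [OnePoint.map_some, hw])
      cases v with
      | infty => exact absurd hv (OnePoint.infty_ne_coe _)
      | coe a => exact ⟨a, OnePoint.coe_eq_coe.1 (by rw [← hv, OnePoint.map_some])⟩
    obtain ⟨s, hs⟩ := hfix (z + Φ z) (by rw [map_add, h2, add_comm])
    obtain ⟨r, hr⟩ := hfix (-(z * Φ z)) (by rw [map_neg, map_mul, h2, mul_comm])
    have hz : ∀ a : F, ι a ≠ z := fun a ha => hn ⟨(a : OnePoint F), by rw [OnePoint.map_some, ha]⟩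
    refine ⟨z, s, r, rfl, by rw [hs]; simp, by rw [hs, hr]; ring, hz, fun a ha => ?_⟩
    have : (ι a - z) * (ι a - Φ z) = 0 := by
      have e := congrArg ι ha
      rw [map_sub, map_sub, map_mul, map_pow, hs, hr, map_zero] at e
      linear_combination e
    rcases mul_eq_zero.1 this with e | e
    · exact hz a (sub_eq_zero.1 e)
    · refine hz a ?_
      have e' : ι a = Φ z := sub_eq_zero.1 e
      rw [← h2, ← e', ← RingHom.comp_apply, frob_comp ι hΦ]

omit hΦ in
theorem eq_zero_of_linear {z : L} (hz : ∀ a : F, ι a ≠ z) {a b : F} (h : ι a * z + ι b = 0) :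
    a = 0 ∧ b = 0 := by
  have ha : a = 0 := by
    by_contra ha
    apply hz (-b / a)
    rw [map_div₀, map_neg, div_eq_iff ((map_ne_zero ι).2 ha)]
    linear_combination -h
  subst ha
  simp at h
  exact ⟨rfl, h⟩

/-- The torus has order `e`. -/
theorem card_fixStab {x y : OnePoint L} {e : ℕ} (h : IsPair ι Φ x y e) :
    Nat.card (fixStab ι x y) = e := by
  rcases h with ⟨hxy, ⟨⟨x', y', rfl, rfl⟩, rfl⟩ | ⟨hn, h1, h2, rfl⟩⟩
  · have hxy' : x' ≠ y' := fun e => hxy (by rw [e])
    obtain ⟨B, hB, hB0⟩ := exists_glHom_pair hxy'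
    let D : Fˣ → GL (Fin 2) F := fun t =>
      GeneralLinearGroup.mkOfDetNeZero !![(t : F), 0; 0, 1] (by simp [Matrix.det_fin_two])
    have hD : ∀ (t : Fˣ), glHom F (D t) = affinePerm t 0 := fun t => Equiv.ext fun z => by
      rw [glHom_apply]
      cases z with
      | infty => simp [D, smul_infty_eq_ite]
      | coe a => simp [D, smul_some_eq_ite]
    let ψ : Fˣ → fixStab ι (x'.map ι) (y'.map ι) := fun t =>
      ⟨ProjGenLinGroup.mk (B * D t * B⁻¹), by
        refine ⟨?_, ?_⟩
        · show lineHom ι _ (x'.map ι) = x'.map ι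
          rw [lineHom_mk_map, mul_smul, mul_smul, ← hB, inv_smul_smul, ← glHom_apply (D t), hD,
            affinePerm_infty]
        · show lineHom ι _ (y'.map ι) = y'.map ι
          rw [lineHom_mk_map, mul_smul, mul_smul, ← hB0, inv_smul_smul, ← glHom_apply (D t), hD,
            affinePerm_coe, mul_zero, zero_add]⟩
    have hbij : Function.Bijective ψ := by
      constructor
      · intro t t' htt
        have h := congrArg (fun g : fixStab ι (x'.map ι) (y'.map ι) => pglPerm F g.1) htt
        simp only [ψ, pglPerm, map_mul, map_inv] at h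
        have h' := mul_left_cancel (mul_right_cancel h)
        refine (affinePerm_inj (L := F) (b := 0) (b' := 0) ?_).1
        rw [← hD, ← hD]
        refine Equiv.ext fun z => ?_
        have := Equiv.congr_fun h' z
        rwa [← pglPerm, pglPerm_mk, pglPerm_mk, ← glHom_apply, ← glHom_apply] at this
      · rintro ⟨g, hgx, hgy⟩
        induction g using ProjGenLinGroup.induction_on with | mk A =>
        change lineHom ι _ _ = _ at hgx hgy
        rw [lineHom_mk_map] at hgx hgy
        obtain ⟨t, b, htb⟩ := conj_affine (σ := glHom F A) ⟨A, rfl⟩ (k := glHom F B) ⟨B, rfl⟩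
          (by rw [glHom_apply, glHom_apply, hB, map_onePoint_injective ι hgx])
        have h0 := Equiv.congr_fun htb y'
        rw [glHom_apply, map_onePoint_injective ι hgy, Equiv.Perm.mul_apply, Equiv.Perm.mul_apply,
          ← map_inv, glHom_apply B⁻¹, ← hB0, inv_smul_smul, glHom_apply, affinePerm_coe, mul_zero,
          zero_add] at h0
        obtain rfl : (0 : F) = b := OnePoint.coe_eq_coe.1 (smul_left_cancel B h0)
        refine ⟨t, Subtype.ext (pglPerm_injective (Equiv.ext fun z => ?_))⟩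
        show pglPerm F (ProjGenLinGroup.mk (B * D t * B⁻¹)) z = pglPerm F (ProjGenLinGroup.mk A) z
        rw [pglPerm_mk, pglPerm_mk, ← glHom_apply, ← glHom_apply, map_mul, map_mul, map_inv, hD, htb]
    rw [← Nat.card_eq_of_bijective ψ hbij, Nat.card_units, Nat.card_eq_fintype_card]
  · obtain ⟨z, s, r, rfl, rfl, hq, hz, hroot⟩ := exists_quadratic hΦ hn h1 h2
    let M : F → GL (Fin 2) F := fun D => GeneralLinearGroup.mkOfDetNeZero !![D + s, r; 1, D] (by
      rw [Matrix.det_fin_two_of]
      intro e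
      exact hroot (-D) (by linear_combination e))
    have hfix : ∀ g, lineHom ι g (z : OnePoint L) = (z : OnePoint L) →
        g ∈ fixStab ι (z : OnePoint L) ((ι s - z : L) : OnePoint L) := fun g hg =>
      ⟨hg, show lineHom ι g _ = _ by rw [← h1, frob_lineHom ι hΦ, hg]⟩
    let ψ : OnePoint F → fixStab ι (z : OnePoint L) ((ι s - z : L) : OnePoint L) := fun o =>
      ⟨o.elim 1 fun D => ProjGenLinGroup.mk (M D), by
        cases o with
        | infty => exact one_mem _
        | coe D =>
          refine hfix _ ?_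
          rw [OnePoint.elim_some, lineHom_mk, smul_some_eq_ite]
          have hne : z + ι D ≠ 0 := fun e => hz (-D) (by rw [map_neg]; linear_combination -e)
          simp only [M, GeneralLinearGroup.map_apply]
          simp
          rw [if_neg hne, OnePoint.coe_eq_coe, div_eq_iff hne]
          linear_combination -hq⟩
    have hbij : Function.Bijective ψ := by
      constructor
      · intro o o' h
        have h' := congrArg Subtype.val h
        cases o with
        | infty => cases o' with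
          | infty => rfl
          | coe D' =>
            simp only [ψ, OnePoint.elim_infty, OnePoint.elim_some] at h'
            rw [← map_one (ProjGenLinGroup.mk (n := Fin 2) (R := F)), ProjGenLinGroup.mk_eq_mk_iff] at h'
            obtain ⟨u, hu⟩ := h'
            have := congrArg (fun A : GL (Fin 2) F => A 1 0) hu
            simp [M, GeneralLinearGroup.coe_scalar, Matrix.scalar_apply] at this
        | coe D => cases o' with
          | infty =>
            simp only [ψ, OnePoint.elim_infty, OnePoint.elim_some] at h'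
            rw [← map_one (ProjGenLinGroup.mk (n := Fin 2) (R := F)), eq_comm,
              ProjGenLinGroup.mk_eq_mk_iff] at h'
            obtain ⟨u, hu⟩ := h'
            have := congrArg (fun A : GL (Fin 2) F => A 1 0) hu
            simp [M, GeneralLinearGroup.coe_scalar, Matrix.scalar_apply] at this
          | coe D' =>
            simp only [ψ, OnePoint.elim_some] at h'
            rw [ProjGenLinGroup.mk_eq_mk_iff] at h'
            obtain ⟨u, hu⟩ := h'
            have e1 := congrArg (fun A : GL (Fin 2) F => A 1 0) hu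
            have e2 := congrArg (fun A : GL (Fin 2) F => A 1 1) hu
            simp [M, Matrix.mul_apply, Fin.sum_univ_two, GeneralLinearGroup.coe_scalar,
              Matrix.scalar_apply] at e1 e2
            simp [e1] at e2
            rw [e2]
      · rintro ⟨g, hgx, hgy⟩
        induction g using ProjGenLinGroup.induction_on with | mk A =>
        change lineHom ι _ _ = _ at hgx
        rw [lineHom_mk, smul_some_eq_ite] at hgx
        split_ifs at hgx with hd
        · exact absurd hgx (OnePoint.infty_ne_coe _)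
        rw [OnePoint.coe_eq_coe, div_eq_iff hd] at hgx
        simp only [GeneralLinearGroup.map_apply] at hgx hd
        obtain ⟨ha, hb⟩ := eq_zero_of_linear hz (a := A 1 0 * s + A 1 1 - A 0 0) (b := A 1 0 * r - A 0 1)
          (by
            simp only [map_sub, map_add, map_mul]
            linear_combination (-(ι (A 1 0))) * hq - hgx)
        rcases eq_or_ne (A 1 0) 0 with hc | hc
        · refine ⟨∞, Subtype.ext ?_⟩
          show (1 : ProjGenLinGroup (Fin 2) F) = ProjGenLinGroup.mk A
          rw [← map_one (ProjGenLinGroup.mk (n := Fin 2) (R := F)), ProjGenLinGroup.mk_eq_mk_iff]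
          have h11 : A 1 1 ≠ 0 := fun e => A.det_ne_zero (by rw [Matrix.det_fin_two, hc, e]; ring)
          refine ⟨Units.mk0 _ h11, Units.ext ?_⟩
          rw [hc] at ha hb
          ext i j
          fin_cases i <;> fin_cases j <;>
            simp [GeneralLinearGroup.coe_scalar, Matrix.scalar_apply, hc]
          · linear_combination ha
          · linear_combination hb
        · refine ⟨((A 1 1 / A 1 0 : F) : OnePoint F), Subtype.ext ?_⟩
          show ProjGenLinGroup.mk (M (A 1 1 / A 1 0)) = ProjGenLinGroup.mk A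
          rw [ProjGenLinGroup.mk_eq_mk_iff]
          refine ⟨Units.mk0 _ hc, Units.ext ?_⟩
          ext i j
          fin_cases i <;> fin_cases j <;>
            simp [M, Matrix.mul_apply, Fin.sum_univ_two, GeneralLinearGroup.coe_scalar,
              Matrix.scalar_apply]
          · field_simp
            linear_combination ha
          · linear_combination hb
          · field_simp
    rw [← Nat.card_eq_of_bijective ψ hbij, card_onePoint]

theorem two_le_of_pair_even {x y : OnePoint L} {e : ℕ} (h : IsPair ι Φ x y e)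
    (hodd : Odd (Fintype.card F)) : 2 ≤ e ∧ Even e := by
  have := Fintype.one_lt_card (α := F)
  rw [Nat.odd_iff] at hodd
  rcases h with ⟨-, ⟨-, he⟩ | ⟨-, -, -, he⟩⟩ <;> exact ⟨by omega, Nat.even_iff.2 (by omega)⟩

omit hΦ in
theorem arith (Q e k : ℕ) (hQ : 1 < Q) (hodd : Q % 2 = 1) (he : e = Q + 1)
    (hk : (Q - 1) / 2 = e * k ∨ (Q + 1) / 2 = e * k) : False := by
  rcases k with _ | k
  · rw [Nat.mul_zero] at hk; omega
  · have : e ≤ e * (k + 1) := Nat.le_mul_of_pos_right e (Nat.succ_pos k)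
    omega

/-- Tori are not contained in `PSL₂` in odd characteristic. -/
theorem exists_fix_not_mem {x y : OnePoint L} {e : ℕ} (h : IsPair ι Φ x y e)
    (hodd : Odd (Fintype.card F)) : ∃ t ∈ fixStab ι x y, t ∉ pslImage F := by
  obtain ⟨he2, heven⟩ := two_le_of_pair_even hΦ h hodd
  by_cases hr : ∃ x' y' : OnePoint F, x'.map ι = x ∧ y'.map ι = y
  · obtain ⟨x', y', rfl, rfl⟩ := hr
    obtain ⟨B, hB, hB0⟩ := exists_glHom_pair (x := x') (y := y') fun e1 => h.1 (by rw [e1])
    obtain ⟨d, hd⟩ := FiniteField.exists_nonsquare (F := F) fun e1 => by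
      have h2 := FiniteField.even_card_iff_char_two.1 e1
      rw [Nat.odd_iff] at hodd
      omega
    have hd0 : d ≠ 0 := fun e1 => hd (e1 ▸ IsSquare.zero)
    let D : GL (Fin 2) F := GeneralLinearGroup.mkOfDetNeZero !![d, 0; 0, 1]
      (by simpa [Matrix.det_fin_two] using hd0)
    refine ⟨ProjGenLinGroup.mk (B * D * B⁻¹), ⟨?_, ?_⟩, fun hm => hd ?_⟩
    · show lineHom ι _ (x'.map ι) = x'.map ι
      rw [lineHom_mk_map, mul_smul, mul_smul, ← hB, inv_smul_smul]
      congr 2
      simp [D, smul_infty_eq_ite]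
    · show lineHom ι _ (y'.map ι) = y'.map ι
      rw [lineHom_mk_map, mul_smul, mul_smul, ← hB0, inv_smul_smul]
      congr 2
      simp [D, smul_some_eq_ite]
    · have hsq := mk_mem_pslImage.1 hm
      rw [← GeneralLinearGroup.val_det_apply, map_mul, map_mul, map_inv, mul_right_comm,
        mul_inv_cancel, one_mul, GeneralLinearGroup.val_det_apply] at hsq
      simpa [D, Matrix.det_fin_two] using hsq
  by_contra hall
  push Not at hall
  have := isCyclic_fixStab (ι := ι) h.1
  obtain ⟨g, hg⟩ := IsCyclic.exists_generator (α := fixStab ι x y)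
  have hord : orderOf (g : ProjGenLinGroup (Fin 2) F) = e := by
    rw [Subgroup.orderOf_coe, orderOf_eq_card_of_forall_mem_zpowers hg, card_fixStab hΦ h]
  obtain ⟨a, ha⟩ := (range_toPGL (F := F)).ge (hall g g.2)
  obtain ⟨p, hp⟩ := CharP.exists F
  have : Fact p.Prime := ⟨CharP.char_is_prime F p⟩
  have : CharP L p := charP_of_injective_ringHom ι.injective p
  have hd : ∀ n, a ^ n = 1 → e ∣ n := fun n hn => by
    rw [← hord, ← ha]
    exact orderOf_dvd_of_pow_eq_one (by rw [← map_pow, hn, map_one])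
  have h2 := gcd_eq_two hodd
  have hq := Fintype.one_lt_card (α := F)
  have hodd' := Nat.odd_iff.1 hodd
  rcases psl_pow_trichotomy p a with hh | hh | hh
  · have hne : lineHom ι (g : ProjGenLinGroup (Fin 2) F) ≠ 1 :=
      (map_ne_one_iff _ (lineHom_injective ι)).2 fun e1 => by rw [e1, orderOf_one] at hord; omega
    exact h.1 ((pow_eq_one_iff_perm p (lineHom_mem_range ι _) hne g.2.1).1
      (by rw [← map_pow, ← ha, ← map_pow, hh, map_one, map_one]) y g.2.2).symm
  all_goals
    rw [h2] at hh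
    obtain ⟨k, hk⟩ := hd _ hh
    refine arith _ e k hq hodd' ?_ (by first | exact Or.inl hk | exact Or.inr hk)
    rcases h with ⟨-, ⟨hr', -⟩ | ⟨-, -, -, he⟩⟩
    · exact absurd hr' hr
    · exact he

/-- Every pair has an involution in `PSL₂` exchanging it. -/
theorem exists_swap [IsAlgClosed L] {x y : OnePoint L} {e : ℕ} (h : IsPair ι Φ x y e) :
    ∃ w ∈ pslImage F, lineHom ι w x = y ∧ lineHom ι w y = x := by
  suffices hw : ∃ w, lineHom ι w x = y ∧ lineHom ι w y = x by
    obtain ⟨w, hwx, hwy⟩ := hw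
    by_cases hm : w ∈ pslImage F
    · exact ⟨w, hm, hwx, hwy⟩
    · have hodd : Odd (Fintype.card F) := by
        rw [← Nat.not_even_iff_odd]
        intro he
        exact hm (pslImage_eq_top_of_even he ▸ Subgroup.mem_top w)
      obtain ⟨t, ⟨htx, hty⟩, htn⟩ := exists_fix_not_mem hΦ h hodd
      refine ⟨w * t, mul_mem_pslImage_of_not_mem hm htn, ?_, ?_⟩ <;>
        rw [map_mul, Equiv.Perm.mul_apply]
      · rw [show lineHom ι t x = x from htx, hwx]
      · rw [show lineHom ι t y = y from hty, hwy]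
  rcases h with ⟨hxy, ⟨⟨x', y', rfl, rfl⟩, rfl⟩ | ⟨hn, h1, h2, rfl⟩⟩
  · have hxy' : x' ≠ y' := fun e => hxy (by rw [e])
    obtain ⟨B, hB, hB0⟩ := exists_glHom_pair hxy'
    let W : GL (Fin 2) F := GeneralLinearGroup.mkOfDetNeZero !![0, 1; 1, 0] (by simp [Matrix.det_fin_two])
    refine ⟨ProjGenLinGroup.mk (B * W * B⁻¹), ?_, ?_⟩
    · rw [lineHom_mk_map, mul_smul, mul_smul, ← hB, inv_smul_smul, ← hB0]
      congr 2
      simp [W, smul_infty_eq_ite]
    · rw [lineHom_mk_map, mul_smul, mul_smul, ← hB0, inv_smul_smul, ← hB]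
      congr 2
      simp [W, smul_some_eq_ite]
  · obtain ⟨z, s, r, rfl, rfl, hq, hz, hroot⟩ := exists_quadratic hΦ hn h1 h2
    refine ⟨ProjGenLinGroup.mk (GeneralLinearGroup.mkOfDetNeZero !![-1, s; 0, 1]
      (by simp [Matrix.det_fin_two])), ?_, ?_⟩ <;>
    · rw [lineHom_mk, smul_some_eq_ite]
      simp [neg_add_eq_sub]

/-- A normalised cyclic group of semisimple elements is contained in a pair stabiliser. -/
theorem exists_pair_of_normalized [IsAlgClosed L] (p : ℕ) [Fact p.Prime] [CharP L p]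
    {C H : Subgroup (ProjGenLinGroup (Fin 2) F)} [IsCyclic C] (hC1 : C ≠ ⊥)
    (hp : ∀ c ∈ C, c ^ p = 1 → c = 1) (hn : ∀ h ∈ H, ∀ c ∈ C, h * c * h⁻¹ ∈ C) :
    ∃ x y e, IsPair ι Φ x y e ∧ C ≤ fixStab ι x y ∧ H ≤ pairStab ι x y := by
  obtain ⟨⟨c, hc⟩, hgen⟩ := IsCyclic.exists_generator (α := C)
  have hc1 : c ≠ 1 := by
    rintro rfl
    refine hC1 ((Subgroup.eq_bot_iff_forall _).2 fun a ha => ?_)
    obtain ⟨i, hi⟩ := hgen ⟨a, ha⟩
    simpa using (congrArg Subtype.val hi).symm
  have hcne := (map_ne_one_iff _ (lineHom_injective ι)).2 hc1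
  obtain ⟨x, hx⟩ := exists_fix_of_isAlgClosed (lineHom_mem_range ι c)
  obtain ⟨y, hyx, hy⟩ : ∃ y, y ≠ x ∧ lineHom ι c y = y := by
    by_contra hno
    push Not at hno
    refine hc1 (hp c hc (lineHom_injective ι ?_))
    rw [map_pow, map_one, pow_eq_one_iff_perm p (lineHom_mem_range ι c) hcne hx]
    intro w hw
    by_contra hwx
    exact hno w hwx hw
  obtain ⟨e, he⟩ := isPair_of_fix hΦ hc1 hyx.symm hx hy
  have hle : C ≤ fixStab ι x y := by
    intro a ha
    obtain ⟨i, hi⟩ := hgen ⟨a, ha⟩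
    have hi' : c ^ i = a := by simpa using congrArg Subtype.val hi
    rw [← hi']
    exact zpow_mem (show c ∈ fixStab ι x y from ⟨hx, hy⟩) i
  refine ⟨x, y, e, he, hle, fun g hg => ?_⟩
  have hd : g⁻¹ * c * g ∈ C := by simpa using hn g⁻¹ (inv_mem hg) c hc
  obtain ⟨hdx, hdy⟩ := hle hd
  have key : ∀ w, lineHom ι (g⁻¹ * c * g) w = w → lineHom ι g w = x ∨ lineHom ι g w = y := by
    intro w hw
    have hfix : lineHom ι c (lineHom ι g w) = lineHom ι g w := by
      conv_rhs => rw [← hw, ← Equiv.Perm.mul_apply, ← map_mul, show g * (g⁻¹ * c * g) = c * g by group,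
        map_mul, Equiv.Perm.mul_apply]
    rcases fix_le_two_perm (lineHom_mem_range ι c) hcne hx hy hfix with h | h | h
    · exact absurd h hyx.symm
    · exact Or.inl h.symm
    · exact Or.inr h.symm
  have hinj := (lineHom ι g).injective
  rcases key x hdx with h | h <;> rcases key y hdy with h' | h'
  · exact absurd (hinj (h.trans h'.symm)) hyx.symm
  · exact Or.inl ⟨h, h'⟩
  · exact Or.inr ⟨h, h'⟩
  · exact absurd (hinj (h.trans h'.symm)) hyx.symm

omit hΦ in
theorem exists_isPair_split : ∃ x y, IsPair ι Φ x y (Fintype.card F - 1) :=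
  ⟨(∞ : OnePoint L), ((0 : L) : OnePoint L), OnePoint.infty_ne_coe _,
    Or.inl ⟨⟨∞, ((0 : F) : OnePoint F), rfl, by rw [OnePoint.map_some, map_zero]⟩, rfl⟩⟩

/-- The roots of `X ^ (q²) - X` are `F + F z` for a non-rational one `z`. -/
theorem exists_affine {z w : L} (hz : ∀ a : F, ι a ≠ z) (hz2 : Φ (Φ z) = z) (hw2 : Φ (Φ w) = w) :
    ∃ a b : F, w = ι a * z + ι b := by
  classical
  by_contra hno
  push Not at hno
  have hinj : Function.Injective (fun ab : F × F => ι ab.1 * z + ι ab.2) := by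
    rintro ⟨a, b⟩ ⟨a', b'⟩ h
    obtain ⟨h1, h2⟩ := eq_zero_of_linear hz (a := a - a') (b := b - b')
      (by simp only [map_sub]; linear_combination h)
    exact Prod.ext (sub_eq_zero.1 h1) (sub_eq_zero.1 h2)
  have hq := Fintype.one_lt_card (α := F)
  have hq2 : 1 < Fintype.card F ^ 2 := Nat.one_lt_pow (by norm_num) hq
  have hΦΦ : ∀ v, Φ (Φ v) = v ^ (Fintype.card F ^ 2) := fun v => by rw [hΦ, hΦ, ← pow_mul, sq]
  have hroot : ∀ v : L, Φ (Φ v) = v →
      v ∈ (Polynomial.X ^ (Fintype.card F ^ 2) - Polynomial.X : Polynomial L).roots := fun v hv => by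
    rw [Polynomial.mem_roots (FiniteField.X_pow_card_sub_X_ne_zero _ hq2)]
    simp [← hΦΦ, hv]
  have hsub : (insert w (Finset.univ.image fun ab : F × F => ι ab.1 * z + ι ab.2)).val ⊆
      (Polynomial.X ^ (Fintype.card F ^ 2) - Polynomial.X : Polynomial L).roots := by
    intro v hv
    rw [Finset.mem_val, Finset.mem_insert, Finset.mem_image] at hv
    apply hroot
    rcases hv with rfl | ⟨⟨a, b⟩, -, rfl⟩
    · exact hw2
    · have hc : ∀ a, Φ (ι a) = ι a := RingHom.congr_fun (frob_comp ι hΦ)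
      simp only [map_add, map_mul, hc, hz2]
  have h1 := Polynomial.card_le_degree_of_subset_roots hsub
  rw [Finset.card_insert_of_notMem (by
      rw [Finset.mem_image]; rintro ⟨⟨a, b⟩, -, e⟩; exact hno a b e.symm),
    Finset.card_image_of_injective _ hinj, Finset.card_univ, Fintype.card_prod,
    FiniteField.X_pow_card_sub_X_natDegree_eq _ hq2, sq] at h1
  omega

/-- Pairs of the same type are conjugate under `PSL₂`. -/
theorem exists_pair_conj [IsAlgClosed L] {x y x₁ y₁ : OnePoint L} {e : ℕ} (h : IsPair ι Φ x y e)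
    (h' : IsPair ι Φ x₁ y₁ e) : ∃ g ∈ pslImage F, lineHom ι g x = x₁ ∧ lineHom ι g y = y₁ := by
  suffices hg : ∃ g, lineHom ι g x = x₁ ∧ lineHom ι g y = y₁ by
    obtain ⟨g, hgx, hgy⟩ := hg
    by_cases hm : g ∈ pslImage F
    · exact ⟨g, hm, hgx, hgy⟩
    · have hodd : Odd (Fintype.card F) := by
        rw [← Nat.not_even_iff_odd]
        intro he
        exact hm (pslImage_eq_top_of_even he ▸ Subgroup.mem_top g)
      obtain ⟨t, ⟨htx, hty⟩, htn⟩ := exists_fix_not_mem hΦ h hodd
      refine ⟨g * t, mul_mem_pslImage_of_not_mem hm htn, ?_, ?_⟩ <;>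
        rw [map_mul, Equiv.Perm.mul_apply]
      · rw [show lineHom ι t x = x from htx, hgx]
      · rw [show lineHom ι t y = y from hty, hgy]
  have := Fintype.one_lt_card (α := F)
  rcases h with ⟨hxy, ⟨⟨a, b, rfl, rfl⟩, he⟩ | ⟨hn, h1, h2, he⟩⟩ <;>
    rcases h' with ⟨hxy', ⟨⟨a', b', rfl, rfl⟩, he'⟩ | ⟨hn', h1', h2', he'⟩⟩
  · obtain ⟨B, hB, hB0⟩ := exists_glHom_pair (x := a) (y := b) fun e => hxy (by rw [e])
    obtain ⟨B', hB', hB0'⟩ := exists_glHom_pair (x := a') (y := b') fun e => hxy' (by rw [e])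
    refine ⟨ProjGenLinGroup.mk (B' * B⁻¹), ?_, ?_⟩ <;> rw [lineHom_mk_map, mul_smul]
    · rw [← hB, inv_smul_smul, hB']
    · rw [← hB0, inv_smul_smul, hB0']
  · omega
  · omega
  · obtain ⟨z, s, r, rfl, rfl, hq, hz, -⟩ := exists_quadratic hΦ hn h1 h2
    obtain ⟨w, s', r', rfl, rfl, hq', hw, -⟩ := exists_quadratic hΦ hn' h1' h2'
    have e1 := h1; have e2 := h2; have e1' := h1'; have e2' := h2'
    simp only [OnePoint.map_some, OnePoint.coe_eq_coe] at e1 e2 e1' e2'
    obtain ⟨a, b, hab⟩ := exists_affine hΦ hz (w := w) (by rw [e1, e2]) (by rw [e1', e2'])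
    have ha : a ≠ 0 := by
      rintro rfl
      exact hw b (by rw [hab, map_zero, zero_mul, zero_add])
    refine ⟨ProjGenLinGroup.mk (GeneralLinearGroup.mkOfDetNeZero !![a, b; 0, 1]
      (by simpa [Matrix.det_fin_two] using ha)), ?_, ?_⟩
    · rw [lineHom_mk, smul_some_eq_ite]
      simp [hab]
    · rw [← h1, ← h1', frob_lineHom ι hΦ]
      congr 1
      rw [lineHom_mk, smul_some_eq_ite]
      simp [hab]

theorem exists_isPair_nonsplit [IsAlgClosed L] :
    ∃ x y, IsPair ι Φ x y (Fintype.card F + 1) := by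
  classical
  obtain ⟨p, hp⟩ := CharP.exists F
  have : Fact p.Prime := ⟨CharP.char_is_prime F p⟩
  have : CharP L p := charP_of_injective_ringHom ι.injective p
  have hq := Fintype.one_lt_card (α := F)
  obtain ⟨n, -, hn⟩ := FiniteField.card F p
  have hsep : (Polynomial.X ^ (Fintype.card F ^ 2) - Polynomial.X : Polynomial L).Separable :=
    galois_poly_separable p _ (dvd_pow (hn ▸ dvd_pow_self p n.ne_zero) two_ne_zero)
  have hcard := Polynomial.card_rootSet_eq_natDegree (F := L) (K := L) hsep (IsAlgClosed.splits _)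
  rw [FiniteField.X_pow_card_sub_X_natDegree_eq _ (Nat.one_lt_pow (by norm_num) hq)] at hcard
  obtain ⟨z, hz, hzn⟩ : ∃ z ∈ (Polynomial.X ^ (Fintype.card F ^ 2) - Polynomial.X : Polynomial L).rootSet L,
      z ∉ (Finset.univ.image ι : Finset L) := by
    by_contra hall
    push Not at hall
    have h1 := Finset.card_le_card (s := ((Polynomial.X ^ (Fintype.card F ^ 2) - Polynomial.X :
      Polynomial L).rootSet L).toFinset) (t := Finset.univ.image ι)
      (fun v hv => hall v (Set.mem_toFinset.1 hv))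
    rw [Set.toFinset_card, hcard, Finset.card_image_of_injective _ ι.injective, Finset.card_univ] at h1
    nlinarith
  rw [Polynomial.mem_rootSet] at hz
  have hz2 : Φ (Φ z) = z := by
    have := hz.2
    simp [sub_eq_zero] at this
    rw [hΦ, hΦ, ← pow_mul, ← sq, this]
  have hrat : ¬ ∃ w : OnePoint F, w.map ι = (z : OnePoint L) := by
    rintro ⟨w, hw⟩
    cases w with
    | infty => exact OnePoint.infty_ne_coe _ hw
    | coe a =>
      rw [OnePoint.map_some, OnePoint.coe_eq_coe] at hw
      exact hzn (Finset.mem_image.2 ⟨a, Finset.mem_univ _, hw⟩)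
  refine ⟨(z : OnePoint L), ((z : OnePoint L)).map Φ, fun e => hrat ((frob_fix_iff ι hΦ _).1 e.symm),
    Or.inr ⟨hrat, rfl, ?_, rfl⟩⟩
  rw [OnePoint.map_some, OnePoint.map_some, hz2]

end CfsgLib.PSL2
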